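import Mathlib
import Cfsg.Agent.OddHalf.D8.Fi23.Loc

-- merged: Cfsg.Agent.OddHalf.D8.Fi23.Dbl
section

/-!
# `H ⊔ ⟨t⟩` for an involution `t` centralizing `H` (helper907)
-/

set_option autoImplicit false

namespace Cfsg.Agent.OddHalf.D8.Fi23

open Subgroup

variable {G : Type*} [Group G]

/-- `H × ⟨t⟩` -/
def dbl (t : G) (H : Subgroup G) : Subgroup G := H ⊔ zpowers t

theorem le_dbl (t : G) (H : Subgroup G) : H ≤ dbl t H := le_sup_left

theorem t_mem_dbl (t : G) (H : Subgroup G) : t ∈ dbl t H :=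
  (le_sup_right : zpowers t ≤ _) (mem_zpowers t)

theorem mem_dbl {t : G} {H : Subgroup G} (tt : t * t = 1) (hc : ∀ h ∈ H, h * t = t * h) {x : G} :
    x ∈ dbl t H ↔ x ∈ H ∨ t * x ∈ H := by
  constructor
  · let M : Subgroup G :=
      { carrier := {x | x ∈ H ∨ t * x ∈ H}
        one_mem' := Or.inl H.one_mem
        mul_mem' := by
          rintro x y (hx | hx) (hy | hy)
          · exact Or.inl (H.mul_mem hx hy)
          · right
            have : t * (x * y) = x * (t * y) := by rw [← mul_assoc, ← hc x hx, mul_assoc]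
            rw [this]; exact H.mul_mem hx hy
          · right
            rw [← mul_assoc]; exact H.mul_mem hx hy
          · left
            have h1 : x * y = (t * x) * (t * y) := by
              have h2 : t * x * t = t * (t * x) := hc _ hx
              calc x * y = (t * t) * x * y := by rw [tt, one_mul]
                _ = t * (t * x) * y := by group
                _ = t * x * t * y := by rw [h2]
                _ = (t * x) * (t * y) := by group
            rw [h1]; exact H.mul_mem hx hy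
        inv_mem' := by
          rintro x (hx | hx)
          · exact Or.inl (H.inv_mem hx)
          · right
            have ht : t⁻¹ = t := inv_eq_of_mul_eq_one_left tt
            have h1 : (t * x)⁻¹ ∈ H := H.inv_mem hx
            have h2 : (t * x)⁻¹ = t * x⁻¹ := by
              have h3 := hc _ h1
              rw [mul_inv_rev, ht] at h3 ⊢
              calc x⁻¹ * t = x⁻¹ * t * (t * t) := by rw [tt, mul_one]
                _ = (x⁻¹ * t * t) * t := by group
                _ = (t * (x⁻¹ * t)) * t := by rw [h3]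
                _ = t * x⁻¹ * (t * t) := by group
                _ = t * x⁻¹ := by rw [tt, mul_one]
            rw [← h2]; exact h1 }
    have h1 : dbl t H ≤ M := by
      refine sup_le (fun x hx => Or.inl hx) ?_
      rw [zpowers_le]
      right
      show t * t ∈ H
      rw [tt]; exact H.one_mem
    exact fun hx => h1 hx
  · rintro (h | h)
    · exact le_dbl t H h
    · have h1 : x = t⁻¹ * (t * x) := by group
      rw [h1]
      exact (dbl t H).mul_mem ((dbl t H).inv_mem (t_mem_dbl t H)) (le_dbl t H h)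

theorem dbl_comm {t : G} {H : Subgroup G} (tt : t * t = 1) (hc : ∀ h ∈ H, h * t = t * h) {x : G}
    (hx : x ∈ dbl t H) : x * t = t * x := by
  rcases (mem_dbl tt hc).1 hx with h | h
  · exact hc x h
  · have h1 := hc _ h
    have h2 : t * (x * t) = t * (t * x) := by rw [← mul_assoc]; exact h1
    exact mul_left_cancel h2

theorem card_dbl [Finite G] {t : G} {H : Subgroup G} (tt : t * t = 1) (hc : ∀ h ∈ H, h * t = t * h)
    (ht : t ∉ H) : Nat.card (dbl t H) = 2 * Nat.card H := by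
  classical
  have h1 : (dbl t H : Set G) = (H : Set G) ∪ (fun x => t * x) '' (H : Set G) := by
    ext x
    rw [SetLike.mem_coe, mem_dbl tt hc, Set.mem_union, Set.mem_image]
    refine or_congr Iff.rfl ⟨fun h => ⟨t * x, h, ?_⟩, ?_⟩
    · rw [← mul_assoc, tt, one_mul]
    · rintro ⟨y, hy, rfl⟩
      rw [← mul_assoc, tt, one_mul]; exact hy
  have h2 : Disjoint (H : Set G) ((fun x => t * x) '' (H : Set G)) := by
    rw [Set.disjoint_left]
    rintro x hx ⟨y, hy, rfl⟩
    apply ht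
    have h3 : t = t * y * y⁻¹ := by group
    rw [h3]
    exact H.mul_mem hx (H.inv_mem hy)
  have e1 : Nat.card (dbl t H) = (dbl t H : Set G).ncard := rfl
  have e2 : Nat.card H = (H : Set G).ncard := rfl
  rw [e1, e2, h1, Set.ncard_union_eq h2 (Set.toFinite _) (Set.toFinite _),
    Set.ncard_image_of_injective _ (mul_right_injective t)]
  ring

theorem dbl_mono {t : G} {H L : Subgroup G} (h : H ≤ L) : dbl t H ≤ dbl t L := sup_le_sup_right h _

end Cfsg.Agent.OddHalf.D8.Fi23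

end

-- merged: Cfsg.Agent.OddHalf.D8.Fi23.Fr
section

/-!
# The frame `C_G(t) = ⟨t⟩ × K`, `K = Fi₂₃` (helper907)

`T = ⟨t⟩ × S`, `A* = ⟨t⟩ × A`: `t` is not conjugate to an element of `K`; `T` is a maximal 2-subgroup of `C(t)` and
`A*` the only elementary abelian subgroup of order `2¹²` of `T`.
-/

set_option autoImplicit false

namespace Cfsg.Agent.OddHalf.D8.Fi23

open Subgroup Cfsg
open scoped commutatorElement

/-- the frame -/
structure Fr {G : Type*} [Group G] (t : G) (K A S : Subgroup G) (a : Fin 23 → G) : Prop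
    extends Loc K A S a where
  tt : t * t = 1
  tK : t ∉ K
  com : ∀ k ∈ K, k * t = t * k
  cent : ∀ g, g * t = t * g → g ∈ K ∨ t * g ∈ K

section Loc

namespace Loc

variable {G : Type*} [Group G] {K A S : Subgroup G} {a : Fin 23 → G}

theorem AK (L : Loc K A S a) : A ≤ K := L.AS.trans L.SK

theorem aK (L : Loc K A S a) (i : Fin 23) : a i ∈ K := L.AK (L.mem i)

theorem J_perf (L : Loc K A S a) (i : Fin 23) :
    ⁅K ⊓ centralizer ({a i} : Set G), K ⊓ centralizer ({a i} : Set G)⁆ =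
      K ⊓ centralizer ({a i} : Set G) := by
  have := (L.qs i).1
  exact Subgroup.commutator_eq_self

theorem K_perf (L : Loc K A S a) : ⁅K, K⁆ = K := by
  apply le_antisymm (Subgroup.commutator_le_self K)
  refine (L.gen 0 1 (by decide)).trans (sup_le ?_ ?_)
  · rw [← L.J_perf 0]; exact commutator_mono inf_le_left inf_le_left
  · rw [← L.J_perf 1]; exact commutator_mono inf_le_left inf_le_left

theorem AJ (L : Loc K A S a) (i : Fin 23) : A ≤ K ⊓ centralizer ({a i} : Set G) := fun x hx =>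
  ⟨L.AK hx, mem_centralizer_singleton_iff.2 (L.comm hx (L.mem i))⟩

theorem two (L : Loc K A S a) {i j i' j' : Fin 23} (h1 : i ≠ j) (h2 : i' ≠ j') :
    ∃ n ∈ K, n ∈ normalizer (A : Set G) ∧ n * a i * n⁻¹ = a i' ∧ n * a j * n⁻¹ = a j' := by
  obtain ⟨k, h3, h4⟩ := exists_third i j
  obtain ⟨k', h5, h6⟩ := exists_third i' j'
  obtain ⟨n, hn, hn', e1, e2, -⟩ := L.three i j k i' j' k' h1 h3 h4 h2 h5 h6
  exact ⟨n, hn, hn', e1, e2⟩

theorem one (L : Loc K A S a) (i i' : Fin 23) :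
    ∃ n ∈ K, n ∈ normalizer (A : Set G) ∧ n * a i * n⁻¹ = a i' := by
  obtain ⟨j, -, h1, -⟩ := exists_two i
  obtain ⟨j', -, h2, -⟩ := exists_two i'
  obtain ⟨n, hn, hn', e1, -⟩ := L.two h1 h2
  exact ⟨n, hn, hn', e1⟩

/-- `C_K(K) = 1` -/
theorem center_K (L : Loc K A S a) {x : G} (hx : x ∈ K) (hc : ∀ y ∈ K, x * y = y * x) : x = 1 := by
  rcases L.cen 0 x hx (fun y hy _ => hc y hy) with h | h
  · exact h
  rcases L.cen 1 x hx (fun y hy _ => hc y hy) with h' | h'
  · exact h'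
  exact absurd (L.a_inj (h.symm.trans h')) (by decide)

end Loc

end Loc

namespace Fr

variable {G : Type*} [Group G] {t : G} {K A S : Subgroup G} {a : Fin 23 → G}

theorem t1 (F : Fr t K A S a) : t ≠ 1 := fun h => F.tK (h ▸ K.one_mem)

theorem t_inv (F : Fr t K A S a) : t⁻¹ = t := inv_eq_of_mul_eq_one_left F.tt

theorem comS (F : Fr t K A S a) : ∀ s ∈ S, s * t = t * s := fun s hs => F.com s (F.SK hs)

theorem comA (F : Fr t K A S a) : ∀ s ∈ A, s * t = t * s := fun s hs => F.com s (F.AK hs)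

theorem tS (F : Fr t K A S a) : t ∉ S := fun h => F.tK (F.SK h)

theorem tA (F : Fr t K A S a) : t ∉ A := fun h => F.tK (F.AK h)

theorem mem_cent (F : Fr t K A S a) {g : G} : g * t = t * g ↔ g ∈ dbl t K :=
  ⟨fun h => (mem_dbl F.tt F.com).2 (F.cent g h), fun h => dbl_comm F.tt F.com h⟩

theorem centralizer_eq (F : Fr t K A S a) : centralizer ({t} : Set G) = dbl t K := by
  ext g
  rw [mem_centralizer_singleton_iff]
  exact F.mem_cent

/-- commutators of `C(t)` lie in `K` -/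
theorem der_le (F : Fr t K A S a) : ⁅centralizer ({t} : Set G), centralizer ({t} : Set G)⁆ ≤ K := by
  rw [Subgroup.commutator_le]
  intro g hg h hh
  rw [F.centralizer_eq, mem_dbl F.tt F.com] at hg hh
  have key : ∀ x ∈ K, ∀ y ∈ K, ⁅x, y⁆ ∈ K := fun x hx y hy => by
    rw [commutatorElement_def]
    exact K.mul_mem (K.mul_mem (K.mul_mem hx hy) (K.inv_mem hx)) (K.inv_mem hy)
  have e1 : ∀ x ∈ K, ∀ z : G, z * t = t * z → ⁅t * x, z⁆ = ⁅x, z⁆ := by
    intro x hx z hz
    have h1 := F.com x hx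
    have hz' : z⁻¹ * t = t * z⁻¹ := by
      calc z⁻¹ * t = z⁻¹ * (t * z) * z⁻¹ := by group
        _ = z⁻¹ * (z * t) * z⁻¹ := by rw [hz]
        _ = t * z⁻¹ := by group
    have hx' : x⁻¹ * t = t * x⁻¹ := F.com _ (K.inv_mem hx)
    rw [commutatorElement_def, commutatorElement_def, mul_inv_rev, F.t_inv]
    calc t * x * z * (x⁻¹ * t) * z⁻¹ = t * x * z * x⁻¹ * (t * z⁻¹) := by group
      _ = t * x * z * x⁻¹ * (z⁻¹ * t) := by rw [hz']
      _ = t * (x * z * x⁻¹ * z⁻¹) * t := by group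
      _ = t * (t * (x * z * x⁻¹ * z⁻¹)) := by
          rw [mul_assoc]
          congr 1
          calc x * z * x⁻¹ * z⁻¹ * t = x * z * x⁻¹ * (z⁻¹ * t) := by group
            _ = x * z * (x⁻¹ * t) * z⁻¹ := by rw [hz']; group
            _ = x * (z * t) * x⁻¹ * z⁻¹ := by rw [hx']; group
            _ = (x * t) * z * x⁻¹ * z⁻¹ := by rw [hz]; group
            _ = t * (x * z * x⁻¹ * z⁻¹) := by rw [h1]; group
      _ = x * z * x⁻¹ * z⁻¹ := by rw [← mul_assoc, F.tt, one_mul]
  have e2 : ∀ x ∈ K, ∀ z : G, z * t = t * z → ⁅z, t * x⁆ = ⁅z, x⁆ := by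
    intro x hx z hz
    have h1 := e1 x hx z hz
    have h2 : ⁅z, t * x⁆ = ⁅t * x, z⁆⁻¹ := (commutatorElement_inv _ _).symm
    rw [h2, h1, commutatorElement_inv]
  have ht : ∀ x ∈ K, (t * x) * t = t * (t * x) := by
    intro x hx
    rw [mul_assoc, F.com x hx]
  have et : ∀ x : G, t * (t * x) = x := fun x => by rw [← mul_assoc, F.tt, one_mul]
  rcases hg with hg | hg <;> rcases hh with hh | hh
  · exact key g hg h hh
  · have := e2 (t * h) hh g (F.com g hg)
    rw [et] at this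
    rw [this]; exact key _ hg _ hh
  · have := e1 (t * g) hg h (F.com h hh)
    rw [et] at this
    rw [this]; exact key _ hg _ hh
  · have hh2 : h * t = t * h := by
      have := ht _ hh
      rw [et] at this; exact this
    have h3 := e1 (t * g) hg h hh2
    rw [et] at h3
    have h4 := e2 (t * h) hh (t * g) (F.com _ hg)
    rw [et] at h4
    rw [h3, h4]
    exact key _ hg _ hh

theorem der_eq (F : Fr t K A S a) : ⁅centralizer ({t} : Set G), centralizer ({t} : Set G)⁆ = K := by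
  apply le_antisymm F.der_le
  conv_lhs => rw [← F.K_perf]
  have : K ≤ centralizer ({t} : Set G) := fun k hk => mem_centralizer_singleton_iff.2 (F.com k hk)
  exact commutator_mono this this

/-- conjugation of centralizers -/
theorem map_cent (n x : G) : (centralizer ({x} : Set G)).map (MulAut.conj n).toMonoidHom =
    centralizer ({n * x * n⁻¹} : Set G) := Sheet.map_centralizer n x

theorem mem_der_conj {n x y : G} (hy : y ∈ ⁅centralizer ({x} : Set G), centralizer ({x} : Set G)⁆) :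
    n * y * n⁻¹ ∈ ⁅centralizer ({n * x * n⁻¹} : Set G), centralizer ({n * x * n⁻¹} : Set G)⁆ := by
  rw [← map_cent, ← Subgroup.map_commutator]
  exact ⟨y, hy, rfl⟩

/-- `t` is not conjugate to an element of `K` -/
theorem not_conj (F : Fr t K A S a) {x : G} (hx : x ∈ K) (g : G) : g * t * g⁻¹ ≠ x := by
  intro h
  have hsq : x * x = 1 := by
    rw [← h]
    calc g * t * g⁻¹ * (g * t * g⁻¹) = g * (t * t) * g⁻¹ := by group
      _ = 1 := by rw [F.tt]; group
  have hx1 : x ≠ 1 := by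
    intro h1
    rw [h1, mul_inv_eq_one] at h
    exact F.t1 (mul_eq_left.1 h)
  have h1 := F.der x hx hsq hx1
  have h2 : x ∈ ⁅centralizer ({x} : Set G), centralizer ({x} : Set G)⁆ :=
    commutator_mono inf_le_right inf_le_right h1
  have h3 := mem_der_conj (n := g⁻¹) h2
  have e : g⁻¹ * x * g⁻¹⁻¹ = t := by rw [← h]; group
  rw [e] at h3
  exact F.tK (F.der_le h3)

/-! ### `T` and `A*` -/

theorem mem_T (F : Fr t K A S a) {x : G} : x ∈ dbl t S ↔ x ∈ S ∨ t * x ∈ S := mem_dbl F.tt F.comS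

theorem mem_AA (F : Fr t K A S a) {x : G} : x ∈ dbl t A ↔ x ∈ A ∨ t * x ∈ A := mem_dbl F.tt F.comA

theorem et (F : Fr t K A S a) (x : G) : t * (t * x) = x := by rw [← mul_assoc, F.tt, one_mul]

theorem pT (F : Fr t K A S a) : IsPGroup 2 (dbl t S) := by
  have h1 : IsPGroup 2 (zpowers t) := by
    rintro ⟨x, hx⟩
    obtain ⟨i, rfl⟩ := mem_zpowers_iff.1 hx
    refine ⟨1, Subtype.ext ?_⟩
    show (t ^ i) ^ (2 ^ 1) = 1
    have h2 : t ^ (2 : ℤ) = 1 := by
      rw [show (2 : ℤ) = 1 + 1 by norm_num, zpow_add, zpow_one, F.tt]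
    rw [pow_one, pow_two, ← zpow_add, ← two_mul, zpow_mul, h2, one_zpow]
  apply F.pS.to_sup_of_normal_left' h1
  rw [zpowers_le, mem_normalizer_iff]
  intro x
  constructor
  · intro hx
    have : t * x * t⁻¹ = x := by rw [← F.comS x hx, mul_assoc, mul_inv_cancel, mul_one]
    rw [this]; exact hx
  · intro hx
    have h2 := F.comS _ hx
    have : x = t * x * t⁻¹ := by
      have h3 : t * x = t * (t * x * t⁻¹) := by rw [← h2]; group
      exact mul_left_cancel h3
    rw [this]; exact hx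

theorem cardT [Finite G] (F : Fr t K A S a) : Nat.card (dbl t S) = 2 ^ 19 := by
  rw [card_dbl F.tt F.comS F.tS, F.cardS]; norm_num

theorem cardAA [Finite G] (F : Fr t K A S a) : Nat.card (dbl t A) = 2 ^ 12 := by
  rw [card_dbl F.tt F.comA F.tA, F.cardA]; norm_num

theorem AA_sq (F : Fr t K A S a) {x : G} (hx : x ∈ dbl t A) : x * x = 1 := by
  have h1 := dbl_comm F.tt F.comA hx
  rcases F.mem_AA.1 hx with h | h
  · exact F.sq x h
  · calc x * x = (t * t) * (x * x) := by rw [F.tt, one_mul]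
      _ = t * (t * x) * x := by group
      _ = t * (x * t) * x := by rw [h1]
      _ = (t * x) * (t * x) := by group
      _ = 1 := F.sq _ h

theorem AA_inv (F : Fr t K A S a) {x : G} (hx : x ∈ dbl t A) : x⁻¹ = x :=
  inv_eq_of_mul_eq_one_left (F.AA_sq hx)

theorem AA_comm (F : Fr t K A S a) {x y : G} (hx : x ∈ dbl t A) (hy : y ∈ dbl t A) : x * y = y * x := by
  have h := F.AA_inv ((dbl t A).mul_mem hx hy)
  rw [mul_inv_rev, F.AA_inv hx, F.AA_inv hy] at h
  exact h.symm

theorem AA_self (F : Fr t K A S a) {g : G} (hg : ∀ x ∈ dbl t A, g * x = x * g) : g ∈ dbl t A := by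
  have hgt := hg t (t_mem_dbl t A)
  rw [F.mem_AA]
  rcases F.cent g hgt with h | h
  · exact Or.inl (F.self g h fun y hy => hg y (le_dbl t A hy))
  · right
    apply F.self _ h
    intro y hy
    rw [mul_assoc, hg y (le_dbl t A hy), ← mul_assoc, ← F.comA y hy, mul_assoc]

/-- projection of a subgroup of `⟨t⟩ × K` to `K` -/
def proj (t : G) (B : Subgroup G) : Subgroup G := dbl t B

/-- the projection to `K` -/
theorem exists_proj [Finite G] (F : Fr t K A S a) {B : Subgroup G} (hB : ∀ x ∈ B, x * t = t * x) :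
    ∃ B' : Subgroup G, B' ≤ K ∧ (∀ x, x ∈ B' ↔ x ∈ K ∧ (x ∈ B ∨ t * x ∈ B)) ∧ B ≤ dbl t B' ∧
      Nat.card B ≤ 2 * Nat.card B' ∧ (IsPGroup 2 B → IsPGroup 2 B') := by
  have hB' : ∀ x, x ∈ dbl t B ↔ x ∈ B ∨ t * x ∈ B := fun x => mem_dbl F.tt hB
  have hm : ∀ x, x ∈ K ⊓ dbl t B ↔ x ∈ K ∧ (x ∈ B ∨ t * x ∈ B) := fun x => by
    rw [mem_inf, hB']
  have hcK : ∀ k ∈ K ⊓ dbl t B, k * t = t * k := fun k hk => F.com k hk.1
  have hle : B ≤ dbl t (K ⊓ dbl t B) := by
    intro x hx
    rw [mem_dbl F.tt hcK]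
    rcases F.cent x (hB x hx) with h | h
    · exact Or.inl ⟨h, le_dbl t B hx⟩
    · right
      refine ⟨h, (hB' _).2 (Or.inr ?_)⟩
      rw [F.et]; exact hx
  refine ⟨K ⊓ dbl t B, inf_le_left, hm, hle, ?_, ?_⟩
  · rw [← card_dbl F.tt hcK (fun h => F.tK h.1)]
    exact Nat.card_le_card_of_injective _ (inclusion_injective hle)
  · intro hp
    rintro ⟨x, hxK, hx⟩
    have key : ∀ y ∈ B, ∃ k : ℕ, y ^ 2 ^ k = 1 := by
      intro y hy
      obtain ⟨k, hk⟩ := hp ⟨y, hy⟩
      exact ⟨k, congrArg Subtype.val hk⟩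
    rcases (hB' x).1 hx with h | h
    · obtain ⟨k, hk⟩ := key x h
      exact ⟨k, Subtype.ext hk⟩
    · obtain ⟨k, hk⟩ := key _ h
      have hc : Commute t x := (F.com x hxK).symm
      refine ⟨k + 1, Subtype.ext ?_⟩
      show x ^ 2 ^ (k + 1) = 1
      rw [hc.mul_pow] at hk
      have h2 : (t ^ 2 ^ k) ^ 2 = 1 := by
        rw [← pow_mul, mul_comm, pow_mul, pow_two, F.tt, one_pow]
      calc x ^ 2 ^ (k + 1) = (t ^ 2 ^ k) ^ 2 * (x ^ 2 ^ k) ^ 2 := by rw [h2, one_mul, pow_succ, pow_mul]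
        _ = (t ^ 2 ^ k * x ^ 2 ^ k) ^ 2 := by
            rw [Commute.mul_pow (hc.pow_pow _ _)]
        _ = 1 := by rw [hk, one_pow]

/-- every 2-subgroup of `C(t)` is conjugate in `K` to a subgroup of `T` -/
theorem sylT [Finite G] (F : Fr t K A S a) {P : Subgroup G} (hp : IsPGroup 2 P)
    (hP : ∀ x ∈ P, x * t = t * x) : ∃ k ∈ K, ∀ x ∈ P, k * x * k⁻¹ ∈ dbl t S := by
  obtain ⟨P', hPK, hm, hle, -, hp'⟩ := F.exists_proj hP
  obtain ⟨k, hk, hkS⟩ := F.sylow P' hPK (hp' hp)
  refine ⟨k, hk, fun x hx => ?_⟩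
  rw [F.mem_T]
  rcases (mem_dbl F.tt (fun y hy => F.com y (hPK hy))).1 (hle hx) with h | h
  · exact Or.inl (hkS x h)
  · right
    have h1 := hkS _ h
    have h2 : t * (k * x * k⁻¹) = k * (t * x) * k⁻¹ := by
      calc t * (k * x * k⁻¹) = (t * k) * x * k⁻¹ := by group
        _ = (k * t) * x * k⁻¹ := by rw [F.com k hk]
        _ = k * (t * x) * k⁻¹ := by group
    rw [h2]; exact h1

theorem card_le [Finite G] (F : Fr t K A S a) {P : Subgroup G} (hp : IsPGroup 2 P)
    (hP : ∀ x ∈ P, x * t = t * x) : Nat.card P ≤ Nat.card (dbl t S) := by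
  obtain ⟨k, -, hk⟩ := F.sylT hp hP
  have h1 : P.map (MulAut.conj k).toMonoidHom ≤ dbl t S := by
    rintro _ ⟨x, hx, rfl⟩
    exact hk x hx
  rw [Nat.card_congr (P.equivMapOfInjective (MulAut.conj k).toMonoidHom (MulAut.conj k).injective).toEquiv]
  exact Nat.card_le_card_of_injective _ (inclusion_injective h1)

theorem maxT [Finite G] (F : Fr t K A S a) {P : Subgroup G} (hp : IsPGroup 2 P)
    (hP : ∀ x ∈ P, x * t = t * x) (h : dbl t S ≤ P) : P = dbl t S :=
  (Subgroup.eq_of_le_of_card_ge h (F.card_le hp hP)).symm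

/-- `A*` is the only elementary abelian subgroup of order `2¹²` of `T` -/
theorem uniqT [Finite G] (F : Fr t K A S a) {B : Subgroup G} (hB : B ≤ dbl t S)
    (hsq : ∀ x ∈ B, x * x = 1) (hc : 2 ^ 12 ≤ Nat.card B) : B = dbl t A := by
  have hBt : ∀ x ∈ B, x * t = t * x := fun x hx => dbl_comm F.tt F.comS (hB hx)
  obtain ⟨B', hBK, hm, hle, hcard, -⟩ := F.exists_proj hBt
  have hBS : B' ≤ S := by
    intro x hx
    obtain ⟨hxK, h | h⟩ := (hm x).1 hx
    · rcases F.mem_T.1 (hB h) with h1 | h1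
      · exact h1
      · exfalso
        apply F.tK
        have : t = t * x * x⁻¹ := by group
        rw [this]
        exact K.mul_mem (F.SK h1) (K.inv_mem hxK)
    · rcases F.mem_T.1 (hB h) with h1 | h1
      · exfalso
        apply F.tK
        have : t = t * x * x⁻¹ := by group
        rw [this]
        exact K.mul_mem (F.SK h1) (K.inv_mem hxK)
      · rw [F.et] at h1; exact h1
  have hsq' : ∀ x ∈ B', x * x = 1 := by
    intro x hx
    obtain ⟨hxK, h | h⟩ := (hm x).1 hx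
    · exact hsq x h
    · have h1 := hsq _ h
      have h2 := F.com x hxK
      calc x * x = (t * t) * (x * x) := by rw [F.tt, one_mul]
        _ = t * (t * x) * x := by group
        _ = t * (x * t) * x := by rw [h2]
        _ = (t * x) * (t * x) := by group
        _ = 1 := h1
  have h1 : B' = A := F.uniq B' hBS hsq' (by
    have : 2 ^ 12 = 2 * 2 ^ 11 := by norm_num
    omega)
  rw [h1] at hle
  exact Subgroup.eq_of_le_of_card_ge hle (by rw [F.cardAA]; exact hc)

/-- `N_G(T) ≤ N_G(A*)` -/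
theorem norm_le [Finite G] (F : Fr t K A S a) {y : G} (hy : y ∈ normalizer ((dbl t S : Subgroup G) : Set G)) :
    y ∈ normalizer ((dbl t A : Subgroup G) : Set G) := by
  have h1 : (dbl t A).map (MulAut.conj y).toMonoidHom = dbl t A := by
    apply F.uniqT
    · rintro _ ⟨x, hx, rfl⟩
      exact (mem_normalizer_iff.1 hy x).1 (dbl_mono F.AS hx)
    · rintro _ ⟨x, hx, rfl⟩
      show y * x * y⁻¹ * (y * x * y⁻¹) = 1
      calc y * x * y⁻¹ * (y * x * y⁻¹) = y * (x * x) * y⁻¹ := by group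
        _ = 1 := by rw [F.AA_sq hx]; group
    · rw [← F.cardAA]
      exact (Nat.card_congr ((dbl t A).equivMapOfInjective _ (MulAut.conj y).injective).toEquiv).le
  rw [mem_normalizer_iff]
  intro x
  constructor
  · intro hx
    rw [← h1]
    exact ⟨x, hx, rfl⟩
  · intro hx
    rw [← h1] at hx
    obtain ⟨z, hz, hzx⟩ := hx
    have : z = x := mul_left_cancel (mul_right_cancel (hzx : y * z * y⁻¹ = y * x * y⁻¹))
    rwa [← this]

end Fr

end Cfsg.Agent.OddHalf.D8.Fi23

end

-- merged: Cfsg.Agent.OddHalf.D8.Fi23.Orb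
section

/-!
# Orbits of conjugation (helper907)
-/

set_option autoImplicit false
set_option linter.style.haveILetI false

namespace Cfsg.Agent.OddHalf.D8.Fi23

open Subgroup

variable {G : Type*} [Group G]

/-- the `N`-conjugates of `x` -/
def orb (N : Subgroup G) (x : G) : Set G := {y | ∃ n ∈ N, n * x * n⁻¹ = y}

theorem self_mem_orb (N : Subgroup G) (x : G) : x ∈ orb N x := ⟨1, N.one_mem, by group⟩

theorem orb_conj {N : Subgroup G} {x y n : G} (hy : y ∈ orb N x) (hn : n ∈ N) : n * y * n⁻¹ ∈ orb N x := by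
  obtain ⟨m, hm, rfl⟩ := hy
  exact ⟨n * m, N.mul_mem hn hm, by group⟩

/-- the conjugation action of a subgroup -/
@[reducible] def cact (N : Subgroup G) : MulAction N G where
  smul n x := (n : G) * x * (n : G)⁻¹
  one_smul x := by show ((1 : N) : G) * x * ((1 : N) : G)⁻¹ = x; simp
  mul_smul m n x := by
    show ((m * n : N) : G) * x * ((m * n : N) : G)⁻¹ = (m : G) * ((n : G) * x * (n : G)⁻¹) * (m : G)⁻¹
    rw [Subgroup.coe_mul]; group

theorem orb_card [Finite G] (N : Subgroup G) (x : G) :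
    (orb N x).ncard * Nat.card ↥(N ⊓ centralizer ({x} : Set G)) = Nat.card N := by
  letI := cact N
  have h1 : (orb N x).ncard = Nat.card (MulAction.orbit N x) := by
    have : (MulAction.orbit N x : Set G) = orb N x := by
      ext y
      constructor
      · rintro ⟨n, rfl⟩
        exact ⟨n, n.2, rfl⟩
      · rintro ⟨n, hn, rfl⟩
        exact ⟨⟨n, hn⟩, rfl⟩
    rw [← this]; rfl
  have h2 : Nat.card ↥(N ⊓ centralizer ({x} : Set G)) = Nat.card (MulAction.stabilizer N x) := by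
    refine Nat.card_congr
      { toFun := fun y => ⟨⟨y, y.2.1⟩, ?_⟩
        invFun := fun y => ⟨y, y.1.2, ?_⟩
        left_inv := fun y => rfl
        right_inv := fun y => rfl }
    · show (y : G) * x * (y : G)⁻¹ = x
      rw [mem_centralizer_singleton_iff.1 y.2.2, mul_inv_cancel_right]
    · have h3 : (y : G) * x * (y : G)⁻¹ = x := y.2
      exact mem_centralizer_singleton_iff.2 (mul_inv_eq_iff_eq_mul.1 h3)
  rw [h1, h2, Nat.card_congr (MulAction.orbitEquivQuotientStabilizer N x),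
    ← Subgroup.card_eq_card_quotient_mul_card_subgroup]

end Cfsg.Agent.OddHalf.D8.Fi23

end

-- merged: Cfsg.Agent.OddHalf.D8.Fi23.Points
section

/-!
# The 24 conjugates of `t` in `A*` (helper907)

`N = N_G(A*)`. If the conjugates of `t` under `C_G(a i)` are among `t`, `t a_i` and `N_G(T)` moves `t`, then
`t^N = {t, t a_0, …, t a_22}`.
-/

set_option autoImplicit false

namespace Cfsg.Agent.OddHalf.D8.Fi23

open Subgroup Cfsg

namespace Fr

variable {G : Type*} [Group G] {t : G} {K A S : Subgroup G} {a : Fin 23 → G}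

/-- `N_G(A*)` -/
def NN (_ : Fr t K A S a) : Subgroup G := normalizer ((dbl t A : Subgroup G) : Set G)

theorem mem_NN (F : Fr t K A S a) {n : G} : n ∈ F.NN ↔ ∀ x, x ∈ dbl t A ↔ n * x * n⁻¹ ∈ dbl t A :=
  mem_normalizer_iff

theorem AA_K (F : Fr t K A S a) {x : G} (hx : x ∈ dbl t A) (hK : x ∈ K) : x ∈ A := by
  rcases F.mem_AA.1 hx with h | h
  · exact h
  · exfalso
    apply F.tK
    have : t = t * x * x⁻¹ := by group
    rw [this]
    exact K.mul_mem (F.AK h) (K.inv_mem hK)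

/-- `N ∩ K = N_K(A)` -/
theorem mem_NN_of_K (F : Fr t K A S a) {n : G} (hn : n ∈ K) :
    n ∈ F.NN ↔ n ∈ normalizer (A : Set G) := by
  have hnt : n * t * n⁻¹ = t := by rw [F.com n hn, mul_inv_cancel_right]
  constructor
  · intro h
    rw [mem_normalizer_iff]
    intro x
    constructor
    · intro hx
      exact F.AA_K ((F.mem_NN.1 h x).1 (le_dbl t A hx)) (K.mul_mem (K.mul_mem hn (F.AK hx)) (K.inv_mem hn))
    · intro hx
      refine F.AA_K ((F.mem_NN.1 h x).2 (le_dbl t A hx)) ?_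
      have e : x = n⁻¹ * (n * x * n⁻¹) * n := by group
      rw [e]
      exact K.mul_mem (K.mul_mem (K.inv_mem hn) (F.AK hx)) hn
  · intro h
    rw [F.mem_NN]
    intro x
    have e : t * (n * x * n⁻¹) = n * (t * x) * n⁻¹ := by
      calc t * (n * x * n⁻¹) = (t * n) * x * n⁻¹ := by group
        _ = (n * t) * x * n⁻¹ := by rw [F.com n hn]
        _ = n * (t * x) * n⁻¹ := by group
    rw [F.mem_AA, F.mem_AA, e]
    exact or_congr (mem_normalizer_iff.1 h x) (mem_normalizer_iff.1 h _)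

theorem t_mem_NN (F : Fr t K A S a) : t ∈ F.NN := by
  rw [F.mem_NN]
  intro x
  constructor
  · intro hx
    have : t * x * t⁻¹ = x := by rw [← dbl_comm F.tt F.comA hx, mul_inv_cancel_right]
    rw [this]; exact hx
  · intro hx
    have h1 := dbl_comm F.tt F.comA hx
    have : x = t * x * t⁻¹ := by
      have h3 : t * x = t * (t * x * t⁻¹) := by rw [← h1]; group
      exact mul_left_cancel h3
    rw [this]; exact hx

/-- `C_N(t) = ⟨t⟩ × N_K(A)` -/
theorem NN_cent (F : Fr t K A S a) : F.NN ⊓ centralizer ({t} : Set G) =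
    dbl t (K ⊓ normalizer (A : Set G)) := by
  have hc : ∀ x ∈ K ⊓ normalizer (A : Set G), x * t = t * x := fun x hx => F.com x hx.1
  ext x
  rw [mem_inf, mem_centralizer_singleton_iff, mem_dbl F.tt hc]
  constructor
  · rintro ⟨h1, h2⟩
    rcases F.cent x h2 with h | h
    · exact Or.inl ⟨h, (F.mem_NN_of_K h).1 h1⟩
    · exact Or.inr ⟨h, (F.mem_NN_of_K h).1 (F.NN.mul_mem F.t_mem_NN h1)⟩
  · rintro (h | h)
    · exact ⟨(F.mem_NN_of_K h.1).2 h.2, F.com x h.1⟩
    · have h1 := (F.mem_NN_of_K h.1).2 h.2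
      have h2 := F.com _ h.1
      refine ⟨?_, ?_⟩
      · have := F.NN.mul_mem F.t_mem_NN h1
        rwa [F.et] at this
      · have h3 : t * (x * t) = t * (t * x) := by rw [← mul_assoc]; exact h2
        exact mul_left_cancel h3

theorem card_NN_cent [Finite G] (F : Fr t K A S a) :
    Nat.card ↥(F.NN ⊓ centralizer ({t} : Set G)) = 2 ^ 12 * 10200960 := by
  have hc : ∀ x ∈ K ⊓ normalizer (A : Set G), x * t = t * x := fun x hx => F.com x hx.1
  have hn : t ∉ K ⊓ normalizer (A : Set G) := fun h => F.tK h.1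
  rw [F.NN_cent, card_dbl F.tt hc hn, F.cardN]
  norm_num

/-- conjugates of `t` in `A*` -/
theorem conj_AA (F : Fr t K A S a) {g : G} (h : g * t * g⁻¹ ∈ dbl t A) : t * (g * t * g⁻¹) ∈ A := by
  rcases F.mem_AA.1 h with h1 | h1
  · exact absurd rfl (F.not_conj (F.AK h1) g)
  · exact h1

theorem orb_sub (F : Fr t K A S a) {x : G} (hx : x ∈ orb F.NN t) : x ∈ dbl t A ∧ t * x ∈ A := by
  obtain ⟨n, hn, rfl⟩ := hx
  have h := (F.mem_NN.1 hn t).1 (t_mem_dbl t A)
  exact ⟨h, F.conj_AA h⟩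

/-- `N_K(A)`-stability of `t * P k` -/
theorem P_stable (F : Fr t K A S a) {k : ℕ} (hk : k ≤ 3) {x y : G} (hx : x ∈ F.P k) (hy : y ∈ F.P k)
    (h : t * x ∈ orb F.NN t) : t * y ∈ orb F.NN t := by
  have key : ∀ n ∈ K, n ∈ normalizer (A : Set G) → n * x * n⁻¹ = y → t * y ∈ orb F.NN t := by
    intro n hn hN e
    have h1 := orb_conj h ((F.mem_NN_of_K hn).2 hN)
    have e2 : n * (t * x) * n⁻¹ = t * y := by
      rw [← e]
      calc n * (t * x) * n⁻¹ = (n * t) * x * n⁻¹ := by group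
        _ = (t * n) * x * n⁻¹ := by rw [F.com n hn]
        _ = t * (n * x * n⁻¹) := by group
    rwa [e2] at h1
  have hk' : k = 0 ∨ k = 1 ∨ k = 2 ∨ k = 3 := by omega
  rcases hk' with rfl | rfl | rfl | rfl
  · rw [F.mem_P_zero.1 hy]; rw [F.mem_P_zero.1 hx] at h; exact h
  · obtain ⟨i, rfl⟩ := F.mem_P_one.1 hx
    obtain ⟨j, rfl⟩ := F.mem_P_one.1 hy
    obtain ⟨n, hn, hN, e⟩ := F.one i j
    exact key n hn hN e
  · obtain ⟨i, j, hij, rfl⟩ := F.mem_P_two.1 hx
    obtain ⟨i', j', hij', rfl⟩ := F.mem_P_two.1 hy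
    obtain ⟨n, hn, hN, e1, e2⟩ := F.two hij hij'
    exact key n hn hN (by rw [← e1, ← e2]; group)
  · obtain ⟨i, j, l, h1, h2, h3, rfl⟩ := F.mem_P_three.1 hx
    obtain ⟨i', j', l', h4, h5, h6, rfl⟩ := F.mem_P_three.1 hy
    obtain ⟨n, hn, hN, e1, e2, e3⟩ := F.three i j l i' j' l' h1 h2 h3 h4 h5 h6
    exact key n hn hN (by rw [← e1, ← e2, ← e3]; group)

/-- the part of `t^N` in `t * P k` -/
def part (F : Fr t K A S a) (k : ℕ) : Set G := {x | x ∈ F.P k ∧ t * x ∈ orb F.NN t}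

theorem pair_le (x y : G) : ({x, y} : Set G).ncard ≤ 2 := by
  calc ({x, y} : Set G).ncard ≤ ({y} : Set G).ncard + 1 := Set.ncard_insert_le _ _
    _ = 2 := by rw [Set.ncard_singleton]

theorem part_card [Finite G] (F : Fr t K A S a) {k : ℕ} (hk : k ≤ 3) :
    (F.part k).ncard = 0 ∧ (∀ x ∈ F.P k, t * x ∉ orb F.NN t) ∨
      (F.part k).ncard = Nat.choose 23 k ∧ ∀ x ∈ F.P k, t * x ∈ orb F.NN t := by
  by_cases h : ∃ x ∈ F.P k, t * x ∈ orb F.NN t
  · right
    obtain ⟨x, hx, hx'⟩ := h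
    have h1 : ∀ y ∈ F.P k, t * y ∈ orb F.NN t := fun y hy => F.P_stable hk hx hy hx'
    refine ⟨?_, h1⟩
    have : F.part k = F.P k := by
      ext y
      exact ⟨fun hy => hy.1, fun hy => ⟨hy, h1 y hy⟩⟩
    rw [this, F.ncard_P hk]
  · left
    push Not at h
    refine ⟨?_, h⟩
    have : F.part k = ∅ := by
      rw [Set.eq_empty_iff_forall_notMem]
      rintro y ⟨h1, h2⟩
      exact h y h1 h2
    rw [this, Set.ncard_empty]

theorem orb_ncard [Finite G] (F : Fr t K A S a) :
    (orb F.NN t).ncard = (F.part 0).ncard + (F.part 1).ncard + (F.part 2).ncard + (F.part 3).ncard := by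
  have h1 : orb F.NN t = (fun x => t * x) '' (F.part 0 ∪ F.part 1 ∪ F.part 2 ∪ F.part 3) := by
    ext x
    constructor
    · intro hx
      obtain ⟨-, h2⟩ := F.orb_sub hx
      have h3 : t * (t * x) ∈ orb F.NN t := by rw [F.et]; exact hx
      refine ⟨t * x, ?_, F.et x⟩
      rcases F.mem_P_of_mem h2 with h | h | h | h
      · exact Or.inl (Or.inl (Or.inl ⟨h, h3⟩))
      · exact Or.inl (Or.inl (Or.inr ⟨h, h3⟩))
      · exact Or.inl (Or.inr ⟨h, h3⟩)
      · exact Or.inr ⟨h, h3⟩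
    · rintro ⟨y, ((hy | hy) | hy) | hy, rfl⟩ <;> exact hy.2
  have hd : ∀ k l, k ≤ 3 → l ≤ 3 → k ≠ l → Disjoint (F.part k) (F.part l) := by
    intro k l hk hl hkl
    exact Disjoint.mono (fun x hx => hx.1) (fun x hx => hx.1) (F.disj_P hk hl hkl)
  rw [h1, Set.ncard_image_of_injective _ (mul_right_injective t),
    Set.ncard_union_eq _ (Set.toFinite _) (Set.toFinite _),
    Set.ncard_union_eq _ (Set.toFinite _) (Set.toFinite _),
    Set.ncard_union_eq _ (Set.toFinite _) (Set.toFinite _)]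
  · exact hd 0 1 (by norm_num) (by norm_num) (by norm_num)
  · rw [Set.disjoint_union_left]
    exact ⟨hd 0 2 (by norm_num) (by norm_num) (by norm_num), hd 1 2 (by norm_num) (by norm_num) (by norm_num)⟩
  · rw [Set.disjoint_union_left, Set.disjoint_union_left]
    exact ⟨⟨hd 0 3 (by norm_num) (by norm_num) (by norm_num), hd 1 3 (by norm_num) (by norm_num) (by norm_num)⟩,
      hd 2 3 (by norm_num) (by norm_num) (by norm_num)⟩

/-- the count `23 |t^N| = k |a^N|`, `k ∈ {1, 2}` -/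
theorem count [Finite G] (F : Fr t K A S a)
    (h3 : ∀ x, x * a 0 = a 0 * x → x * t * x⁻¹ = t ∨ x * t * x⁻¹ = t * a 0) :
    ∃ k l : ℕ, 23 * (orb F.NN t).ncard = k * l ∧ l ≤ 4095 ∧
      (k = 1 ∨ (k = 2 ∧ t * a 0 ∈ orb F.NN t)) := by
  have e1 := orb_card F.NN t
  have e2 := orb_card F.NN (a 0)
  have e3 := orb_card (F.NN ⊓ centralizer ({a 0} : Set G)) t
  have e4 := orb_card (F.NN ⊓ centralizer ({t} : Set G)) (a 0)
  have e5 : F.NN ⊓ centralizer ({a 0} : Set G) ⊓ centralizer ({t} : Set G) =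
      F.NN ⊓ centralizer ({t} : Set G) ⊓ centralizer ({a 0} : Set G) := by
    rw [inf_assoc, inf_assoc, inf_comm (centralizer ({a 0} : Set G))]
  rw [e5] at e3
  -- the orbit of `a 0` under `C_N(t)`
  have h4 : orb (F.NN ⊓ centralizer ({t} : Set G)) (a 0) = F.P 1 := by
    ext y
    rw [F.mem_P_one]
    constructor
    · have hc : ∀ x ∈ K ⊓ normalizer (A : Set G), x * t = t * x := fun x hx => F.com x hx.1
      rintro ⟨n, hn, rfl⟩
      rw [F.NN_cent, mem_dbl F.tt hc] at hn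
      rcases hn with hn | hn
      · exact F.perm n hn.1 hn.2 0
      · obtain ⟨j, hj⟩ := F.perm _ hn.1 hn.2 0
        refine ⟨j, ?_⟩
        have hj' := F.com _ (F.aK j)
        calc n * a 0 * n⁻¹ = t⁻¹ * ((t * n) * a 0 * (t * n)⁻¹) * t := by group
          _ = t⁻¹ * (a j * t) := by rw [hj, mul_assoc]
          _ = a j := by rw [hj']; group
    · rintro ⟨j, rfl⟩
      obtain ⟨n, hn, hN, e⟩ := F.one 0 j
      exact ⟨n, ⟨(F.mem_NN_of_K hn).2 hN, mem_centralizer_singleton_iff.2 (F.com n hn)⟩, e⟩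
  rw [h4, F.ncard_P (by norm_num), Nat.choose_one_right] at e4
  -- the orbit of `t` under `C_N(a 0)`
  set O := orb (F.NN ⊓ centralizer ({a 0} : Set G)) t with hO
  have hta : t * a 0 ≠ t := fun h => F.a_ne_one 0 (mul_eq_left.1 h)
  have hsub : O ⊆ {t, t * a 0} := by
    rintro _ ⟨n, hn, rfl⟩
    exact h3 n (mem_centralizer_singleton_iff.1 hn.2)
  have hO2 : O.ncard ≤ 2 := by
    calc O.ncard ≤ ({t, t * a 0} : Set G).ncard := Set.ncard_le_ncard hsub (Set.toFinite _)
      _ ≤ 2 := pair_le _ _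
  have hO1 : 1 ≤ O.ncard := by
    rw [Nat.one_le_iff_ne_zero, Ne, Set.ncard_eq_zero (Set.toFinite _)]
    exact Set.nonempty_iff_ne_empty.1 ⟨t, self_mem_orb _ _⟩
  -- the orbit of `a 0` under `N`
  have hl : (orb F.NN (a 0)).ncard ≤ 4095 := by
    have hs : orb F.NN (a 0) ⊆ (dbl t A : Set G) \ {1} := by
      rintro _ ⟨n, hn, rfl⟩
      refine ⟨(F.mem_NN.1 hn (a 0)).1 (le_dbl t A (F.mem 0)), ?_⟩
      intro h
      have h : n * a 0 * n⁻¹ = 1 := h
      rw [mul_inv_eq_one] at h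
      exact F.a_ne_one 0 (mul_eq_left.1 h)
    have h5 : ((dbl t A : Set G) \ {1}).ncard = 4095 := by
      have h6 : (dbl t A : Set G).ncard = 2 ^ 12 := F.cardAA
      rw [Set.ncard_sdiff_singleton_of_mem (dbl t A).one_mem, h6]
      norm_num
    rw [← h5]
    exact Set.ncard_le_ncard hs (Set.toFinite _)
  set m := Nat.card ↥(F.NN ⊓ centralizer ({t} : Set G) ⊓ centralizer ({a 0} : Set G)) with hm
  have hm0 : 0 < m := Nat.card_pos
  refine ⟨O.ncard, (orb F.NN (a 0)).ncard, ?_, hl, ?_⟩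
  · apply Nat.eq_of_mul_eq_mul_right hm0
    calc 23 * (orb F.NN t).ncard * m = (orb F.NN t).ncard * (23 * m) := by ring
      _ = Nat.card F.NN := by rw [e4, e1]
      _ = (orb F.NN (a 0)).ncard * (O.ncard * m) := by rw [e3, e2]
      _ = O.ncard * (orb F.NN (a 0)).ncard * m := by ring
  · have : O.ncard = 1 ∨ O.ncard = 2 := by omega
    rcases this with h | h
    · exact Or.inl h
    · right
      refine ⟨h, ?_⟩
      have h6 : ({t, t * a 0} : Set G) ⊆ O := by
        rw [Set.eq_of_subset_of_ncard_le hsub (by rw [h]; exact pair_le _ _) (Set.toFinite _)]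
      obtain ⟨n, hn, e⟩ := h6 (Set.mem_insert_of_mem _ rfl)
      exact ⟨n, hn.1, e⟩

/-- **the 24 points** -/
theorem points [Finite G] (F : Fr t K A S a)
    (h3 : ∀ x, x * a 0 = a 0 * x → x * t * x⁻¹ = t ∨ x * t * x⁻¹ = t * a 0)
    (hy : ∃ y ∈ F.NN, y * t * y⁻¹ ≠ t) :
    (∀ x, x ∈ orb F.NN t ↔ x = t ∨ ∃ i, x = t * a i) ∧ (orb F.NN t).ncard = 24 := by
  obtain ⟨k, l, e, hl, hk⟩ := F.count h3
  have hsum := F.orb_ncard
  have h0 : (F.part 0).ncard = 1 := by
    rcases F.part_card (k := 0) (by norm_num) with ⟨-, h⟩ | ⟨h, -⟩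
    · exfalso
      apply h 1 (F.mem_P_zero.2 rfl)
      rw [mul_one]; exact self_mem_orb _ _
    · rw [h]; rfl
  have hne : (orb F.NN t).ncard ≠ 1 := by
    intro h
    rw [Set.ncard_eq_one] at h
    obtain ⟨x, hx⟩ := h
    obtain ⟨y, hy, hyt⟩ := hy
    have h1 : t ∈ orb F.NN t := self_mem_orb _ _
    have h2 : y * t * y⁻¹ ∈ orb F.NN t := ⟨y, hy, rfl⟩
    rw [hx, Set.mem_singleton_iff] at h1 h2
    exact hyt (h2.trans h1.symm)
  have c2 : Nat.choose 23 2 = 253 := by decide
  have c3 : Nat.choose 23 3 = 1771 := by decide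
  have c1 : Nat.choose 23 1 = 23 := by decide
  have p1 := F.part_card (k := 1) (by norm_num)
  have p2 := F.part_card (k := 2) (by norm_num)
  have p3 := F.part_card (k := 3) (by norm_num)
  rw [c1] at p1
  rw [c2] at p2
  rw [c3] at p3
  have hk1 : k = 2 → (F.part 1).ncard = 23 := by
    intro hk2
    rcases p1 with ⟨-, h⟩ | ⟨h, -⟩
    · exfalso
      apply h (a 0) (F.mem_P_one.2 ⟨0, rfl⟩)
      rcases hk with h' | h'
      · omega
      · exact h'.2
    · exact h
  have hk' : k = 1 ∨ k = 2 := hk.imp id And.left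
  have n1 : (F.part 1).ncard = 0 ∨ (F.part 1).ncard = 23 := p1.imp And.left And.left
  have n2 : (F.part 2).ncard = 0 ∨ (F.part 2).ncard = 253 := p2.imp And.left And.left
  have n3 : (F.part 3).ncard = 0 ∨ (F.part 3).ncard = 1771 := p3.imp And.left And.left
  have hconc : (F.part 1).ncard = 23 ∧ (F.part 2).ncard = 0 ∧ (F.part 3).ncard = 0 := by
    rcases hk' with rfl | rfl
    · rcases n1 with h1 | h1 <;> rcases n2 with h2 | h2 <;> rcases n3 with h3' | h3' <;> omega
    · have h1 := hk1 rfl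
      rcases n2 with h2 | h2 <;> rcases n3 with h3' | h3' <;> omega
  obtain ⟨q1, q2, q3⟩ := hconc
  have r1 : ∀ x ∈ F.P 1, t * x ∈ orb F.NN t := by
    rcases p1 with ⟨h, -⟩ | ⟨-, h⟩
    · omega
    · exact h
  have r2 : ∀ x ∈ F.P 2, t * x ∉ orb F.NN t := by
    rcases p2 with ⟨-, h⟩ | ⟨h, -⟩
    · exact h
    · omega
  have r3 : ∀ x ∈ F.P 3, t * x ∉ orb F.NN t := by
    rcases p3 with ⟨-, h⟩ | ⟨h, -⟩
    · exact h
    · omega
  refine ⟨fun x => ⟨fun hx => ?_, ?_⟩, by omega⟩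
  · obtain ⟨-, h2⟩ := F.orb_sub hx
    have hx' : t * (t * x) ∈ orb F.NN t := by rw [F.et]; exact hx
    rcases F.mem_P_of_mem h2 with h | h | h | h
    · left
      have := F.mem_P_zero.1 h
      calc x = t * (t * x) := (F.et x).symm
        _ = t := by rw [this, mul_one]
    · right
      obtain ⟨i, hi⟩ := F.mem_P_one.1 h
      exact ⟨i, by rw [← hi, F.et]⟩
    · exact absurd hx' (r2 _ h)
    · exact absurd hx' (r3 _ h)
  · rintro (rfl | ⟨i, rfl⟩)
    · exact self_mem_orb _ _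
    · exact r1 _ (F.mem_P_one.2 ⟨i, rfl⟩)

end Fr

end Cfsg.Agent.OddHalf.D8.Fi23

end

-- merged: Cfsg.Agent.OddHalf.D8.Fi23.Ext
section

/-!
# Gluing homomorphisms of point stabilizers (helper907)

`N` acts on `Ω`; `lam i` is multiplicative on the stabilizer of `i`, the family is equivariant and `lam i n = lam j n`
if `n` fixes `i` and `j`. If the stabilizers of points are 2-transitive on the other points and any four points miss
another point, then there is one homomorphism `N →* A` extending all `lam i`.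
-/

set_option autoImplicit false

namespace Cfsg.Agent.OddHalf.D8.Fi23.Ext

open MulAction

/-- the hypotheses -/
structure Fam (N Ω A : Type*) [Group N] [MulAction N Ω] [CommGroup A] (lam : Ω → N → A) : Prop where
  mul : ∀ (i : Ω) (m n : N), m • i = i → n • i = i → lam i (m * n) = lam i m * lam i n
  eqv : ∀ (g : N) (i : Ω) (n : N), n • i = i → lam (g • i) (g * n * g⁻¹) = lam i n
  coh : ∀ (i j : Ω) (n : N), n • i = i → n • j = j → lam i n = lam j n
  tr1 : ∀ k i j : Ω, i ≠ k → j ≠ k → ∃ m : N, m • k = k ∧ m • i = j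
  tr2 : ∀ k i i' j j' : Ω, i ≠ k → i' ≠ k → j ≠ k → j' ≠ k → i ≠ i' → j ≠ j' →
    ∃ m : N, m • k = k ∧ m • i = j ∧ m • i' = j'
  big : ∀ i i' j j' : Ω, ∃ k : Ω, k ≠ i ∧ k ≠ i' ∧ k ≠ j ∧ k ≠ j'

namespace Fam

variable {N Ω A : Type*} [Group N] [MulAction N Ω] [CommGroup A] {lam : Ω → N → A}

theorem one (F : Fam N Ω A lam) (i : Ω) : lam i 1 = 1 := by
  have h := F.mul i 1 1 (one_smul _ _) (one_smul _ _)
  rw [mul_one] at h
  exact mul_eq_left.1 h.symm

theorem inv_smul_eq {m : N} {i j : Ω} (h : m • i = j) : m⁻¹ • j = i := by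
  rw [← h, inv_smul_smul]

/-- the value through `(i, k, m)` -/
def V (lam : Ω → N → A) (n : N) (i k : Ω) (m : N) : A := lam k m * lam i (m⁻¹ * n)

/-- admissible triples -/
def Adm (n : N) (i k : Ω) (m : N) : Prop := k ≠ i ∧ k ≠ n • i ∧ m • k = k ∧ m • i = n • i

theorem fix_of_adm {n : N} {i k : Ω} {m : N} (h : Adm n i k m) : (m⁻¹ * n) • i = i := by
  rw [mul_smul, ← h.2.2.2, inv_smul_smul]

theorem indep_m (F : Fam N Ω A lam) {n : N} {i k : Ω} {m m' : N} (h : Adm n i k m) (h' : Adm n i k m') :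
    V lam n i k m = V lam n i k m' := by
  have hk : (m⁻¹ * m') • k = k := by rw [mul_smul, h'.2.2.1, inv_smul_eq h.2.2.1]
  have hi : (m⁻¹ * m') • i = i := by rw [mul_smul, h'.2.2.2, ← h.2.2.2, inv_smul_smul]
  have e1 : m' = m * (m⁻¹ * m') := by group
  have e2 : m⁻¹ * n = (m⁻¹ * m') * (m'⁻¹ * n) := by group
  have h1 : lam k m' = lam k m * lam k (m⁻¹ * m') := by
    conv_lhs => rw [e1]
    exact F.mul k _ _ h.2.2.1 hk
  have h2 : lam i (m⁻¹ * n) = lam i (m⁻¹ * m') * lam i (m'⁻¹ * n) := by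
    rw [e2]; exact F.mul i _ _ hi (fix_of_adm h')
  unfold V
  rw [h1, h2, F.coh k i _ hk hi, mul_assoc]

theorem indep_k (F : Fam N Ω A lam) {n : N} {i k k' : Ω} {m m' : N} (h : Adm n i k m)
    (h' : Adm n i k' m') : V lam n i k m = V lam n i k' m' := by
  by_cases hkk : k = k'
  · subst hkk; exact F.indep_m h h'
  obtain ⟨c, hc1, hc2, hc3⟩ := F.tr2 k k' i k' (n • i) (Ne.symm hkk) h.1.symm (Ne.symm hkk)
    (Ne.symm h.2.1) h'.1 h'.2.1
  have a1 : Adm n i k c := ⟨h.1, h.2.1, hc1, hc3⟩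
  have a2 : Adm n i k' c := ⟨h'.1, h'.2.1, hc2, hc3⟩
  rw [F.indep_m h a1, F.indep_m h' a2]
  unfold V
  rw [F.coh k k' c hc1 hc2]

theorem exists_adm (F : Fam N Ω A lam) (n : N) (i : Ω) : ∃ k m, Adm n i k m := by
  obtain ⟨k, h1, h2, -, -⟩ := F.big i (n • i) i i
  obtain ⟨m, h3, h4⟩ := F.tr1 k i (n • i) h1.symm h2.symm
  exact ⟨k, m, h1, h2, h3, h4⟩

theorem indep (F : Fam N Ω A lam) {n : N} {i i' k k' : Ω} {m m' : N} (h : Adm n i k m)
    (h' : Adm n i' k' m') : V lam n i k m = V lam n i' k' m' := by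
  by_cases hii : i = i'
  · subst hii; exact F.indep_k h h'
  obtain ⟨c, h1, h2, h3, h4⟩ := F.big i i' (n • i) (n • i')
  have hne : n • i ≠ n • i' := fun e => hii (smul_left_cancel n e)
  obtain ⟨x, hx1, hx2, hx3⟩ := F.tr2 c i i' (n • i) (n • i') h1.symm h2.symm h3.symm h4.symm hii hne
  have a1 : Adm n i c x := ⟨h1, h3, hx1, hx2⟩
  have a2 : Adm n i' c x := ⟨h2, h4, hx1, hx3⟩
  rw [F.indep_k h a1, F.indep_k h' a2]
  unfold V
  rw [F.coh i i' _ (fix_of_adm a1) (fix_of_adm a2)]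

/-- the extension, pointwise -/
theorem exists_fun (F : Fam N Ω A lam) [Nonempty Ω] :
    ∃ f : N → A, ∀ n i k m, Adm n i k m → f n = V lam n i k m := by
  obtain ⟨i0⟩ := ‹Nonempty Ω›
  choose k m h using fun n => F.exists_adm n i0
  exact ⟨fun n => V lam n i0 (k n) (m n), fun n i k' m' h' => F.indep (h n) h'⟩

/-- **the extension** -/
theorem exists_hom (F : Fam N Ω A lam) [Nonempty Ω] :
    ∃ f : N →* A, ∀ (i : Ω) (n : N), n • i = i → f n = lam i n := by
  obtain ⟨f, hf⟩ := F.exists_fun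
  have hfix : ∀ (i : Ω) (n : N), n • i = i → f n = lam i n := by
    intro i n hn
    obtain ⟨k, h1, -, -, -⟩ := F.big i i i i
    have a : Adm n i k (1 : N) := ⟨h1, by rw [hn]; exact h1, one_smul _ _, by rw [one_smul, hn]⟩
    rw [hf n i k 1 a]
    unfold V
    rw [F.one, one_mul, inv_one, one_mul]
  have hmul : ∀ n n' : N, f (n * n') = f n * f n' := by
    intro n n'
    obtain ⟨i⟩ := ‹Nonempty Ω›
    obtain ⟨k, h1, h2, h3, -⟩ := F.big i (n' • i) (n • n' • i) i
    obtain ⟨m', hm1, hm2⟩ := F.tr1 k i (n' • i) h1.symm h2.symm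
    obtain ⟨m, hm3, hm4⟩ := F.tr1 k (n' • i) (n • n' • i) h2.symm h3.symm
    have a1 : Adm n' i k m' := ⟨h1, h2, hm1, hm2⟩
    have a2 : Adm n (n' • i) k m := ⟨h2, h3, hm3, hm4⟩
    have a3 : Adm (n * n') i k (m * m') := by
      refine ⟨h1, ?_, ?_, ?_⟩
      · rw [mul_smul]; exact h3
      · rw [mul_smul, hm1, hm3]
      · rw [mul_smul, hm2, hm4, mul_smul]
    rw [hf _ _ _ _ a1, hf _ _ _ _ a2, hf _ _ _ _ a3]
    unfold V
    have e : (m * m')⁻¹ * (n * n') = (m'⁻¹ * (m⁻¹ * n) * m'⁻¹⁻¹) * (m'⁻¹ * n') := by group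
    have hx : (m⁻¹ * n) • (n' • i) = n' • i := fix_of_adm a2
    have hfix1 : (m'⁻¹ * (m⁻¹ * n) * m'⁻¹⁻¹) • i = i := by
      rw [mul_smul, mul_smul, inv_inv, hm2, hx, inv_smul_eq hm2]
    rw [e, F.mul i _ _ hfix1 (fix_of_adm a1), F.mul k _ _ hm3 hm1]
    have h5 := F.eqv m'⁻¹ (n' • i) (m⁻¹ * n) hx
    rw [inv_smul_eq hm2] at h5
    rw [h5]
    exact mul_mul_mul_comm _ _ _ _
  refine ⟨{ toFun := f, map_one' := ?_, map_mul' := hmul }, hfix⟩
  have h := hmul 1 1
  rw [mul_one] at h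
  exact mul_eq_left.1 h.symm

end Fam

end Cfsg.Agent.OddHalf.D8.Fi23.Ext

end

-- merged: Cfsg.Agent.OddHalf.D8.Fi23.Glue
section

/-!
# A homomorphism `N_G(A*) → {±1}` with value `-1` at `t` (helper907)

On `C(θ) = ⟨θ⟩ × K_θ` (`θ` a conjugate of `t`) there is the homomorphism with kernel `K_θ = C(θ)'`. They agree on
intersections, so they glue to `N = N_G(A*)`, which acts on the 24 conjugates of `t` in `A*`.
-/

set_option autoImplicit false
set_option linter.style.haveILetI false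

namespace Cfsg.Agent.OddHalf.D8.Fi23

open Subgroup Cfsg

section Sg

variable {G : Type*} [Group G]

open Classical in
/-- the sign on `C(θ)` -/
noncomputable def sg (θ n : G) : ℤˣ :=
  if n ∈ ⁅centralizer ({θ} : Set G), centralizer ({θ} : Set G)⁆ then 1 else -1

theorem sg_conj (θ n g : G) : sg (g * θ * g⁻¹) (g * n * g⁻¹) = sg θ n := by
  unfold sg
  have h : g * n * g⁻¹ ∈ ⁅centralizer ({g * θ * g⁻¹} : Set G), centralizer ({g * θ * g⁻¹} : Set G)⁆ ↔
      n ∈ ⁅centralizer ({θ} : Set G), centralizer ({θ} : Set G)⁆ := by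
    constructor
    · intro h
      have h1 := Fr.mem_der_conj (n := g⁻¹) h
      have e1 : g⁻¹ * (g * n * g⁻¹) * g⁻¹⁻¹ = n := by group
      have e2 : g⁻¹ * (g * θ * g⁻¹) * g⁻¹⁻¹ = θ := by group
      rw [e1, e2] at h1
      exact h1
    · intro h; exact Fr.mem_der_conj h
  by_cases hc : n ∈ ⁅centralizer ({θ} : Set G), centralizer ({θ} : Set G)⁆
  · rw [if_pos hc, if_pos (h.2 hc)]
  · rw [if_neg hc, if_neg (fun h' => hc (h.1 h'))]

end Sg

namespace Fr

variable {G : Type*} [Group G] {t : G} {K A S : Subgroup G} {a : Fin 23 → G}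

theorem sg_t (F : Fr t K A S a) (n : G) [Decidable (n ∈ K)] : sg t n = if n ∈ K then 1 else -1 := by
  unfold sg
  rw [F.der_eq]
  congr

theorem sg_mul (F : Fr t K A S a) {θ m n : G} (hθ : ∃ g : G, g * t * g⁻¹ = θ) (hm : m * θ = θ * m)
    (hn : n * θ = θ * n) : sg θ (m * n) = sg θ m * sg θ n := by
  classical
  -- reduce to `θ = t`
  have key : ∀ x y : G, x * t = t * x → y * t = t * y → sg t (x * y) = sg t x * sg t y := by
    intro x y hx hy
    rw [F.sg_t, F.sg_t, F.sg_t]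
    rcases F.cent x hx with h | h <;> rcases F.cent y hy with h' | h'
    · rw [if_pos h, if_pos h', if_pos (K.mul_mem h h'), one_mul]
    · have h1 : y ∉ K := fun hh => F.tK (by
        have : t = t * y * y⁻¹ := by group
        rw [this]; exact K.mul_mem h' (K.inv_mem hh))
      have h2 : x * y ∉ K := fun hh => h1 (by
        have : y = x⁻¹ * (x * y) := by group
        rw [this]; exact K.mul_mem (K.inv_mem h) hh)
      rw [if_pos h, if_neg h1, if_neg h2, one_mul]
    · have h1 : x ∉ K := fun hh => F.tK (by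
        have : t = t * x * x⁻¹ := by group
        rw [this]; exact K.mul_mem h (K.inv_mem hh))
      have h2 : x * y ∉ K := fun hh => h1 (by
        have : x = (x * y) * y⁻¹ := by group
        rw [this]; exact K.mul_mem hh (K.inv_mem h'))
      rw [if_neg h1, if_pos h', if_neg h2, mul_one]
    · have h1 : x ∉ K := fun hh => F.tK (by
        have : t = t * x * x⁻¹ := by group
        rw [this]; exact K.mul_mem h (K.inv_mem hh))
      have h1' : y ∉ K := fun hh => F.tK (by
        have : t = t * y * y⁻¹ := by group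
        rw [this]; exact K.mul_mem h' (K.inv_mem hh))
      have h2 : x * y ∈ K := by
        have e : x * y = (t * x) * (t * y) := by
          calc x * y = (t * t) * x * y := by rw [F.tt, one_mul]
            _ = t * (t * x) * y := by group
            _ = t * (x * t) * y := by rw [hx]
            _ = (t * x) * (t * y) := by group
        rw [e]; exact K.mul_mem h h'
      rw [if_neg h1, if_neg h1', if_pos h2]; decide
  obtain ⟨g, rfl⟩ := hθ
  have hc : ∀ x : G, x * (g * t * g⁻¹) = g * t * g⁻¹ * x → (g⁻¹ * x * g) * t = t * (g⁻¹ * x * g) := by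
    intro x hx
    calc (g⁻¹ * x * g) * t = g⁻¹ * (x * (g * t * g⁻¹)) * g := by group
      _ = g⁻¹ * (g * t * g⁻¹ * x) * g := by rw [hx]
      _ = t * (g⁻¹ * x * g) := by group
  have e : ∀ x : G, sg (g * t * g⁻¹) x = sg t (g⁻¹ * x * g) := by
    intro x
    have := sg_conj t (g⁻¹ * x * g) g
    rw [← this]
    congr 1
    group
  rw [e, e, e, ← key _ _ (hc m hm) (hc n hn)]
  congr 1
  group

/-- agreement on `C(t) ∩ C(t a_i)` -/
theorem sg_coh_t (F : Fr t K A S a) {i : Fin 23} (hi : ∃ g : G, g * t * g⁻¹ = t * a i) {n : G}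
    (hn : n * t = t * n) (hn' : n * (t * a i) = t * a i * n) : sg t n = sg (t * a i) n := by
  classical
  have hna : n * a i = a i * n := by
    have h1 : t * (n * a i) = t * (a i * n) := by
      calc t * (n * a i) = (t * n) * a i := by group
        _ = (n * t) * a i := by rw [hn]
        _ = n * (t * a i) := by group
        _ = t * a i * n := hn'
        _ = t * (a i * n) := by group
    exact mul_left_cancel h1
  set J := K ⊓ centralizer ({a i} : Set G) with hJ
  set C := centralizer ({t * a i} : Set G) with hC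
  have hJC : J ≤ C := by
    rintro x ⟨h1, h2'⟩
    have h2 : x * a i = a i * x := mem_centralizer_singleton_iff.1 h2'
    rw [hC, mem_centralizer_singleton_iff]
    calc x * (t * a i) = (x * t) * a i := by group
      _ = (t * x) * a i := by rw [F.com x h1]
      _ = t * (x * a i) := by group
      _ = t * a i * x := by rw [h2]; group
  have hJD : J ≤ ⁅C, C⁆ := by
    conv_lhs => rw [hJ, ← F.J_perf i]
    exact commutator_mono hJC hJC
  have haJ : a i ∈ J := ⟨F.aK i, mem_centralizer_singleton_iff.2 rfl⟩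
  rcases F.cent n hn with h | h
  · have h1 : n ∈ J := ⟨h, mem_centralizer_singleton_iff.2 hna⟩
    rw [F.sg_t, if_pos h]
    unfold sg
    rw [if_pos (hJD h1)]
  · have h1 : t * n ∈ J := by
      refine ⟨h, mem_centralizer_singleton_iff.2 ?_⟩
      calc t * n * a i = t * (n * a i) := by group
        _ = (t * a i) * n := by rw [hna]; group
        _ = (a i * t) * n := by rw [F.com _ (F.aK i)]
        _ = a i * (t * n) := by group
    have h2 : n ∉ K := fun hh => F.tK (by
      have : t = t * n * n⁻¹ := by group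
      rw [this]; exact K.mul_mem h (K.inv_mem hh))
    rw [F.sg_t, if_neg h2]
    unfold sg
    rw [if_neg]
    intro h3
    -- `t ∈ C'`, so `t a_i ∈ C'`
    have h4 : t ∈ ⁅C, C⁆ := by
      have : t = (t * n) * n⁻¹ := by group
      rw [this]
      exact (⁅C, C⁆ : Subgroup G).mul_mem (hJD h1) ((⁅C, C⁆ : Subgroup G).inv_mem h3)
    have h5 : t * a i ∈ ⁅C, C⁆ := (⁅C, C⁆ : Subgroup G).mul_mem h4 (hJD haJ)
    obtain ⟨g, hg⟩ := hi
    have h6 := mem_der_conj (n := g⁻¹) h5
    have e : g⁻¹ * (t * a i) * g⁻¹⁻¹ = t := by rw [← hg]; group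
    rw [e] at h6
    exact F.tK (F.der_le h6)

/-- the action of `N` on the points -/
@[reducible] def pact (F : Fr t K A S a) : MulAction F.NN (orb F.NN t) where
  smul n θ := ⟨(n : G) * θ * (n : G)⁻¹, orb_conj θ.2 n.2⟩
  one_smul θ := by
    apply Subtype.ext
    show ((1 : F.NN) : G) * θ * ((1 : F.NN) : G)⁻¹ = θ
    simp
  mul_smul m n θ := by
    apply Subtype.ext
    show ((m * n : F.NN) : G) * θ * ((m * n : F.NN) : G)⁻¹ = (m : G) * ((n : G) * θ * (n : G)⁻¹) * (m : G)⁻¹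
    rw [Subgroup.coe_mul]; group

theorem glue [Finite G] (F : Fr t K A S a) (hp : ∀ x, x ∈ orb F.NN t ↔ x = t ∨ ∃ i, x = t * a i)
    (h24 : (orb F.NN t).ncard = 24) :
    ∃ f : F.NN →* ℤˣ, f ⟨t, F.t_mem_NN⟩ = -1 := by
  classical
  letI := F.pact
  have hsm : ∀ (n : F.NN) (θ : orb F.NN t), ((n • θ : orb F.NN t) : G) = (n : G) * θ * (n : G)⁻¹ :=
    fun _ _ => rfl
  have hfixc : ∀ (n : F.NN) (θ : orb F.NN t), n • θ = θ → (n : G) * θ = θ * n := by
    intro n θ h
    have h1 := congrArg Subtype.val h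
    rw [hsm] at h1
    exact mul_inv_eq_iff_eq_mul.1 h1
  have hfixc' : ∀ (n : F.NN) (θ : orb F.NN t), (n : G) * θ = θ * n → n • θ = θ := by
    intro n θ h
    apply Subtype.ext
    rw [hsm]
    exact mul_inv_eq_iff_eq_mul.2 h
  have hcj : ∀ θ : orb F.NN t, ∃ g : G, g * t * g⁻¹ = θ := by
    rintro ⟨_, n, -, rfl⟩
    exact ⟨n, rfl⟩
  set t0 : orb F.NN t := ⟨t, self_mem_orb _ _⟩ with ht0
  have htr : ∀ θ : orb F.NN t, ∃ n : F.NN, n • t0 = θ := by
    rintro ⟨_, n, hn, rfl⟩
    exact ⟨⟨n, hn⟩, rfl⟩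
  have hne : ∀ θ : orb F.NN t, θ ≠ t0 → ∃ i, (θ : G) = t * a i := by
    intro θ h
    rcases (hp θ).1 θ.2 with h1 | h1
    · exact absurd (Subtype.ext h1) h
    · exact h1
  -- moving points with `N_K(A)`
  have hmv : ∀ (i j i' j' : orb F.NN t), i ≠ t0 → j ≠ t0 → i' ≠ t0 → j' ≠ t0 → i ≠ i' → j ≠ j' →
      ∃ m : F.NN, m • t0 = t0 ∧ m • i = j ∧ m • i' = j' := by
    intro i j i' j' h1 h2 h3 h4 h5 h6
    obtain ⟨p, hp1⟩ := hne i h1
    obtain ⟨q, hq1⟩ := hne j h2
    obtain ⟨p', hp2⟩ := hne i' h3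
    obtain ⟨q', hq2⟩ := hne j' h4
    have hpp : p ≠ p' := fun e => h5 (Subtype.ext (by rw [hp1, hp2, e]))
    have hqq : q ≠ q' := fun e => h6 (Subtype.ext (by rw [hq1, hq2, e]))
    obtain ⟨n, hn, hN, e1, e2⟩ := F.two hpp hqq
    have hc : n * t * n⁻¹ = t := by rw [F.com n hn, mul_inv_cancel_right]
    have hm : ∀ r s : Fin 23, n * a r * n⁻¹ = a s → n * (t * a r) * n⁻¹ = t * a s := by
      intro r s e
      calc n * (t * a r) * n⁻¹ = (n * t) * a r * n⁻¹ := by group
        _ = (t * n) * a r * n⁻¹ := by rw [F.com n hn]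
        _ = t * (n * a r * n⁻¹) := by group
        _ = t * a s := by rw [e]
    refine ⟨⟨n, (F.mem_NN_of_K hn).2 hN⟩, Subtype.ext hc, Subtype.ext ?_, Subtype.ext ?_⟩
    · rw [hsm, hp1, hq1]; exact hm _ _ e1
    · rw [hsm, hp2, hq2]; exact hm _ _ e2
  have hbig : ∀ i i' j j' : orb F.NN t, ∃ k : orb F.NN t, k ≠ i ∧ k ≠ i' ∧ k ≠ j ∧ k ≠ j' := by
    intro i i' j j'
    by_contra hcon
    push Not at hcon
    have h1 : orb F.NN t ⊆ {(i : G), (i' : G), (j : G), (j' : G)} := by
      intro x hx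
      have h2 := hcon ⟨x, hx⟩
      by_cases e1 : (⟨x, hx⟩ : orb F.NN t) = i
      · left; exact congrArg Subtype.val e1
      by_cases e2 : (⟨x, hx⟩ : orb F.NN t) = i'
      · right; left; exact congrArg Subtype.val e2
      by_cases e3 : (⟨x, hx⟩ : orb F.NN t) = j
      · right; right; left; exact congrArg Subtype.val e3
      · right; right; right; exact congrArg Subtype.val (h2 e1 e2 e3)
    have h3 := Set.ncard_le_ncard h1 (Set.toFinite _)
    have h4 : ({(i : G), (i' : G), (j : G), (j' : G)} : Set G).ncard ≤ 4 := by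
      refine (Set.ncard_insert_le _ _).trans ?_
      have h5 : ({(i' : G), (j : G), (j' : G)} : Set G).ncard ≤ 3 := by
        refine (Set.ncard_insert_le _ _).trans ?_
        have := pair_le (j : G) (j' : G)
        omega
      omega
    omega
  have Fm : Ext.Fam F.NN (orb F.NN t) ℤˣ (fun θ n => sg (θ : G) (n : G)) := by
    refine ⟨?_, ?_, ?_, ?_, ?_, hbig⟩
    · intro i m n hm hn
      exact F.sg_mul (hcj i) (hfixc m i hm) (hfixc n i hn)
    · intro g i n _
      exact sg_conj _ _ _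
    · intro i j n hi hj
      obtain ⟨c, hc⟩ := htr i
      by_cases hij : i = j
      · rw [hij]
      have hi' : (c⁻¹ * n * c) • t0 = t0 := by
        rw [mul_smul, mul_smul, hc, hi, ← hc, inv_smul_smul]
      have hj' : (c⁻¹ * n * c) • (c⁻¹ • j) = c⁻¹ • j := by
        rw [mul_smul, mul_smul, smul_inv_smul, hj]
      have hjt : c⁻¹ • j ≠ t0 := by
        intro e
        apply hij
        rw [← hc, ← e, smul_inv_smul]
      obtain ⟨q, hq⟩ := hne _ hjt
      have h1 := hfixc _ _ hi'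
      have h2 := hfixc _ _ hj'
      rw [hq] at h2
      have hcq : ∃ g : G, g * t * g⁻¹ = t * a q := by
        obtain ⟨g, hg⟩ := hcj (c⁻¹ • j)
        exact ⟨g, by rw [hg, hq]⟩
      have h3 := F.sg_coh_t hcq h1 h2
      have e1 : sg (i : G) (n : G) = sg t ((c⁻¹ * n * c : F.NN) : G) := by
        rw [← hc, hsm, ← sg_conj t _ (c : G)]
        congr 1
        simp only [Subgroup.coe_mul, Subgroup.coe_inv]
        group
      have e2 : sg (j : G) (n : G) = sg (t * a q) ((c⁻¹ * n * c : F.NN) : G) := by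
        rw [← hq, ← sg_conj _ ((c⁻¹ * n * c : F.NN) : G) (c : G), hsm]
        congr 1
        · simp only [Subgroup.coe_inv]; group
        · simp only [Subgroup.coe_mul, Subgroup.coe_inv]
          group
      show sg (i : G) (n : G) = sg (j : G) (n : G)
      rw [e1, e2]
      exact h3
    · intro k i j hi hj
      obtain ⟨c, hc⟩ := htr k
      obtain ⟨k', -, -, -, -⟩ := hbig k i j j
      have hi' : c⁻¹ • i ≠ t0 := fun e => hi (by rw [← hc, ← e, smul_inv_smul])
      have hj' : c⁻¹ • j ≠ t0 := fun e => hj (by rw [← hc, ← e, smul_inv_smul])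
      obtain ⟨x, hx1, hx2, -, -⟩ := hbig t0 (c⁻¹ • i) t0 t0
      obtain ⟨y, hy1, hy2, -, -⟩ := hbig t0 (c⁻¹ • j) t0 t0
      obtain ⟨m, h1, h2, -⟩ := hmv (c⁻¹ • i) (c⁻¹ • j) x y hi' hj' hx1 hy1 hx2.symm hy2.symm
      refine ⟨c * m * c⁻¹, ?_, ?_⟩
      · rw [mul_smul, mul_smul, ← hc, inv_smul_smul, h1]
      · rw [mul_smul, mul_smul, h2, smul_inv_smul]
    · intro k i i' j j' hi hi' hj hj' hii hjj
      obtain ⟨c, hc⟩ := htr k
      have g1 : c⁻¹ • i ≠ t0 := fun e => hi (by rw [← hc, ← e, smul_inv_smul])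
      have g2 : c⁻¹ • i' ≠ t0 := fun e => hi' (by rw [← hc, ← e, smul_inv_smul])
      have g3 : c⁻¹ • j ≠ t0 := fun e => hj (by rw [← hc, ← e, smul_inv_smul])
      have g4 : c⁻¹ • j' ≠ t0 := fun e => hj' (by rw [← hc, ← e, smul_inv_smul])
      obtain ⟨m, h1, h2, h3⟩ := hmv _ _ _ _ g1 g3 g2 g4 (fun e => hii (smul_left_cancel _ e))
        (fun e => hjj (smul_left_cancel _ e))
      refine ⟨c * m * c⁻¹, ?_, ?_, ?_⟩
      · rw [mul_smul, mul_smul, ← hc, inv_smul_smul, h1]
      · rw [mul_smul, mul_smul, h2, smul_inv_smul]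
      · rw [mul_smul, mul_smul, h3, smul_inv_smul]
  haveI : Nonempty (orb F.NN t) := ⟨t0⟩
  obtain ⟨f, hf⟩ := Fm.exists_hom
  refine ⟨f, ?_⟩
  have h1 : (⟨t, F.t_mem_NN⟩ : F.NN) • t0 = t0 := hfixc' _ _ rfl
  rw [hf t0 _ h1]
  show sg t t = -1
  rw [F.sg_t, if_neg F.tK]

end Fr

end Cfsg.Agent.OddHalf.D8.Fi23

end
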