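import Cfsg.Agent.OddHalf.D8.Fi23.Facts
import Cfsg.Agent.SignalizersComponents.PLayerAut
import Cfsg.Agent.OddHalf.D8.Fi23.Glue
import Cfsg.Agent.OddHalf.D9.TransferGen
import Cfsg.Agent.OddHalf.Front.FE
import Cfsg.Agent.Transfer.FrobeniusFusion
import Cfsg.Agent.OddHalf.Soft
import Cfsg.Agent.SignalizersComponents.DistinctComponents
import Cfsg.Agent.OddHalf.D9.Outer
import Mathlib
import Cfsg.Agent.OddHalf.D8.PumpX
import Cfsg.Agent.OddHalf.Front.OfSheet
import Cfsg.Agent.OddHalf.D8.Fi23.Pump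
import Cfsg.Agent.OddHalf.D8.Rows
import Cfsg.Agent.MTwelveType.SylowModel
import Cfsg.Agent.SporadicA.MathieuRecog
import Cfsg.Agent.S1694
import Cfsg.Agent.S1619
import Cfsg.Agent.S1627
import Cfsg.Agent.S0399
import Cfsg.Agent.R01.Fi22Facts
import Cfsg.Agent.KFacts.HS.Base
import Cfsg.Agent.BM.KHAll
import Cfsg.Agent.KFacts.FiTTh.Has

-- merged: Cfsg.Agent.OddHalf.D8.Fi23.SheetMap
section

/-!
# ODD half, D8, row `K = Fi₂₃` (helper907): the facts are invariant under isomorphisms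
-/

set_option autoImplicit false

namespace Cfsg.Agent.OddHalf.D8.Fi23

open scoped commutatorElement
open Subgroup

section

variable {K L : Type*} [Group K] [Group L] (g : L ≃* K)

theorem mem_comap_equiv {A : Subgroup K} {x : L} : x ∈ A.comap g.toMonoidHom ↔ g x ∈ A := Iff.rfl

theorem card_comap_equiv (A : Subgroup K) : Nat.card (A.comap g.toMonoidHom) = Nat.card A :=
  Nat.card_congr (Equiv.subtypeEquiv g.toEquiv fun _ => Iff.rfl)

theorem mem_normalizer_comap {A : Subgroup K} {n : L} :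
    n ∈ normalizer (A.comap g.toMonoidHom : Set L) ↔ g n ∈ normalizer (A : Set K) := by
  rw [mem_normalizer_iff, mem_normalizer_iff]
  constructor
  · intro h x
    have h1 := h (g.symm x)
    rw [mem_comap_equiv, mem_comap_equiv, map_mul, map_mul, map_inv, g.apply_symm_apply] at h1
    exact h1
  · intro h x
    rw [mem_comap_equiv, mem_comap_equiv, map_mul, map_mul, map_inv]
    exact h (g x)

theorem normalizer_comap_equiv (A : Subgroup K) :
    normalizer (A.comap g.toMonoidHom : Set L) = (normalizer (A : Set K)).comap g.toMonoidHom := by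
  ext n; exact mem_normalizer_comap g

theorem mem_centralizer_comap {b : K} {x : L} :
    x ∈ centralizer ({g.symm b} : Set L) ↔ g x ∈ centralizer ({b} : Set K) := by
  rw [mem_centralizer_singleton_iff, mem_centralizer_singleton_iff]
  constructor
  · intro h
    have h1 := congrArg g h
    rwa [map_mul, map_mul, g.apply_symm_apply] at h1
  · intro h
    apply g.injective
    rw [map_mul, map_mul, g.apply_symm_apply, h]

theorem centralizer_comap_equiv (b : K) :
    centralizer ({g.symm b} : Set L) = (centralizer ({b} : Set K)).comap g.toMonoidHom := by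
  ext x; exact mem_centralizer_comap g

theorem commutator_comap_equiv (A : Subgroup K) :
    ⁅A.comap g.toMonoidHom, A.comap g.toMonoidHom⁆ = ⁅A, A⁆.comap g.toMonoidHom := by
  have e : ∀ B : Subgroup K, B.comap g.toMonoidHom = B.map g.symm.toMonoidHom := fun B =>
    Subgroup.comap_equiv_eq_map_symm' g B
  rw [e, e, Subgroup.map_commutator]

end

/-- **Transport of the facts** -/
theorem Sheet.comap {K L : Type*} [Group K] [Group L] (g : L ≃* K) {A : Subgroup K} {S : Sylow 2 K}
    {a : Fin 23 → K} (h : Sheet K A S a) : ∃ T : Sylow 2 L, Sheet L (A.comap g.toMonoidHom) T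
      (fun i => g.symm (a i)) := by
  have hr : (S : Subgroup K) ≤ g.toMonoidHom.range := by
    intro x _
    exact ⟨g.symm x, g.apply_symm_apply x⟩
  refine ⟨S.comapOfInjective g.toMonoidHom g.injective hr, ?_⟩
  have hS : ((S.comapOfInjective g.toMonoidHom g.injective hr : Sylow 2 L) : Subgroup L) =
      (S : Subgroup K).comap g.toMonoidHom := rfl
  have hconj : ∀ {x : L} {b : K}, IsConj (g x) b → IsConj x (g.symm b) := by
    intro x b hx
    obtain ⟨c, hc⟩ := isConj_iff.1 hx
    exact isConj_iff.2 ⟨g.symm c, by rw [← hc, map_mul, map_mul, map_inv, g.symm_apply_apply]⟩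
  exact
    { sq := fun x hx => g.injective (by rw [map_mul, map_one]; exact h.sq _ hx)
      cardA := by rw [card_comap_equiv, h.cardA]
      self := fun x hx => by
        apply h.self
        intro y hy
        have h1 := congrArg g (hx (g.symm y) (by rw [mem_comap_equiv, g.apply_symm_apply]; exact hy))
        rwa [map_mul, map_mul, g.apply_symm_apply] at h1
      mem := fun i => by rw [mem_comap_equiv, g.apply_symm_apply]; exact h.mem i
      shape := fun x hx => by
        rcases h.shape (g x) hx with h1 | ⟨i, h1⟩ | ⟨i, j, h1⟩ | ⟨i, j, k, h1⟩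
        · exact Or.inl (g.injective (by rw [h1, map_one]))
        · exact Or.inr (Or.inl ⟨i, by rw [← h1, g.symm_apply_apply]⟩)
        · exact Or.inr (Or.inr (Or.inl ⟨i, j, by rw [← map_mul, ← h1, g.symm_apply_apply]⟩))
        · exact Or.inr (Or.inr (Or.inr ⟨i, j, k, by rw [← map_mul, ← map_mul, ← h1, g.symm_apply_apply]⟩))
      perm := fun n hn i => by
        obtain ⟨j, hj⟩ := h.perm _ ((mem_normalizer_comap g).1 hn) i
        refine ⟨j, ?_⟩
        show n * g.symm (a i) * n⁻¹ = g.symm (a j)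
        rw [← hj, map_mul, map_mul, map_inv, g.symm_apply_apply]
      three := fun i j k i' j' k' h1 h2 h3 h4 h5 h6 => by
        obtain ⟨n, hn, e1, e2, e3⟩ := h.three i j k i' j' k' h1 h2 h3 h4 h5 h6
        refine ⟨g.symm n, (mem_normalizer_comap g).2 (by rw [g.apply_symm_apply]; exact hn), ?_, ?_, ?_⟩
        · show g.symm n * g.symm (a i) * (g.symm n)⁻¹ = g.symm (a i')
          rw [← e1, map_mul, map_mul, map_inv]
        · show g.symm n * g.symm (a j) * (g.symm n)⁻¹ = g.symm (a j')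
          rw [← e2, map_mul, map_mul, map_inv]
        · show g.symm n * g.symm (a k) * (g.symm n)⁻¹ = g.symm (a k')
          rw [← e3, map_mul, map_mul, map_inv]
      fix := fun n hn h8 => by
        apply h.fix _ ((mem_normalizer_comap g).1 hn)
        refine h8.trans (Set.ncard_le_ncard ?_ (Set.toFinite _))
        intro i hi
        have h0 : n * g.symm (a i) = g.symm (a i) * n := hi
        have h1 := congrArg g h0
        rw [map_mul, map_mul, g.apply_symm_apply] at h1
        exact h1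
      cardN := by rw [normalizer_comap_equiv, card_comap_equiv, h.cardN]
      AS := fun x hx => h.AS hx
      cardS := by rw [hS, card_comap_equiv, h.cardS]
      uniq := fun B hB hB2 hB3 => by
        have h1 := h.uniq (B.comap g.symm.toMonoidHom) ?_ ?_ ?_
        · rw [← h1]
          ext x
          show x ∈ B ↔ g.symm (g x) ∈ B
          rw [g.symm_apply_apply]
        · intro x hx
          have h2 : g.symm x ∈ (S : Subgroup K).comap g.toMonoidHom := hB hx
          rw [mem_comap_equiv, g.apply_symm_apply] at h2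
          exact h2
        · intro x hx
          apply g.symm.injective
          rw [map_mul, map_one]
          exact hB2 _ hx
        · rw [card_comap_equiv g.symm]; exact hB3
      inv := fun x h1 h2 => by
        have h3 : g x * g x = 1 := by rw [← map_mul, h1, map_one]
        have h4 : g x ≠ 1 := fun h5 => h2 (g.injective (by rw [h5, map_one]))
        rcases h.inv _ h3 h4 with h5 | h5 | h5
        · exact Or.inl (hconj h5)
        · refine Or.inr (Or.inl ?_)
          show IsConj x (g.symm (a 0) * g.symm (a 1))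
          rw [← map_mul]; exact hconj h5
        · refine Or.inr (Or.inr ?_)
          show IsConj x (g.symm (a 0) * g.symm (a 1) * g.symm (a 2))
          rw [← map_mul, ← map_mul]; exact hconj h5
      der2 := by
        show g.symm (a 0) * g.symm (a 1) ∈ ⁅centralizer ({g.symm (a 0) * g.symm (a 1)} : Set L),
          centralizer ({g.symm (a 0) * g.symm (a 1)} : Set L)⁆
        rw [← map_mul, centralizer_comap_equiv, commutator_comap_equiv, mem_comap_equiv, g.apply_symm_apply]
        exact h.der2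
      der3 := by
        show g.symm (a 0) * g.symm (a 1) * g.symm (a 2) ∈
          ⁅centralizer ({g.symm (a 0) * g.symm (a 1) * g.symm (a 2)} : Set L),
          centralizer ({g.symm (a 0) * g.symm (a 1) * g.symm (a 2)} : Set L)⁆
        rw [← map_mul, ← map_mul, centralizer_comap_equiv, commutator_comap_equiv, mem_comap_equiv,
          g.apply_symm_apply]
        exact h.der3
      qs := by
        show Cfsg.IsQuasisimple ↥(centralizer ({g.symm (a 0)} : Set L))
        rw [centralizer_comap_equiv, Subgroup.comap_equiv_eq_map_symm']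
        exact Cfsg.Agent.SignalizersComponents.PLayerAut.isQuasisimple_of_equiv (g.symm.subgroupMap _) h.qs
      cen := fun x hx => by
        rcases h.cen (g x) (fun y hy => by
          have h1 := hx (g.symm y) (by rw [← map_mul, hy, map_mul])
          have h2 := congrArg g h1
          rwa [map_mul, map_mul, g.apply_symm_apply] at h2) with h1 | h1
        · exact Or.inl (g.injective (by rw [h1, map_one]))
        · exact Or.inr (by rw [← h1, g.symm_apply_apply])
      thirteen := by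
        show 13 ∣ Nat.card ↥(centralizer ({g.symm (a 0)} : Set L))
        rw [centralizer_comap_equiv, card_comap_equiv]; exact h.thirteen
      gen := by
        show centralizer ({g.symm (a 0)} : Set L) ⊔ centralizer ({g.symm (a 1)} : Set L) = ⊤
        rw [centralizer_comap_equiv, centralizer_comap_equiv, Subgroup.comap_equiv_eq_map_symm',
          Subgroup.comap_equiv_eq_map_symm', ← Subgroup.map_sup, h.gen]
        exact Subgroup.map_top_of_surjective _ g.symm.surjective
      c2 := by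
        show ¬ 13 ∣ Nat.card ↥(centralizer ({g.symm (a 0) * g.symm (a 1)} : Set L))
        rw [← map_mul, centralizer_comap_equiv, card_comap_equiv]; exact h.c2
      c3 := by
        show ¬ 13 ∣ Nat.card ↥(centralizer ({g.symm (a 0) * g.symm (a 1) * g.symm (a 2)} : Set L))
        rw [← map_mul, ← map_mul, centralizer_comap_equiv, card_comap_equiv]; exact h.c3 }

end Cfsg.Agent.OddHalf.D8.Fi23

end

-- merged: Cfsg.Agent.OddHalf.D8.Fi23.QTwo
section

/-!
# `C_G(t) = Q × K` with `Q` a cyclic 2-group: `|Q| = 2` and `t` moves in `N_G(T)` (helper907)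
-/

set_option autoImplicit false

namespace Cfsg.Agent.OddHalf.D8.Fi23

open Subgroup Cfsg Cfsg.Agent.OddHalf
open scoped commutatorElement

universe u

/-- `C_G(t) = Q × K` -/
structure Pre {G : Type u} [Group G] (t q : G) (K A S : Subgroup G) (a : Fin 23 → G) : Prop where
  st : Front.FE.Start K t q
  loc : Loc K A S a
  cent : ∀ g, g * t = t * g → ∃ y ∈ zpowers q, y * g ∈ K

namespace Pre

variable {G : Type u} [Group G] {t q : G} {K A S : Subgroup G} {a : Fin 23 → G}

theorem QK (P : Pre t q K A S a) {x y : G} (hx : x ∈ K) (hy : y ∈ zpowers q) : x * y = y * x :=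
  P.st.toStart0.QK y hy x hx

theorem QQ {x y : G} (hx : x ∈ zpowers q) (hy : y ∈ zpowers q) : x * y = y * x := by
  obtain ⟨i, rfl⟩ := mem_zpowers_iff.1 hx
  obtain ⟨j, rfl⟩ := mem_zpowers_iff.1 hy
  rw [← zpow_add, ← zpow_add, add_comm]

theorem inter (P : Pre t q K A S a) {x : G} (hx : x ∈ K) (hq : x ∈ zpowers q) : x = 1 :=
  P.st.cen x hx fun _ hy => P.QK hy hq

theorem com (P : Pre t q K A S a) : ∀ k ∈ K, k * t = t * k := fun _ hk => P.QK hk P.st.tQ

theorem tK (P : Pre t q K A S a) : t ∉ K := fun h => P.st.t1 (P.inter h P.st.tQ)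

theorem Qt (P : Pre t q K A S a) : ∀ y ∈ zpowers q, y * t = t * y := fun _ hy => QQ hy P.st.tQ

/-- decomposition of the elements of `C(t)` -/
theorem dec (P : Pre t q K A S a) {g : G} (hg : g * t = t * g) : ∃ y ∈ zpowers q, ∃ k ∈ K, g = y * k := by
  obtain ⟨y, hy, hk⟩ := P.cent g hg
  exact ⟨y⁻¹, (zpowers q).inv_mem hy, y * g, hk, by group⟩

/-- commutators of `C(t)` lie in `K` -/
theorem der_le (P : Pre t q K A S a) : ⁅centralizer ({t} : Set G), centralizer ({t} : Set G)⁆ ≤ K := by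
  rw [Subgroup.commutator_le]
  intro g hg h hh
  obtain ⟨u, hu, k, hk, rfl⟩ := P.dec (mem_centralizer_singleton_iff.1 hg)
  obtain ⟨v, hv, l, hl, rfl⟩ := P.dec (mem_centralizer_singleton_iff.1 hh)
  have e : ⁅u * k, v * l⁆ = ⁅k, l⁆ := by
    have hu' := (zpowers q).inv_mem hu
    have hv' := (zpowers q).inv_mem hv
    rw [commutatorElement_def, commutatorElement_def, mul_inv_rev, mul_inv_rev]
    calc u * k * (v * l) * (k⁻¹ * u⁻¹) * (l⁻¹ * v⁻¹)
        = u * (k * v) * l * k⁻¹ * u⁻¹ * (l⁻¹ * v⁻¹) := by group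
      _ = u * v * (k * l * k⁻¹ * u⁻¹) * (l⁻¹ * v⁻¹) := by rw [P.QK hk hv]; group
      _ = u * v * (u⁻¹ * (k * l * k⁻¹)) * (l⁻¹ * v⁻¹) := by
          rw [P.QK (K.mul_mem (K.mul_mem hk hl) (K.inv_mem hk)) hu']
      _ = (u * v) * u⁻¹ * ((k * l * k⁻¹ * l⁻¹) * v⁻¹) := by group
      _ = (v * u) * u⁻¹ * (v⁻¹ * (k * l * k⁻¹ * l⁻¹)) := by
          rw [QQ hu hv, P.QK (K.mul_mem (K.mul_mem (K.mul_mem hk hl) (K.inv_mem hk)) (K.inv_mem hl)) hv']
      _ = k * l * k⁻¹ * l⁻¹ := by group
  rw [e, commutatorElement_def]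
  exact K.mul_mem (K.mul_mem (K.mul_mem hk hl) (K.inv_mem hk)) (K.inv_mem hl)

/-- `t` is not conjugate to an element of `K` -/
theorem not_conj (P : Pre t q K A S a) {x : G} (hx : x ∈ K) (g : G) : g * t * g⁻¹ ≠ x := by
  intro h
  have tt := P.st.tt
  have hsq : x * x = 1 := by
    rw [← h]
    calc g * t * g⁻¹ * (g * t * g⁻¹) = g * (t * t) * g⁻¹ := by group
      _ = 1 := by rw [tt]; group
  have hx1 : x ≠ 1 := by
    intro h1
    rw [h1, mul_inv_eq_one] at h
    exact P.st.t1 (mul_eq_left.1 h)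
  have h1 := P.loc.der x hx hsq hx1
  have h2 : x ∈ ⁅centralizer ({x} : Set G), centralizer ({x} : Set G)⁆ :=
    commutator_mono inf_le_right inf_le_right h1
  have h3 := Fr.mem_der_conj (n := g⁻¹) h2
  have e : g⁻¹ * x * g⁻¹⁻¹ = t := by rw [← h]; group
  rw [e] at h3
  exact P.tK (P.der_le h3)

/-- a conjugate of `t` in `C(t)` lies in `t K` -/
theorem conj_mem (P : Pre t q K A S a) [Finite G] {g : G} (h : g * t * g⁻¹ * t = t * (g * t * g⁻¹)) :
    t * (g * t * g⁻¹) ∈ K := by
  have tt := P.st.tt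
  obtain ⟨y, hy, k, hk, he⟩ := P.dec h
  have hsq : g * t * g⁻¹ * (g * t * g⁻¹) = 1 := by
    calc g * t * g⁻¹ * (g * t * g⁻¹) = g * (t * t) * g⁻¹ := by group
      _ = 1 := by rw [tt]; group
  rw [he] at hsq
  have h1 : (y * y) * (k * k) = 1 := by
    calc (y * y) * (k * k) = y * (y * k) * k := by group
      _ = y * (k * y) * k := by rw [P.QK hk hy]
      _ = y * k * (y * k) := by group
      _ = 1 := hsq
  have h2 : y * y = 1 := by
    apply P.inter
    · have : y * y = (k * k)⁻¹ := eq_inv_of_mul_eq_one_left h1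
      rw [this]; exact K.inv_mem (K.mul_mem hk hk)
    · exact (zpowers q).mul_mem hy hy
  by_cases hy1 : y = 1
  · exfalso
    rw [hy1, one_mul] at he
    exact P.not_conj hk g he
  · have h3 := P.st.toStart0.uniq hy h2 hy1
    rw [he, h3, ← mul_assoc, tt, one_mul]
    exact hk

/-- the index of `C(t)` is even -/
theorem even_index [Finite G] (P : Pre t q K A S a) (hG : commutator G = ⊤) :
    2 ∣ (centralizer ({t} : Set G)).index := by
  classical
  have tt := P.st.tt
  set C := centralizer ({t} : Set G) with hC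
  have htC : t ∈ C := mem_centralizer_singleton_iff.2 rfl
  have hKC : K ≤ C := fun k hk => mem_centralizer_singleton_iff.2 (P.com k hk)
  have : Fact (Nat.Prime 2) := ⟨Nat.prime_two⟩
  have : Fintype (G ⧸ C) := Fintype.ofFinite _
  let φ : C →* Abelianization C := Abelianization.of
  have hmap : (commutator C).map C.subtype = ⁅C, C⁆ := by
    rw [commutator_def, Subgroup.map_commutator, ← MonoidHom.range_eq_map, Subgroup.range_subtype]
  have hφK : ∀ k : C, (k : G) ∈ K → φ k = 1 := by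
    intro k hk
    rw [← MonoidHom.mem_ker, Abelianization.ker_of]
    rw [← P.loc.K_perf] at hk
    have h1 : (k : G) ∈ ⁅C, C⁆ := commutator_mono hKC hKC hk
    rw [← hmap] at h1
    obtain ⟨y, hy, hyk⟩ := h1
    have : y = k := Subtype.ext hyk
    rwa [← this]
  have hφt : φ ⟨t, htC⟩ ≠ 1 := by
    intro h
    rw [← MonoidHom.mem_ker, Abelianization.ker_of] at h
    apply P.tK
    apply P.der_le
    rw [← hC, ← hmap]
    exact ⟨_, h, rfl⟩
  have hV : MonoidHom.transfer φ t = 1 := by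
    have h1 := Abelianization.commutator_subset_ker (MonoidHom.transfer φ)
    rw [hG] at h1
    exact h1 (mem_top t)
  have ho : orderOf t = 2 := orderOf_eq_prime (by rw [pow_two, tt]) P.st.t1
  rw [D9.TransferGen.transfer_eq C φ t (by
    intro k hk hk1 g h
    rw [ho] at hk
    have hk2 : k = 2 := by
      have : k ≤ 2 := Nat.le_of_dvd (by norm_num) hk
      interval_cases k <;> simp_all
    subst hk2
    have e : (⟨g⁻¹ * t ^ 2 * g, h⟩ : C) = 1 := by
      apply Subtype.ext
      show g⁻¹ * t ^ 2 * g = 1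
      rw [pow_two, tt]; group
    rw [e, map_one])] at hV
  have hval : ∀ x ∈ Finset.univ.filter (fun x : G ⧸ C => t • x = x),
      D9.TransferGen.val C φ t x = φ ⟨t, htC⟩ := by
    intro x hx
    rw [Finset.mem_filter] at hx
    obtain ⟨g, rfl⟩ := QuotientGroup.mk_surjective x
    have h1 := (D9.TransferGen.smul_mk_eq C t g).1 hx.2
    rw [D9.TransferGen.val_mk C φ t g h1]
    have h2 : g⁻¹ * t * g⁻¹⁻¹ = g⁻¹ * t * g := by group
    have h3 := P.conj_mem (g := g⁻¹) (by
      rw [h2]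
      exact mem_centralizer_singleton_iff.1 h1)
    rw [h2] at h3
    have h4 : (⟨g⁻¹ * t * g, h1⟩ : C) = ⟨t, htC⟩ * ⟨t * (g⁻¹ * t * g), hKC h3⟩ := by
      apply Subtype.ext
      show g⁻¹ * t * g = t * (t * (g⁻¹ * t * g))
      rw [← mul_assoc t t, tt, one_mul]
    rw [h4, map_mul, hφK ⟨t * (g⁻¹ * t * g), hKC h3⟩ h3, mul_one]
  rw [Finset.prod_congr rfl hval, Finset.prod_const] at hV
  set n := (Finset.univ.filter (fun x : G ⧸ C => t • x = x)).card with hn
  have hn2 : 2 ∣ n := by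
    have h1 : φ ⟨t, htC⟩ ^ 2 = 1 := by
      rw [← map_pow]
      have : (⟨t, htC⟩ : C) ^ 2 = 1 := Subtype.ext (by show t ^ 2 = 1; rw [pow_two, tt])
      rw [this, map_one]
    have h2 : orderOf (φ ⟨t, htC⟩) = 2 := orderOf_eq_prime h1 hφt
    rw [← h2]
    exact orderOf_dvd_of_pow_eq_one hV
  have hp : IsPGroup 2 (zpowers t) := by
    rintro ⟨x, hx⟩
    obtain ⟨i, rfl⟩ := mem_zpowers_iff.1 hx
    refine ⟨1, Subtype.ext ?_⟩
    show (t ^ i) ^ (2 ^ 1) = 1
    have h2 : t ^ (2 : ℤ) = 1 := by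
      rw [show (2 : ℤ) = 1 + 1 by norm_num, zpow_add, zpow_one, tt]
    rw [pow_one, pow_two, ← zpow_add, ← two_mul, zpow_mul, h2, one_zpow]
  have h1 := hp.card_modEq_card_fixedPoints (G ⧸ C)
  have h2 : Nat.card (MulAction.fixedPoints (zpowers t) (G ⧸ C)) = n := by
    rw [hn, ← Set.ncard_coe_finset, ← Nat.card_coe_set_eq]
    congr 1
    apply congrArg
    ext x
    rw [MulAction.mem_fixedPoints, Finset.coe_filter, Set.mem_ofPred_eq]
    constructor
    · intro h
      exact ⟨Finset.mem_univ _, h ⟨t, mem_zpowers t⟩⟩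
    · rintro ⟨-, h⟩ ⟨y, hy⟩
      have h3 : zpowers t ≤ MulAction.stabilizer G x := by
        rw [zpowers_le]; exact h
      exact h3 hy
  rw [h2] at h1
  have h3 : C.index = Nat.card (G ⧸ C) := rfl
  rw [h3]
  exact (Nat.ModEq.dvd_iff h1 dvd_rfl).2 hn2

/-! ### Growth -/

theorem mem_sup_comm {H L : Subgroup G} (hc : ∀ x ∈ H, ∀ k ∈ L, k * x = x * k) {y : G} :
    y ∈ H ⊔ L ↔ ∃ x ∈ H, ∃ k ∈ L, y = x * k := by
  constructor
  · intro hy
    let M : Subgroup G :=
      { carrier := {y | ∃ x ∈ H, ∃ k ∈ L, y = x * k}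
        one_mem' := ⟨1, one_mem _, 1, one_mem _, by group⟩
        mul_mem' := by
          rintro _ _ ⟨x, ha, k, hk, rfl⟩ ⟨b, hb, l, hl, rfl⟩
          refine ⟨x * b, mul_mem ha hb, k * l, mul_mem hk hl, ?_⟩
          calc x * k * (b * l) = x * (k * b) * l := by group
            _ = x * (b * k) * l := by rw [hc b hb k hk]
            _ = x * b * (k * l) := by group
        inv_mem' := by
          rintro _ ⟨x, ha, k, hk, rfl⟩
          refine ⟨x⁻¹, inv_mem ha, k⁻¹, inv_mem hk, ?_⟩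
          rw [mul_inv_rev, hc x⁻¹ (inv_mem ha) k⁻¹ (inv_mem hk)] }
    have h1 : H ⊔ L ≤ M := by
      rw [sup_le_iff]
      exact ⟨fun x ha => ⟨x, ha, 1, one_mem _, by group⟩, fun k hk => ⟨1, one_mem _, k, hk, by group⟩⟩
    exact h1 hy
  · rintro ⟨x, ha, k, hk, rfl⟩
    exact mul_mem ((le_sup_left : H ≤ _) ha) ((le_sup_right : L ≤ _) hk)

theorem mem_QS (P : Pre t q K A S a) {x : G} :
    x ∈ zpowers q ⊔ S ↔ ∃ u ∈ zpowers q, ∃ s ∈ S, x = u * s :=
  mem_sup_comm fun _ hu _ hs => P.QK (P.loc.SK hs) hu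

theorem QS_comm (P : Pre t q K A S a) {x y : G} (hx : x ∈ zpowers q ⊔ S) (hy : y ∈ zpowers q) :
    x * y = y * x := by
  obtain ⟨u, hu, s, hs, rfl⟩ := P.mem_QS.1 hx
  calc u * s * y = u * (s * y) := by group
    _ = (u * y) * s := by rw [P.QK (P.loc.SK hs) hy]; group
    _ = y * (u * s) := by rw [QQ hu hy]; group

theorem pQS (P : Pre t q K A S a) : IsPGroup 2 ↥(zpowers q ⊔ S) := by
  apply P.st.pQ.to_sup_of_normal_right' P.loc.pS
  intro x hx
  rw [mem_normalizer_iff]
  intro y
  constructor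
  · intro hy
    have : x * y * x⁻¹ = y := by rw [← P.QK (P.loc.SK hy) hx]; group
    rw [this]; exact hy
  · intro hy
    have h2 := P.QK (P.loc.SK hy) hx
    have : y = x * y * x⁻¹ := by
      have h3 : x * y = x * (x * y * x⁻¹) := by rw [← h2]; group
      exact mul_left_cancel h3
    rw [this]; exact hy

/-- `Q S` is a maximal 2-subgroup of `C(t)` -/
theorem maxQS [Finite G] (P : Pre t q K A S a) {R : Subgroup G} (hR : IsPGroup 2 R)
    (hRt : ∀ x ∈ R, x * t = t * x) (hle : zpowers q ⊔ S ≤ R) : R ≤ zpowers q ⊔ S := by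
  intro x hx
  obtain ⟨u, hu, k, hk, rfl⟩ := P.dec (hRt x hx)
  have hSR : S ≤ R ⊓ K := le_inf (le_sup_right.trans hle) P.loc.SK
  have h2 : S = R ⊓ K := by
    apply Subgroup.eq_of_le_of_card_ge hSR
    obtain ⟨c, hc, hcS⟩ := P.loc.sylow (R ⊓ K) inf_le_right (hR.to_le inf_le_left)
    have h3 : (R ⊓ K).map (MulAut.conj c).toMonoidHom ≤ S := by
      rintro _ ⟨y, hy, rfl⟩
      exact hcS y hy
    rw [Nat.card_congr ((R ⊓ K).equivMapOfInjective (MulAut.conj c).toMonoidHom
      (MulAut.conj c).injective).toEquiv]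
    exact Nat.card_le_card_of_injective _ (inclusion_injective h3)
  have hkR : k ∈ R := by
    have h3 := R.mul_mem (R.inv_mem (hle ((le_sup_left : zpowers q ≤ _) hu))) hx
    have e : u⁻¹ * (u * k) = k := by group
    rwa [e] at h3
  have hkS : k ∈ S := by rw [h2]; exact ⟨hkR, hk⟩
  exact P.mem_QS.2 ⟨u, hu, k, hkS, rfl⟩

/-- `t` moves in `N_G(Q S)` -/
theorem exists_mover [Finite G] (P : Pre t q K A S a) (hG : commutator G = ⊤) :
    ∃ y, y ∈ normalizer ((zpowers q ⊔ S : Subgroup G) : Set G) ∧ y * t * y⁻¹ ≠ t := by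
  have : Fact (Nat.Prime 2) := ⟨Nat.prime_two⟩
  obtain ⟨R, hR⟩ := P.pQS.exists_le_sylow
  have hTt : ∀ x ∈ zpowers q ⊔ S, x * t = t * x := fun x hx => P.QS_comm hx P.st.tQ
  have hlt : zpowers q ⊔ S < (R : Subgroup G) := by
    refine lt_of_le_of_ne hR fun h => ?_
    have h0 : (R : Subgroup G) ≤ centralizer ({t} : Set G) := by
      rw [← h]
      exact fun x hx => mem_centralizer_singleton_iff.2 (hTt x hx)
    exact R.not_dvd_index ((P.even_index hG).trans (index_dvd_of_le h0))
  have : Group.IsNilpotent (R : Subgroup G) := R.isPGroup'.isNilpotent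
  obtain ⟨y, hyR, hyT, hyN⟩ :=
    Cfsg.Agent.Transfer.FrobeniusFusion.exists_mem_normalizer_notMem hlt
  refine ⟨y, hyN, fun h => hyT ?_⟩
  have h1 : IsPGroup 2 ↥((zpowers q ⊔ S) ⊔ zpowers y) :=
    R.isPGroup'.to_le (sup_le hR (zpowers_le.2 hyR))
  have h2 : (zpowers q ⊔ S) ⊔ zpowers y ≤ centralizer ({t} : Set G) := by
    refine sup_le (fun x hx => mem_centralizer_singleton_iff.2 (hTt x hx)) (zpowers_le.2 ?_)
    exact mem_centralizer_singleton_iff.2 (mul_inv_eq_iff_eq_mul.1 h)
  exact P.maxQS h1 (fun x hx => mem_centralizer_singleton_iff.1 (h2 hx)) le_sup_left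
    (mem_sup_right (mem_zpowers y))

theorem q_sq [Finite G] (P : Pre t q K A S a) (hG : commutator G = ⊤) : q * q = 1 := by
  obtain ⟨y, hyN, hyt⟩ := P.exists_mover hG
  by_contra hne
  have hqq : q * q ∈ zpowers q := (zpowers q).mul_mem (mem_zpowers q) (mem_zpowers q)
  have h1 : t ∈ zpowers (q * q) := by
    have hle : zpowers (q * q) ≤ zpowers q := by rw [zpowers_le]; exact hqq
    obtain ⟨s, hs, hss, hs1⟩ := Front.FE.exists_involution hne (P.st.pQ.to_le hle)
    rw [← P.st.toStart0.uniq (hle hs) hss hs1]; exact hs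
  have h2 : y * q * y⁻¹ ∈ zpowers q ⊔ S :=
    (mem_normalizer_iff.1 hyN q).1 (mem_sup_left (mem_zpowers q))
  obtain ⟨u, hu, s, hs, he⟩ := P.mem_QS.1 h2
  have h3 : ∀ x ∈ A, s * x = x * s := by
    intro x hx
    have hxT : x ∈ zpowers q ⊔ S := mem_sup_right (P.loc.AS hx)
    have h4 : y⁻¹ * x * y ∈ zpowers q ⊔ S := by
      apply (mem_normalizer_iff.1 hyN _).2
      have : y * (y⁻¹ * x * y) * y⁻¹ = x := by group
      rw [this]; exact hxT
    have h5 := P.QS_comm h4 (mem_zpowers q)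
    have h6 : x * (y * q * y⁻¹) = y * q * y⁻¹ * x := by
      calc x * (y * q * y⁻¹) = y * (y⁻¹ * x * y * q) * y⁻¹ := by group
        _ = y * (q * (y⁻¹ * x * y)) * y⁻¹ := by rw [h5]
        _ = y * q * y⁻¹ * x := by group
    rw [he] at h6
    have h7 : x * u = u * x := P.QK (P.loc.AK hx) hu
    have h8 : u * (x * s) = u * (s * x) := by
      calc u * (x * s) = (u * x) * s := by group
        _ = (x * u) * s := by rw [h7]
        _ = x * (u * s) := by group
        _ = u * s * x := h6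
        _ = u * (s * x) := by group
    exact (mul_left_cancel h8).symm
  have h4 : s ∈ A := P.loc.self s (P.loc.SK hs) h3
  have h5 : s * s = 1 := P.loc.sq s h4
  have h6 : y * (q * q) * y⁻¹ = u * u := by
    calc y * (q * q) * y⁻¹ = (y * q * y⁻¹) * (y * q * y⁻¹) := by group
      _ = u * s * (u * s) := by rw [he]
      _ = u * (s * u) * s := by group
      _ = u * (u * s) * s := by rw [P.QK (P.loc.SK hs) hu]
      _ = u * u * (s * s) := by group
      _ = u * u := by rw [h5, mul_one]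
  obtain ⟨i, hi⟩ := mem_zpowers_iff.1 h1
  have h7 : y * t * y⁻¹ = (u * u) ^ i := by
    rw [← h6, ← hi]
    have := map_zpow (MulAut.conj y) (q * q) i
    simpa [MulAut.conj_apply] using this
  have h8 : y * t * y⁻¹ ∈ zpowers q := by
    rw [h7]; exact (zpowers q).zpow_mem ((zpowers q).mul_mem hu hu) i
  apply hyt
  apply P.st.toStart0.uniq h8
  · calc y * t * y⁻¹ * (y * t * y⁻¹) = y * (t * t) * y⁻¹ := by group
      _ = 1 := by rw [P.st.tt]; group
  · intro h
    rw [mul_inv_eq_one] at h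
    exact P.st.t1 (mul_eq_left.1 h)

theorem q_eq [Finite G] (P : Pre t q K A S a) (hG : commutator G = ⊤) : q = t := by
  apply P.st.toStart0.uniq (mem_zpowers q) (P.q_sq hG)
  rintro rfl
  have h := P.st.tQ
  rw [zpowers_one_eq_bot, mem_bot] at h
  exact P.st.t1 h

/-- **`C_G(t) = ⟨t⟩ × K`**, and `t` moves in `N_G(A*)` -/
theorem main [Finite G] (P : Pre t q K A S a) (hG : commutator G = ⊤) :
    Fr t K A S a ∧ ∃ y ∈ normalizer ((dbl t A : Subgroup G) : Set G), y * t * y⁻¹ ≠ t := by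
  have hq := P.q_eq hG
  obtain ⟨y, hyN, hyt⟩ := P.exists_mover hG
  subst hq
  have F : Fr q K A S a :=
    { toLoc := P.loc
      tt := P.st.tt
      tK := P.tK
      com := P.com
      cent := by
        intro g hg
        obtain ⟨y, hy, hk⟩ := P.cent g hg
        by_cases hy1 : y = 1
        · left; rwa [hy1, one_mul] at hk
        · right
          have hyy : y * y = 1 := by
            obtain ⟨i, rfl⟩ := mem_zpowers_iff.1 hy
            rw [← zpow_add, ← two_mul, zpow_mul]
            have : q ^ (2 : ℤ) = 1 := by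
              rw [show (2 : ℤ) = 1 + 1 by norm_num, zpow_add, zpow_one, P.st.tt]
            rw [this, one_zpow]
          have := P.st.toStart0.uniq hy hyy hy1
          rwa [this] at hk }
  refine ⟨F, y, ?_, hyt⟩
  apply F.norm_le
  have : dbl q S = zpowers q ⊔ S := sup_comm _ _
  rw [this]; exact hyN

end Pre

end Cfsg.Agent.OddHalf.D8.Fi23

end

-- merged: Cfsg.Agent.OddHalf.D8.Fi23.SwapBase
section

/-!
# Components of `C(w)` swapped by an involution (helper907)

* `cj g N = g N g⁻¹`;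
* `Dg t N`: `N` quasisimple, commuting with `N^t`; `P = {n n^t : n ∈ N}` is perfect, non-trivial, centralizes `t`;
* `sgn w : C(w) → ±1`: the sign of the permutation of the components of `C(w)` of order divisible by 13.
-/

set_option autoImplicit false

namespace Cfsg.Agent.OddHalf.D8.Fi23

open Subgroup Cfsg Cfsg.Agent.OddHalf.Iface
open Cfsg.Agent.SignalizersComponents
open scoped commutatorElement

universe u

section Cj

variable {G : Type*} [Group G]

/-- `g N g⁻¹` -/
def cj (g : G) (N : Subgroup G) : Subgroup G := N.map (MulAut.conj g).toMonoidHom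

theorem conj_mem_cj {g x : G} {N : Subgroup G} (hx : x ∈ N) : g * x * g⁻¹ ∈ cj g N := ⟨x, hx, rfl⟩

theorem mem_cj {g x : G} {N : Subgroup G} : x ∈ cj g N ↔ g⁻¹ * x * g ∈ N := by
  constructor
  · rintro ⟨y, hy, rfl⟩
    have : g⁻¹ * (MulAut.conj g).toMonoidHom y * g = y := by
      show g⁻¹ * (g * y * g⁻¹) * g = y
      group
    rw [this]; exact hy
  · intro h
    have := conj_mem_cj (g := g) h
    have e : g * (g⁻¹ * x * g) * g⁻¹ = x := by group
    rwa [e] at this

theorem cj_mul (g h : G) (N : Subgroup G) : cj g (cj h N) = cj (g * h) N := by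
  ext x
  rw [mem_cj, mem_cj, mem_cj]
  have : h⁻¹ * (g⁻¹ * x * g) * h = (g * h)⁻¹ * x * (g * h) := by group
  rw [this]

theorem cj_one (N : Subgroup G) : cj 1 N = N := by
  ext x
  rw [mem_cj]
  simp

theorem cj_inv_cj (g : G) (N : Subgroup G) : cj g⁻¹ (cj g N) = N := by
  rw [cj_mul, inv_mul_cancel, cj_one]

theorem cj_cj_inv (g : G) (N : Subgroup G) : cj g (cj g⁻¹ N) = N := by
  rw [cj_mul, mul_inv_cancel, cj_one]

theorem cj_inj {g : G} {N L : Subgroup G} (h : cj g N = cj g L) : N = L := by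
  rw [← cj_inv_cj g N, h, cj_inv_cj]

theorem card_cj (g : G) (N : Subgroup G) : Nat.card (cj g N) = Nat.card N :=
  (Nat.card_congr (N.equivMapOfInjective (MulAut.conj g).toMonoidHom (MulAut.conj g).injective).toEquiv).symm

theorem cj_eq {g : G} {N : Subgroup G} (h : ∀ x ∈ N, g * x * g⁻¹ ∈ N) (h' : ∀ x ∈ N, g⁻¹ * x * g ∈ N) :
    cj g N = N := by
  ext x
  rw [mem_cj]
  constructor
  · intro hx
    have := h _ hx
    have e : g * (g⁻¹ * x * g) * g⁻¹ = x := by group
    rwa [e] at this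
  · exact h' x

/-- an element commuting with `N` -/
theorem cj_eq_of_comm {g : G} {N : Subgroup G} (h : ∀ x ∈ N, g * x = x * g) : cj g N = N := by
  apply cj_eq
  · intro x hx
    rw [h x hx, mul_inv_cancel_right]; exact hx
  · intro x hx
    have : g⁻¹ * x * g = x := by rw [mul_assoc, ← h x hx, inv_mul_cancel_left]
    rw [this]; exact hx

theorem cj_eq_of_mem {g : G} {N : Subgroup G} (h : g ∈ N) : cj g N = N :=
  cj_eq (fun _ hx => N.mul_mem (N.mul_mem h hx) (N.inv_mem h))
    (fun _ hx => N.mul_mem (N.mul_mem (N.inv_mem h) hx) h)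

end Cj

section Comp

variable {G : Type u} [Group G]

theorem compOf_cj {w : G} {N : Subgroup G} (h : CompOf w N) (g : G) :
    CompOf (g * w * g⁻¹) (cj g N) := by
  have h1 := DistinctComponents.isComponent_subgroupOf_conj h.1 h.2 g
  rw [DistinctComponents.map_conj_centralizer_singleton] at h1
  refine ⟨?_, h1⟩
  rw [← DistinctComponents.map_conj_centralizer_singleton]
  exact map_mono h.1

theorem compOf_cj' {w g : G} (hg : g * w = w * g) {N : Subgroup G} (h : CompOf w N) :
    CompOf w (cj g N) := by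
  have h1 := compOf_cj h g
  rwa [mul_inv_eq_iff_eq_mul.2 hg] at h1

theorem compOf_comm [Finite G] {w : G} {N L : Subgroup G} (hN : CompOf w N) (hL : CompOf w L)
    (hne : N ≠ L) : ∀ x ∈ N, ∀ y ∈ L, x * y = y * x := by
  have hne' : N.subgroupOf (centralizer ({w} : Set G)) ≠ L.subgroupOf (centralizer ({w} : Set G)) := by
    intro h
    apply hne
    have := congrArg (Subgroup.map (centralizer ({w} : Set G)).subtype) h
    rwa [subgroupOf_map_subtype, subgroupOf_map_subtype, inf_of_le_left hN.1, inf_of_le_left hL.1] at this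
  have h1 := Components.component_le_centralizer_of_ne hN.2 hL.2 hne'
  intro x hx y hy
  have h2 := h1 (show (⟨x, hN.1 hx⟩ : centralizer ({w} : Set G)) ∈ N.subgroupOf _ from hx)
  have h3 := mem_centralizer_iff.1 h2 ⟨y, hL.1 hy⟩ hy
  exact (congrArg Subtype.val h3).symm

/-- members of a component normalize every component -/
theorem compOf_cj_eq [Finite G] {w : G} {N L : Subgroup G} (hN : CompOf w N) (hL : CompOf w L) {x : G}
    (hx : x ∈ N) : cj x L = L := by
  by_cases h : N = L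
  · subst h; exact cj_eq_of_mem hx
  · exact cj_eq_of_comm fun y hy => compOf_comm hN hL h x hx y hy

end Comp

section QS

variable {G : Type*} [Group G]

theorem qs_perf {J : Subgroup G} (hJ : IsQuasisimple J) : ⁅J, J⁆ = J := by
  have := hJ.1
  exact Subgroup.commutator_eq_self

theorem qs_dich {J R : Subgroup G} (hJ : IsQuasisimple J) (hR : R ≤ J)
    (hn : ∀ j ∈ J, ∀ r ∈ R, j * r * j⁻¹ ∈ R) : R = J ∨ ∀ r ∈ R, ∀ j ∈ J, j * r = r * j := by
  have h1 : (R.subgroupOf J).Normal := ⟨fun n hn' g => hn g g.2 n hn'⟩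
  rcases Components.quasisimple_normal hJ (R.subgroupOf J) h1 with h | h
  · left
    exact le_antisymm hR (subgroupOf_eq_top.1 h)
  · right
    intro r hr j hj
    have h2 := mem_center_iff.1 (h (show (⟨r, hR hr⟩ : J) ∈ R.subgroupOf J from hr)) ⟨j, hj⟩
    exact congrArg Subtype.val h2

/-- a perfect subgroup which is commutative is trivial -/
theorem perf_comm {P : Subgroup G} (hP : ⁅P, P⁆ = P) (hc : ∀ x ∈ P, ∀ y ∈ P, x * y = y * x) : P = ⊥ := by
  rw [← hP, eq_bot_iff, Subgroup.commutator_le]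
  intro x hx y hy
  rw [mem_bot, commutatorElement_eq_one_iff_mul_comm]
  exact hc x hx y hy

theorem qs_ne_bot {J : Subgroup G} (hJ : IsQuasisimple J) : J ≠ ⊥ := by
  rintro rfl
  have h1 := Components.quasisimple_not_isMulCommutative hJ
  exact h1 ⟨⟨fun x y => Subsingleton.elim _ _⟩⟩

theorem qs_not_comm {J : Subgroup G} (hJ : IsQuasisimple J) : ¬ ∀ x ∈ J, ∀ y ∈ J, x * y = y * x :=
  fun h => qs_ne_bot hJ (perf_comm (qs_perf hJ) h)

/-- `Z₂ = Z` in a perfect group -/
theorem perf_two {J : Subgroup G} (hJ : ⁅J, J⁆ = J) {x : G} (hx : x ∈ J)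
    (h : ∀ y ∈ J, ∀ z ∈ J, ⁅x, y⁆ * z = z * ⁅x, y⁆) : ∀ y ∈ J, x * y = y * x := by
  -- `C_J(x)` contains the commutators
  have hmul : ∀ y ∈ J, ∀ z ∈ J, ⁅x, y * z⁆ = ⁅x, y⁆ * ⁅x, z⁆ := by
    intro y hy z hz
    have h1 : ⁅x, z⁆ ∈ J := by
      rw [commutatorElement_def]
      exact J.mul_mem (J.mul_mem (J.mul_mem hx hz) (J.inv_mem hx)) (J.inv_mem hz)
    have h2 := h z hz y hy
    calc ⁅x, y * z⁆ = ⁅x, y⁆ * (y * ⁅x, z⁆ * y⁻¹) := by
          simp only [commutatorElement_def]; group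
      _ = ⁅x, y⁆ * (⁅x, z⁆ * y * y⁻¹) := by rw [h2]
      _ = ⁅x, y⁆ * ⁅x, z⁆ := by group
  have hinv : ∀ y ∈ J, ⁅x, y⁻¹⁆ = ⁅x, y⁆⁻¹ := by
    intro y hy
    have h1 := hmul y hy y⁻¹ (J.inv_mem hy)
    rw [mul_inv_cancel, commutatorElement_one_right] at h1
    exact (inv_eq_of_mul_eq_one_right h1.symm).symm
  have key : ⁅J, J⁆ ≤ centralizer ({x} : Set G) := by
    rw [Subgroup.commutator_le]
    intro y hy z hz
    rw [mem_centralizer_singleton_iff]
    have hy' := J.inv_mem hy
    have hz' := J.inv_mem hz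
    have h1 : ⁅x, ⁅y, z⁆⁆ = 1 := by
      rw [commutatorElement_def y z, hmul _ (J.mul_mem (J.mul_mem hy hz) hy') _ hz',
        hmul _ (J.mul_mem hy hz) _ hy', hmul _ hy _ hz, hinv y hy, hinv z hz]
      have h2 : ⁅x, z⁆ ∈ J := by
        rw [commutatorElement_def]
        exact J.mul_mem (J.mul_mem (J.mul_mem hx hz) (J.inv_mem hx)) (J.inv_mem hz)
      have h3 := h y hy _ h2
      calc ⁅x, y⁆ * ⁅x, z⁆ * ⁅x, y⁆⁻¹ * ⁅x, z⁆⁻¹ = ⁅x, z⁆ * ⁅x, y⁆ * ⁅x, y⁆⁻¹ * ⁅x, z⁆⁻¹ := by rw [h3]
        _ = 1 := by group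
    rw [commutatorElement_eq_one_iff_mul_comm] at h1
    exact h1.symm
  intro y hy
  rw [← hJ] at hy
  exact (mem_centralizer_singleton_iff.1 (key hy)).symm

end QS

/-- `N` is quasisimple and commutes with `N^t`, `t` an involution -/
structure Dg {G : Type*} [Group G] (t : G) (N : Subgroup G) : Prop where
  tt : t * t = 1
  qs : IsQuasisimple N
  comm : ∀ x ∈ N, ∀ y ∈ N, x * (t * y * t⁻¹) = t * y * t⁻¹ * x

namespace Dg

variable {G : Type*} [Group G] {t : G} {N : Subgroup G}

/-- `n ↦ n n^t` -/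
def hom (D : Dg t N) : N →* G where
  toFun n := n * (t * n * t⁻¹)
  map_one' := by simp
  map_mul' x y := by
    have h := D.comm y y.2 x x.2
    show (x : G) * y * (t * (x * y) * t⁻¹) = x * (t * x * t⁻¹) * (y * (t * y * t⁻¹))
    calc (x : G) * y * (t * (x * y) * t⁻¹) = x * (y * (t * x * t⁻¹)) * (t * y * t⁻¹) := by group
      _ = x * (t * x * t⁻¹ * y) * (t * y * t⁻¹) := by rw [h]
      _ = x * (t * x * t⁻¹) * (y * (t * y * t⁻¹)) := by group

theorem hom_apply (D : Dg t N) (n : N) : D.hom n = n * (t * n * t⁻¹) := rfl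

/-- `P = {n n^t}` -/
def P (D : Dg t N) : Subgroup G := D.hom.range

theorem mem_P (D : Dg t N) {x : G} : x ∈ D.P ↔ ∃ n ∈ N, n * (t * n * t⁻¹) = x := by
  constructor
  · rintro ⟨n, rfl⟩
    exact ⟨n, n.2, rfl⟩
  · rintro ⟨n, hn, rfl⟩
    exact ⟨⟨n, hn⟩, rfl⟩

theorem P_perf (D : Dg t N) : ⁅D.P, D.P⁆ = D.P := by
  have := D.qs.1
  have h1 : ⁅(⊤ : Subgroup N), (⊤ : Subgroup N)⁆ = ⊤ := Group.IsPerfect.commutator_eq_top
  unfold P
  rw [MonoidHom.range_eq_map, ← Subgroup.map_commutator, h1]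

theorem t_inv (D : Dg t N) : t⁻¹ = t := inv_eq_of_mul_eq_one_left D.tt

theorem conj_conj (D : Dg t N) (x : G) : t * (t * x * t⁻¹) * t⁻¹ = x := by
  have h1 := D.t_inv
  calc t * (t * x * t⁻¹) * t⁻¹ = (t * t) * x * (t⁻¹ * t⁻¹) := by group
    _ = (t * t) * x * (t * t) := by rw [h1]
    _ = x := by rw [D.tt]; group

theorem P_comm (D : Dg t N) {x : G} (hx : x ∈ D.P) : x * t = t * x := by
  obtain ⟨n, hn, rfl⟩ := D.mem_P.1 hx
  have h1 := D.comm n hn n hn
  have h2 := D.t_inv
  have h3 : t * (n * (t * n * t⁻¹)) * t⁻¹ = n * (t * n * t⁻¹) := by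
    calc t * (n * (t * n * t⁻¹)) * t⁻¹ = (t * n * t⁻¹) * (t * (t * n * t⁻¹) * t⁻¹) := by group
      _ = (t * n * t⁻¹) * n := by rw [D.conj_conj]
      _ = n * (t * n * t⁻¹) := h1.symm
  exact (mul_inv_eq_iff_eq_mul.1 h3).symm

/-- the kernel of `n ↦ n n^t` is central -/
theorem ker_le (D : Dg t N) : D.hom.ker ≤ center N := by
  intro n hn
  rw [MonoidHom.mem_ker, hom_apply] at hn
  rw [mem_center_iff]
  intro m
  apply Subtype.ext
  show (m : G) * n = n * m
  have h1 : t * (n : G) * t⁻¹ = (n : G)⁻¹ := eq_inv_of_mul_eq_one_right hn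
  have h2 := D.comm m m.2 n n.2
  rw [h1] at h2
  calc (m : G) * n = n * ((n : G)⁻¹ * m) * n := by group
    _ = n * (m * (n : G)⁻¹) * n := by rw [h2]
    _ = n * m := by group

theorem P_ne_bot (D : Dg t N) : D.P ≠ ⊥ := by
  intro h
  have h1 : D.hom.ker = ⊤ := by
    have h0 : D.hom = 1 := MonoidHom.range_eq_bot_iff.1 h
    rw [h0, MonoidHom.ker_one]
  have h2 := D.ker_le
  rw [h1, top_le_iff] at h2
  exact Components.quasisimple_center_ne_top D.qs h2

/-- a prime dividing `|N|` divides `|P|` if `Z(N)` is a 2-group -/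
theorem dvd_P [Finite G] (D : Dg t N) (hZ : IsPGroup 2 (center N)) {p : ℕ} (hp : p.Prime) (hp2 : p ≠ 2)
    (hd : p ∣ Nat.card N) : p ∣ Nat.card D.P := by
  have h1 := D.hom.ker.card_mul_index
  rw [Subgroup.index_ker] at h1
  rw [← h1] at hd
  rcases hp.dvd_mul.1 hd with h | h
  · exfalso
    have h2 : IsPGroup 2 D.hom.ker := hZ.to_le D.ker_le
    have : Fact (Nat.Prime 2) := ⟨Nat.prime_two⟩
    obtain ⟨k, hk⟩ := IsPGroup.iff_card.1 h2
    rw [hk] at h
    exact hp2 ((Nat.prime_dvd_prime_iff_eq hp Nat.prime_two).1 (hp.dvd_of_dvd_pow h))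
  · exact h

/-- the centre of `P` comes from the centre of `N` -/
theorem cen_P (D : Dg t N) {n : G} (hn : n ∈ N)
    (hc : ∀ x ∈ D.P, n * (t * n * t⁻¹) * x = x * (n * (t * n * t⁻¹))) : ∀ m ∈ N, n * m = m * n := by
  apply perf_two (qs_perf D.qs) hn
  intro m hm z hz
  -- `[n, m]` is in `N ∩ N^t`
  have e0 : ∀ x ∈ N, ∀ y ∈ N, t * x * t⁻¹ * y = y * (t * x * t⁻¹) := fun x hx y hy => (D.comm y hy x hx).symm
  have h1 := hc _ (D.mem_P.2 ⟨m, hm, rfl⟩)
  have h2 : n * m * (t * (n * m) * t⁻¹) = m * n * (t * (m * n) * t⁻¹) := by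
    calc n * m * (t * (n * m) * t⁻¹) = n * (m * (t * n * t⁻¹)) * (t * m * t⁻¹) := by group
      _ = n * (t * n * t⁻¹ * m) * (t * m * t⁻¹) := by rw [D.comm m hm n hn]
      _ = n * (t * n * t⁻¹) * (m * (t * m * t⁻¹)) := by group
      _ = m * (t * m * t⁻¹) * (n * (t * n * t⁻¹)) := h1
      _ = m * (t * m * t⁻¹ * n) * (t * n * t⁻¹) := by group
      _ = m * (n * (t * m * t⁻¹)) * (t * n * t⁻¹) := by rw [D.comm n hn m hm]
      _ = m * n * (t * (m * n) * t⁻¹) := by group
  -- `(m n)⁻¹ (n m) = (t m n t⁻¹) (t n m t⁻¹)⁻¹`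
  have h3 : (m * n)⁻¹ * (n * m) = t * ((m * n) * (n * m)⁻¹) * t⁻¹ := by
    calc (m * n)⁻¹ * (n * m) = (m * n)⁻¹ * (n * m * (t * (n * m) * t⁻¹)) * (t * (n * m) * t⁻¹)⁻¹ := by group
      _ = (m * n)⁻¹ * (m * n * (t * (m * n) * t⁻¹)) * (t * (n * m) * t⁻¹)⁻¹ := by rw [h2]
      _ = t * ((m * n) * (n * m)⁻¹) * t⁻¹ := by group
  have hmn : (m * n) * (n * m)⁻¹ ∈ N := N.mul_mem (N.mul_mem hm hn) (N.inv_mem (N.mul_mem hn hm))
  -- so `c = (m n)⁻¹ (n m)` is central in `N`
  have h4 : ∀ y ∈ N, (m * n)⁻¹ * (n * m) * y = y * ((m * n)⁻¹ * (n * m)) := by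
    intro y hy
    rw [h3]
    exact e0 _ hmn y hy
  have h5 : ⁅n, m⁆ = (m * n)⁻¹ * (n * m) := by
    have h6 := h4 (m * n) (N.mul_mem hm hn)
    calc ⁅n, m⁆ = (n * m) * (m * n)⁻¹ := by rw [commutatorElement_def]; group
      _ = (m * n) * ((m * n)⁻¹ * (n * m)) * (m * n)⁻¹ := by group
      _ = ((m * n)⁻¹ * (n * m) * (m * n)) * (m * n)⁻¹ := by rw [h6]
      _ = (m * n)⁻¹ * (n * m) := by group
  rw [h5]
  exact h4 z hz

end Dg

end Cfsg.Agent.OddHalf.D8.Fi23

end

-- merged: Cfsg.Agent.OddHalf.D8.Fi23.Sgn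
section

/-!
# The sign of the permutation of the components of order divisible by 13 (helper907)
-/

set_option autoImplicit false

namespace Cfsg.Agent.OddHalf.D8.Fi23

open Subgroup Cfsg Cfsg.Agent.OddHalf.Iface
open Cfsg.Agent.OddHalf

universe u

variable {G : Type u} [Group G]

/-- a component of `C(w)` of order divisible by 13 -/
def Big (w : G) (N : Subgroup G) : Prop := CompOf w N ∧ 13 ∣ Nat.card N

theorem Big.cj {w : G} {N : Subgroup G} (h : Big w N) (g : G) : Big (g * w * g⁻¹) (cj g N) :=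
  ⟨compOf_cj h.1 g, by rw [card_cj]; exact h.2⟩

theorem Big.cj' {w g : G} (hg : g * w = w * g) {N : Subgroup G} (h : Big w N) : Big w (Fi23.cj g N) :=
  ⟨compOf_cj' hg h.1, by rw [card_cj]; exact h.2⟩

/-- the set of these components -/
def Om (w : G) : Type u := {N : Subgroup G // Big w N}

instance (w : G) [Finite G] : Finite (Om w) := by
  unfold Om; infer_instance

instance (w : G) : MulAction (centralizer ({w} : Set G)) (Om w) where
  smul g N := ⟨cj (g : G) N.1, Big.cj' (mem_centralizer_singleton_iff.1 g.2) N.2⟩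
  one_smul N := Subtype.ext (cj_one N.1)
  mul_smul g h N := Subtype.ext (cj_mul (g : G) (h : G) N.1).symm

theorem Om.smul_val {w : G} (g : centralizer ({w} : Set G)) (N : Om w) : (g • N).1 = cj (g : G) N.1 := rfl

open Classical in
/-- the sign character -/
noncomputable def sgn [Finite G] (w : G) : centralizer ({w} : Set G) →* ℤˣ :=
  letI : Fintype (Om w) := Fintype.ofFinite _
  (Equiv.Perm.sign).comp (MulAction.toPermHom (centralizer ({w} : Set G)) (Om w))

open Classical in
theorem sgn_eq_one [Finite G] {w : G} (g : centralizer ({w} : Set G))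
    (h : ∀ N, Big w N → cj (g : G) N = N) : sgn w g = 1 := by
  let _ : Fintype (Om w) := Fintype.ofFinite _
  show Equiv.Perm.sign (MulAction.toPermHom (centralizer ({w} : Set G)) (Om w) g) = 1
  have h1 : MulAction.toPermHom (centralizer ({w} : Set G)) (Om w) g = 1 := by
    apply Equiv.ext
    intro N
    exact (show g • N = N from Subtype.ext (h N.1 N.2))
  rw [h1, Equiv.Perm.sign_one]

open Classical in
theorem sgn_eq_neg [Finite G] {w : G} (g : centralizer ({w} : Set G)) {M M' : Subgroup G}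
    (hM : Big w M) (hM' : Big w M') (hne : M ≠ M') (h1 : cj (g : G) M = M') (h2 : cj (g : G) M' = M)
    (h : ∀ N, Big w N → N ≠ M → N ≠ M' → cj (g : G) N = N) : sgn w g = -1 := by
  let _ : Fintype (Om w) := Fintype.ofFinite _
  show Equiv.Perm.sign (MulAction.toPermHom (centralizer ({w} : Set G)) (Om w) g) = -1
  let m : Om w := ⟨M, hM⟩
  let m' : Om w := ⟨M', hM'⟩
  have hmm : m ≠ m' := fun e => hne (congrArg Subtype.val e)
  have h3 : MulAction.toPermHom (centralizer ({w} : Set G)) (Om w) g = Equiv.swap m m' := by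
    apply Equiv.ext
    intro N
    show g • N = Equiv.swap m m' N
    by_cases e1 : N = m
    · subst e1
      rw [Equiv.swap_apply_left]
      exact Subtype.ext h1
    by_cases e2 : N = m'
    · subst e2
      rw [Equiv.swap_apply_right]
      exact Subtype.ext h2
    rw [Equiv.swap_apply_of_ne_of_ne e1 e2]
    exact Subtype.ext (h N.1 N.2 (fun e => e1 (Subtype.ext e)) (fun e => e2 (Subtype.ext e)))
  rw [h3, Equiv.Perm.sign_swap hmm]

/-- the transported sign, no swapped component -/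
theorem Lam_eq_one [Finite G] {z w x : G} (hw : IsConj z w) (hx : x * w = w * x)
    (h : ∀ N, Big w N → cj x N = N) : D9.Outer.Lam (sgn z) w x = 1 := by
  obtain ⟨g, hg⟩ := isConj_iff.1 hw
  have h1 := D9.Outer.conj_mem hg hx
  rw [D9.Outer.Lam_eq (sgn z) hg h1]
  apply sgn_eq_one
  intro N hN
  show cj (g⁻¹ * x * g) N = N
  have h2 : Big w (cj g N) := by
    have := hN.cj g
    rwa [hg] at this
  have h3 := h _ h2
  rw [cj_mul] at h3
  rw [mul_assoc, ← cj_mul, h3, cj_inv_cj]

/-- the transported sign, one swapped pair -/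
theorem Lam_eq_neg [Finite G] {z w x : G} (hw : IsConj z w) (hx : x * w = w * x) {M : Subgroup G}
    (hM : Big w M) (hxx : x * x = 1) (hne : cj x M ≠ M)
    (h : ∀ N, Big w N → N ≠ M → N ≠ cj x M → cj x N = N) : D9.Outer.Lam (sgn z) w x = -1 := by
  obtain ⟨g, hg⟩ := isConj_iff.1 hw
  have h1 := D9.Outer.conj_mem hg hx
  have hg' : g⁻¹ * w * g⁻¹⁻¹ = z := by rw [← hg]; group
  rw [D9.Outer.Lam_eq (sgn z) hg h1]
  have hback : ∀ N, Big w N → Big z (cj g⁻¹ N) := by
    intro N hN
    have := hN.cj g⁻¹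
    rwa [hg'] at this
  have key : ∀ N : Subgroup G, cj (g⁻¹ * x * g) (cj g⁻¹ N) = cj g⁻¹ (cj x N) := by
    intro N
    rw [cj_mul, cj_mul]
    congr 1
    group
  refine sgn_eq_neg (M := cj g⁻¹ M) (M' := cj g⁻¹ (cj x M)) _ (hback _ hM) (hback _ (hM.cj' hx))
    (fun e => hne (cj_inj e).symm) (key M) ?_ ?_
  · show cj (g⁻¹ * x * g) (cj g⁻¹ (cj x M)) = cj g⁻¹ M
    rw [key, cj_mul x x, hxx, cj_one]
  · intro N hN e1 e2
    have h2 : Big w (cj g N) := by
      have := hN.cj g
      rwa [hg] at this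
    have h3 := h _ h2 (by rintro rfl; exact e1 (cj_inv_cj g N).symm)
      (by intro e; rw [← e, cj_inv_cj] at e2; exact e2 rfl)
    show cj (g⁻¹ * x * g) N = N
    rw [mul_assoc, ← cj_mul, ← cj_mul, h3, cj_inv_cj]

end Cfsg.Agent.OddHalf.D8.Fi23

end

-- merged: Cfsg.Agent.OddHalf.D8.Fi23.Swap
section

/-!
# `K = Fi₂₃`: no diagonal components (helper907)

`Diag t K (a 0)`: `C(a 0)` has a component `M ≠ M^t` with `C_K(a 0) = {m m^t : m ∈ M}`. Then the transfer to `G` of the
sign of the permutation of the components of `C(a 0)` of order divisible by 13 is `-1` at `t`.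
-/

set_option autoImplicit false

namespace Cfsg.Agent.OddHalf.D8.Fi23

open Subgroup Cfsg Cfsg.Agent.OddHalf.Iface
open Cfsg.Agent.OddHalf
open scoped commutatorElement

universe u

/-- the diagonal case at `b` -/
def Diag {G : Type u} [Group G] (t : G) (K : Subgroup G) (b : G) : Prop :=
  ∃ M : Subgroup G, CompOf b M ∧ cj t M ≠ M ∧
    ∀ x, x ∈ K ⊓ centralizer ({b} : Set G) ↔ ∃ m ∈ M, m * (t * m * t⁻¹) = x

namespace Fr

variable {G : Type u} [Group G] {t : G} {K A S : Subgroup G} {a : Fin 23 → G}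

/-- a perfect subgroup of `C(t)` lies in `K` -/
theorem perf_le_K (F : Fr t K A S a) {P : Subgroup G} (hP : ⁅P, P⁆ = P)
    (hPt : ∀ x ∈ P, x * t = t * x) : P ≤ K := by
  have h1 : P ≤ centralizer ({t} : Set G) := fun x hx => mem_centralizer_singleton_iff.2 (hPt x hx)
  calc P = ⁅P, P⁆ := hP.symm
    _ ≤ ⁅centralizer ({t} : Set G), centralizer ({t} : Set G)⁆ := commutator_mono h1 h1
    _ ≤ K := F.der_le

/-- a moved component gives `Dg` -/
theorem dg [Finite G] (F : Fr t K A S a) {w : G} (hw : w * t = t * w) {N : Subgroup G}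
    (hN : CompOf w N) (hne : cj t N ≠ N) : Dg t N :=
  ⟨F.tt, Soft.CompOf.quasisimple hN, fun x hx y hy =>
    compOf_comm hN (compOf_cj' hw.symm hN) hne.symm x hx _ (conj_mem_cj hy)⟩

theorem dg_le_K [Finite G] (F : Fr t K A S a) {N : Subgroup G} (D : Dg t N) : D.P ≤ K :=
  F.perf_le_K D.P_perf fun _ hx => D.P_comm hx

theorem dg_le_cent [Finite G] {w : G} (hw : w * t = t * w) {N : Subgroup G}
    (hN : CompOf w N) (D : Dg t N) {x : G} (hx : x ∈ D.P) : x * w = w * x := by
  obtain ⟨n, hn, rfl⟩ := D.mem_P.1 hx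
  have h1 : n ∈ centralizer ({w} : Set G) := hN.1 hn
  have h2 : t ∈ centralizer ({w} : Set G) := mem_centralizer_singleton_iff.2 hw.symm
  exact mem_centralizer_singleton_iff.1 (mul_mem h1 (mul_mem (mul_mem h2 h1) (inv_mem h2)))

/-- no big component of `C(w)` is moved if `13` does not divide `|C_K(w')|` -/
theorem noswap [Finite G] (F : Fr t K A S a)
    (bal : ∀ y : G, orderOf y = 2 → centralizerPPrimeCore 2 y = ⊥) {w w' : G} (hw2 : orderOf w = 2)
    (hw' : w' ∈ K) (hww : w = w' ∨ w = t * w')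
    (h13 : ¬ 13 ∣ Nat.card ↥(K ⊓ centralizer ({w'} : Set G))) :
    ∀ N, Big w N → cj t N = N := by
  intro N hN
  by_contra hne
  have hwt : w * t = t * w := by
    rcases hww with rfl | rfl
    · exact F.com _ hw'
    · rw [mul_assoc, F.com _ hw']
  have D := F.dg hwt hN.1 hne
  apply h13
  have h1 := D.dvd_P (Soft.CompOf.center_isPGroup (bal w hw2) hN.1) (by norm_num : Nat.Prime 13)
    (by norm_num) hN.2
  refine h1.trans (Subgroup.card_dvd_of_le (le_inf (F.dg_le_K D) fun x hx => ?_))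
  have h2 := dg_le_cent hwt hN.1 D hx
  rw [mem_centralizer_singleton_iff]
  rcases hww with rfl | rfl
  · exact h2
  · have h3 := D.P_comm hx
    have h4 : t * (x * w') = t * (w' * x) := by
      calc t * (x * w') = (t * x) * w' := by group
        _ = (x * t) * w' := by rw [h3]
        _ = x * (t * w') := by group
        _ = t * w' * x := h2
        _ = t * (w' * x) := by group
    exact mul_left_cancel h4

/-- no component of `C(t a_i)` is moved -/
theorem noswap_ta [Finite G] (F : Fr t K A S a) (i : Fin 23) {N : Subgroup G}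
    (hN : CompOf (t * a i) N) : cj t N = N := by
  by_contra hne
  have hai := F.com _ (F.aK i)
  have hwt : t * a i * t = t * (t * a i) := by rw [mul_assoc, hai]
  have D := F.dg hwt hN hne
  set J : Subgroup G := K ⊓ centralizer ({a i} : Set G) with hJ
  have hJw : ∀ j ∈ J, j * (t * a i) = t * a i * j := by
    intro j hj
    have h1 := mem_centralizer_singleton_iff.1 hj.2
    calc j * (t * a i) = (j * t) * a i := by group
      _ = t * (j * a i) := by rw [F.com j hj.1]; group
      _ = t * a i * j := by rw [h1]; group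
  have hPJ : D.P ≤ J := by
    refine le_inf (F.dg_le_K D) fun x hx => ?_
    rw [mem_centralizer_singleton_iff]
    have h2 := dg_le_cent hwt hN D hx
    have h3 := D.P_comm hx
    have h4 : t * (x * a i) = t * (a i * x) := by
      calc t * (x * a i) = (t * x) * a i := by group
        _ = (x * t) * a i := by rw [h3]
        _ = x * (t * a i) := by group
        _ = t * a i * x := h2
        _ = t * (a i * x) := by group
    exact mul_left_cancel h4
  have hPne : ¬ ∀ r ∈ D.P, ∀ j ∈ J, j * r = r * j := fun h =>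
    D.P_ne_bot (perf_comm D.P_perf fun x hx y hy => (h x hx y (hPJ hy)).symm)
  -- the subgroup of `J` normalizing all the components
  let R : Subgroup G :=
    { carrier := {x | x ∈ J ∧ ∀ L, CompOf (t * a i) L → cj x L = L}
      one_mem' := ⟨J.one_mem, fun L _ => cj_one L⟩
      mul_mem' := by
        rintro x y ⟨hx, hx'⟩ ⟨hy, hy'⟩
        refine ⟨J.mul_mem hx hy, fun L hL => ?_⟩
        rw [← cj_mul, hy' L hL, hx' L hL]
      inv_mem' := by
        rintro x ⟨hx, hx'⟩
        refine ⟨J.inv_mem hx, fun L hL => ?_⟩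
        conv_lhs => rw [← hx' L hL]
        exact cj_inv_cj x L }
  have hRJ : R ≤ J := fun x hx => hx.1
  have hRn : ∀ j ∈ J, ∀ r ∈ R, j * r * j⁻¹ ∈ R := by
    rintro j hj r ⟨hr, hr'⟩
    refine ⟨J.mul_mem (J.mul_mem hj hr) (J.inv_mem hj), fun L hL => ?_⟩
    have h1 : CompOf (t * a i) (cj j⁻¹ L) := compOf_cj' (hJw _ (J.inv_mem hj)) hL
    rw [← cj_mul, ← cj_mul, hr' _ h1, cj_cj_inv]
  have hN' : CompOf (t * a i) (cj t N) := compOf_cj' hwt.symm hN
  have hPR : D.P ≤ R := by
    intro x hx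
    refine ⟨hPJ hx, fun L hL => ?_⟩
    obtain ⟨n, hn, rfl⟩ := D.mem_P.1 hx
    rw [← cj_mul, compOf_cj_eq hN' hL (conj_mem_cj hn), compOf_cj_eq hN hL hn]
  have hRJ' : R = J := by
    rcases qs_dich (F.qs i) hRJ hRn with h | h
    · exact h
    · exact absurd (fun r hr j hj => h r (hPR hr) j hj) hPne
  -- `P` is normal in `J`
  have hPn : ∀ j ∈ J, ∀ r ∈ D.P, j * r * j⁻¹ ∈ D.P := by
    intro j hj r hr
    obtain ⟨n, hn, rfl⟩ := D.mem_P.1 hr
    have hjR : j ∈ R := by rw [hRJ']; exact hj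
    have h1 : j * n * j⁻¹ ∈ N := by
      have := conj_mem_cj (g := j) hn
      rwa [hjR.2 N hN] at this
    have hjt := F.com j hj.1
    have hjt' := F.com _ (K.inv_mem hj.1)
    have hjt2 : j * t⁻¹ = t⁻¹ * j := by rw [F.t_inv]; exact hjt
    refine D.mem_P.2 ⟨_, h1, ?_⟩
    calc j * n * j⁻¹ * (t * (j * n * j⁻¹) * t⁻¹) = j * n * j⁻¹ * ((t * j) * n * (j⁻¹ * t⁻¹)) := by group
      _ = j * n * j⁻¹ * ((t * j) * n * (t⁻¹ * j⁻¹)) := by
          have : j⁻¹ * t⁻¹ = t⁻¹ * j⁻¹ := by rw [F.t_inv]; exact hjt'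
          rw [this]
      _ = j * n * j⁻¹ * ((j * t) * n * (t⁻¹ * j⁻¹)) := by rw [hjt]
      _ = j * (n * (t * n * t⁻¹)) * j⁻¹ := by group
  have hPJ' : D.P = J := (qs_dich (F.qs i) hPJ hPn).resolve_right hPne
  have haJ : a i ∈ J := ⟨F.aK i, mem_centralizer_singleton_iff.2 rfl⟩
  rw [← hPJ'] at haJ
  obtain ⟨η, hη, hηa⟩ := D.mem_P.1 haJ
  have hc : ∀ m ∈ N, η * m = m * η := by
    apply D.cen_P hη
    intro x hx
    rw [hηa]
    exact (mem_centralizer_singleton_iff.1 (hPJ hx).2).symm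
  -- `η` commutes with `J`
  have hηJ : ∀ x ∈ J, η * x = x * η := by
    intro x hx
    rw [← hPJ'] at hx
    obtain ⟨n, hn, rfl⟩ := D.mem_P.1 hx
    have h1 := D.comm η hη n hn
    calc η * (n * (t * n * t⁻¹)) = (η * n) * (t * n * t⁻¹) := by group
      _ = n * (η * (t * n * t⁻¹)) := by rw [hc n hn]; group
      _ = n * (t * n * t⁻¹) * η := by rw [h1]; group
  have hηa' : η * a i = a i * η := hηJ _ (by rw [← hPJ']; exact haJ)
  have hηt : η * t = t * η := by
    have h1 : η * (t * a i) = t * a i * η := mem_centralizer_singleton_iff.1 (hN.1 hη)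
    have h2 : (η * t) * a i = (t * η) * a i := by
      calc (η * t) * a i = η * (t * a i) := by group
        _ = t * (a i * η) := by rw [h1]; group
        _ = (t * η) * a i := by rw [← hηa']; group
    exact mul_right_cancel h2
  have hsq : η * η = a i := by
    rw [← hηa, ← hηt, mul_inv_cancel_right]
  have key : ∀ x ∈ K, x * x = a i → (∀ y ∈ J, x * y = y * x) → False := by
    intro x hx hxx hxJ
    apply F.a_ne_one i
    rcases F.cen i x hx (fun y hy hya => hxJ y ⟨hy, mem_centralizer_singleton_iff.2 hya⟩) with h | h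
    · rw [← hxx, h, one_mul]
    · rw [h, F.sq _ (F.mem i)] at hxx
      exact hxx.symm
  rcases F.cent η hηt with h | h
  · exact key η h hsq hηJ
  · refine key (t * η) h ?_ ?_
    · calc t * η * (t * η) = t * (η * t) * η := by group
        _ = (t * t) * (η * η) := by rw [hηt]; group
        _ = a i := by rw [F.tt, one_mul, hsq]
    · intro y hy
      calc t * η * y = t * (η * y) := by group
        _ = (t * y) * η := by rw [hηJ y hy]; group
        _ = y * (t * η) := by rw [← F.com y hy.1]; group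

/-- exactly one pair of big components of `C(a_i)` is swapped -/
theorem oneswap [Finite G] (F : Fr t K A S a) {b : G} (hb : b ∈ K) {M : Subgroup G} (hM : CompOf b M)
    (hJ : ∀ x, x ∈ K ⊓ centralizer ({b} : Set G) ↔ ∃ m ∈ M, m * (t * m * t⁻¹) = x) {N : Subgroup G}
    (hN : CompOf b N) (h1 : N ≠ M) (h2 : N ≠ cj t M) : cj t N = N := by
  by_contra hne
  have hbt := F.com b hb
  have D := F.dg hbt hN hne
  have hPJ : D.P ≤ K ⊓ centralizer ({b} : Set G) :=
    le_inf (F.dg_le_K D) fun x hx => mem_centralizer_singleton_iff.2 (dg_le_cent hbt hN D hx)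
  have hN' : CompOf b (cj t N) := compOf_cj' hbt.symm hN
  have hM' : CompOf b (cj t M) := compOf_cj' hbt.symm hM
  have h3 : cj t N ≠ M := by
    intro e
    apply h2
    rw [← e, cj_mul, F.tt, cj_one]
  have h4 : cj t N ≠ cj t M := fun e => h1 (cj_inj e)
  apply D.P_ne_bot
  apply perf_comm D.P_perf
  intro x hx y hy
  obtain ⟨n, hn, rfl⟩ := D.mem_P.1 hx
  obtain ⟨m, hm, rfl⟩ := (hJ y).1 (hPJ hy)
  have c1 := compOf_comm hN hM h1 n hn m hm
  have c2 := compOf_comm hN hM' h2 n hn _ (conj_mem_cj (g := t) hm)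
  have c3 := compOf_comm hN' hM h3 _ (conj_mem_cj (g := t) hn) m hm
  have c4 := compOf_comm hN' hM' h4 _ (conj_mem_cj (g := t) hn) _ (conj_mem_cj (g := t) hm)
  have d1 : Commute n (m * (t * m * t⁻¹)) := (show Commute n m from c1).mul_right c2
  have d2 : Commute (t * n * t⁻¹) (m * (t * m * t⁻¹)) := (show Commute (t * n * t⁻¹) m from c3).mul_right c4
  exact (d1.mul_left d2).eq

/-- the diagonal component is big -/
theorem big_of_diag [Finite G] (F : Fr t K A S a) {i : Fin 23} {M : Subgroup G} (hM : CompOf (a i) M)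
    (hne : cj t M ≠ M)
    (hJ : ∀ x, x ∈ K ⊓ centralizer ({a i} : Set G) ↔ ∃ m ∈ M, m * (t * m * t⁻¹) = x) : Big (a i) M := by
  refine ⟨hM, ?_⟩
  have D := F.dg (F.com _ (F.aK i)) hM hne
  have h1 : D.P = K ⊓ centralizer ({a i} : Set G) := by
    ext x
    rw [D.mem_P, hJ]
  have h2 := D.hom.ker.card_mul_index
  rw [Subgroup.index_ker] at h2
  have h3 : 13 ∣ Nat.card D.hom.range := by
    show 13 ∣ Nat.card D.P
    rw [h1]; exact F.thirteen i
  rw [← h2]
  exact h3.mul_left _

/-- conjugation of the diagonal case -/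
theorem diag_conj [Finite G] (F : Fr t K A S a) {b n : G} (hn : n ∈ K) (h : Diag t K b) :
    Diag t K (n * b * n⁻¹) := by
  obtain ⟨M, hM, hne, hJ⟩ := h
  have hnt := F.com n hn
  have hnt' := F.com _ (K.inv_mem hn)
  refine ⟨cj n M, compOf_cj hM n, ?_, ?_⟩
  · intro e
    apply hne
    rw [cj_mul, ← hnt, ← cj_mul] at e
    exact cj_inj e
  · have e1 : ∀ m : G, n * m * n⁻¹ * (t * (n * m * n⁻¹) * t⁻¹) = n * (m * (t * m * t⁻¹)) * n⁻¹ := by
      intro m
      have h1 : n⁻¹ * t⁻¹ = t⁻¹ * n⁻¹ := by rw [F.t_inv]; exact hnt'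
      calc n * m * n⁻¹ * (t * (n * m * n⁻¹) * t⁻¹) = n * m * n⁻¹ * ((t * n) * m * (n⁻¹ * t⁻¹)) := by group
        _ = n * m * n⁻¹ * ((n * t) * m * (t⁻¹ * n⁻¹)) := by rw [h1, ← hnt]
        _ = n * (m * (t * m * t⁻¹)) * n⁻¹ := by group
    intro x
    have h2 : x ∈ K ⊓ centralizer ({n * b * n⁻¹} : Set G) ↔ n⁻¹ * x * n ∈ K ⊓ centralizer ({b} : Set G) := by
      rw [mem_inf, mem_inf, mem_centralizer_singleton_iff, mem_centralizer_singleton_iff]
      constructor
      · rintro ⟨h3, h4⟩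
        refine ⟨K.mul_mem (K.mul_mem (K.inv_mem hn) h3) hn, ?_⟩
        calc n⁻¹ * x * n * b = n⁻¹ * (x * (n * b * n⁻¹)) * n := by group
          _ = n⁻¹ * (n * b * n⁻¹ * x) * n := by rw [h4]
          _ = b * (n⁻¹ * x * n) := by group
      · rintro ⟨h3, h4⟩
        refine ⟨?_, ?_⟩
        · have := K.mul_mem (K.mul_mem hn h3) (K.inv_mem hn)
          have e : n * (n⁻¹ * x * n) * n⁻¹ = x := by group
          rwa [e] at this
        · calc x * (n * b * n⁻¹) = n * (n⁻¹ * x * n * b) * n⁻¹ := by group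
            _ = n * (b * (n⁻¹ * x * n)) * n⁻¹ := by rw [h4]
            _ = n * b * n⁻¹ * x := by group
    rw [h2, hJ]
    constructor
    · rintro ⟨m, hm, e⟩
      refine ⟨n * m * n⁻¹, conj_mem_cj hm, ?_⟩
      rw [e1, e]; group
    · rintro ⟨m, hm, e⟩
      refine ⟨n⁻¹ * m * n, mem_cj.1 hm, ?_⟩
      have h3 := e1 (n⁻¹ * m * n)
      have h4 : n * (n⁻¹ * m * n) * n⁻¹ = m := by group
      rw [h4, e] at h3
      rw [h3]; group

end Fr

end Cfsg.Agent.OddHalf.D8.Fi23

end

-- merged: Cfsg.Agent.OddHalf.D8.Fi23.SwapEnd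
section

/-!
# `K = Fi₂₃`: end of the diagonal case (helper907)
-/

set_option autoImplicit false

namespace Cfsg.Agent.OddHalf.D8.Fi23

open Subgroup Cfsg Cfsg.Agent.OddHalf.Iface
open Cfsg.Agent.OddHalf

universe u

namespace Fr

variable {G : Type u} [Group G] {t : G} {K A S : Subgroup G} {a : Fin 23 → G}

/-- the elements of `S` normalize `A` -/
theorem S_norm [Finite G] (F : Fr t K A S a) {s : G} (hs : s ∈ S) : s ∈ normalizer (A : Set G) := by
  have h1 : cj s A = A := by
    apply F.uniq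
    · rintro _ ⟨x, hx, rfl⟩
      exact S.mul_mem (S.mul_mem hs (F.AS hx)) (S.inv_mem hs)
    · rintro _ ⟨x, hx, rfl⟩
      show s * x * s⁻¹ * (s * x * s⁻¹) = 1
      calc s * x * s⁻¹ * (s * x * s⁻¹) = s * (x * x) * s⁻¹ := by group
        _ = 1 := by rw [F.sq _ hx]; group
    · rw [card_cj, F.cardA]
  rw [mem_normalizer_iff]
  intro x
  constructor
  · intro hx
    have := conj_mem_cj (g := s) hx
    rwa [h1] at this
  · intro hx
    have : s * x * s⁻¹ ∈ cj s A := by rw [h1]; exact hx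
    obtain ⟨y, hy, hyx⟩ := this
    have e : y = x := mul_left_cancel (mul_right_cancel (hyx : s * y * s⁻¹ = s * x * s⁻¹))
    rwa [← e]

/-- the number of the `a i` centralized by `S` is odd -/
theorem odd_fixed [Finite G] (F : Fr t K A S a) :
    Odd {i : Fin 23 | ∀ s ∈ S, s * a i = a i * s}.ncard := by
  classical
  have : Fact (Nat.Prime 2) := ⟨Nat.prime_two⟩
  have hperm : ∀ s ∈ S, ∀ i, ∃ j, s * a i * s⁻¹ = a j := fun s hs i =>
    F.perm s (F.SK hs) (F.S_norm hs) i
  let X : Type u := {x : G // ∃ i, x = a i}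
  let act : MulAction S X :=
    { smul := fun s x => ⟨s * x.1 * (s : G)⁻¹, by
        obtain ⟨i, hi⟩ := x.2
        obtain ⟨j, hj⟩ := hperm s s.2 i
        exact ⟨j, by rw [hi, hj]⟩⟩
      one_smul := fun x => Subtype.ext (by show (1 : G) * x.1 * (1 : G)⁻¹ = x.1; group)
      mul_smul := fun s r x => Subtype.ext (by
        show (s * r : G) * x.1 * (s * r : G)⁻¹ = s * (r * x.1 * (r : G)⁻¹) * (s : G)⁻¹
        group) }
  have hval : ∀ (s : S) (x : X), (s • x).1 = s * x.1 * (s : G)⁻¹ := fun _ _ => rfl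
  have h1 := F.pS.card_modEq_card_fixedPoints X
  have h2 : Nat.card X = 23 := by
    have e : Fin 23 ≃ X := Equiv.ofBijective (fun i => ⟨a i, i, rfl⟩)
      ⟨fun i j h => F.a_inj (congrArg Subtype.val h), fun x => by
        obtain ⟨x, i, rfl⟩ := x
        exact ⟨i, rfl⟩⟩
    rw [← Nat.card_congr e, Nat.card_eq_fintype_card, Fintype.card_fin]
  have h3 : Nat.card (MulAction.fixedPoints S X) = {i : Fin 23 | ∀ s ∈ S, s * a i = a i * s}.ncard := by
    rw [← Nat.card_coe_set_eq]
    symm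
    refine Nat.card_congr (Equiv.ofBijective (fun i => ⟨⟨a i.1, i.1, rfl⟩, ?_⟩) ⟨?_, ?_⟩)
    · intro s
      apply Subtype.ext
      rw [hval]
      exact mul_inv_eq_iff_eq_mul.2 (i.2 s s.2)
    · intro i j h
      have := congrArg (fun x => (x : X).1) (congrArg Subtype.val h)
      exact Subtype.ext (F.a_inj this)
    · rintro ⟨⟨x, i, rfl⟩, hx⟩
      refine ⟨⟨i, fun s hs => ?_⟩, rfl⟩
      have := congrArg Subtype.val (hx ⟨s, hs⟩)
      rw [hval] at this
      exact mul_inv_eq_iff_eq_mul.1 this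
  rw [h2, h3] at h1
  rw [Nat.odd_iff, ← h1]

/-- **No diagonal case.** -/
theorem swap [Finite G] (F : Fr t K A S a) (hG : ∀ N : Subgroup G, N.index ≠ 2)
    (bal : ∀ y : G, orderOf y = 2 → centralizerPPrimeCore 2 y = ⊥) (hD : Diag t K (a 0)) : False := by
  have hDi : ∀ i, Diag t K (a i) := by
    intro i
    obtain ⟨n, hn, -, e⟩ := F.one 0 i
    rw [← e]; exact F.diag_conj hn hD
  have hord : ∀ x : G, x * x = 1 → x ≠ 1 → orderOf x = 2 := fun x h1 h2 =>
    orderOf_eq_prime (by rw [pow_two, h1]) h2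
  have ho : orderOf t = 2 := hord t F.tt F.t1
  have h1 := D9.Outer.even_neg hG (sgn (a 0)) t (by
    intro k hk hk1 g h
    rw [ho] at hk
    have hk2 : k = 2 := by
      have : k ≤ 2 := Nat.le_of_dvd (by norm_num) hk
      interval_cases k <;> simp_all
    subst hk2
    have e : (⟨g⁻¹ * t ^ 2 * g, h⟩ : centralizer ({a 0} : Set G)) = 1 := by
      apply Subtype.ext
      show g⁻¹ * t ^ 2 * g = 1
      rw [pow_two, F.tt]; group
    rw [e, map_one]) (dbl t S) F.pT (t_mem_dbl t S) (fun d hd => dbl_comm F.tt F.comS hd)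
  have h2 : D9.Outer.Neg (sgn (a 0)) (dbl t S) t = a '' {i : Fin 23 | ∀ s ∈ S, s * a i = a i * s} := by
    ext w
    constructor
    · rintro ⟨hw, hwT, hL⟩
      have hwt : w * t = t * w := (hwT t (t_mem_dbl t S)).symm
      have hww : w * w = 1 := by
        obtain ⟨g, hg⟩ := isConj_iff.1 hw
        rw [← hg]
        calc g * a 0 * g⁻¹ * (g * a 0 * g⁻¹) = g * (a 0 * a 0) * g⁻¹ := by group
          _ = 1 := by rw [F.sq _ (F.mem 0)]; group
      have hw1 : w ≠ 1 := by
        rintro rfl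
        obtain ⟨g, hg⟩ := isConj_iff.1 hw
        rw [mul_inv_eq_one] at hg
        exact F.a_ne_one 0 (mul_eq_left.1 hg)
      have hwo := hord w hww hw1
      have hone : (∀ N, Big w N → cj t N = N) → False := by
        intro h
        have h3 := Lam_eq_one hw hwt.symm h
        rw [h3] at hL
        exact absurd hL (by decide)
      -- the part in `K`
      obtain ⟨x, hxK, hx⟩ : ∃ x ∈ K, w = x ∨ w = t * x := by
        rcases F.cent w hwt with h | h
        · exact ⟨w, h, Or.inl rfl⟩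
        · exact ⟨t * w, h, Or.inr (F.et w).symm⟩
      have hxS : ∀ s ∈ S, s * x = x * s := by
        intro s hs
        have h3 := hwT s (le_dbl t S hs)
        rcases hx with rfl | rfl
        · exact h3
        · have h4 : t * (s * x) = t * (x * s) := by
            calc t * (s * x) = (t * s) * x := by group
              _ = (s * t) * x := by rw [F.comS s hs]
              _ = s * (t * x) := by group
              _ = t * x * s := h3
              _ = t * (x * s) := by group
          exact mul_left_cancel h4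
      have hxA : x ∈ A := F.self x hxK fun y hy => (hxS y (F.AS hy)).symm
      rcases F.toCode.mem_P_of_mem hxA with h | h | h | h
      · rw [Code.mem_P_zero] at h
        exfalso
        rcases hx with h' | h'
        · exact hw1 (h'.trans h)
        · rw [h, mul_one] at h'
          obtain ⟨g, hg⟩ := isConj_iff.1 hw
          apply F.not_conj (F.aK 0) g⁻¹
          rw [← h', ← hg]; group
      · obtain ⟨i, rfl⟩ := (Code.mem_P_one _).1 h
        rcases hx with rfl | rfl
        · exact ⟨i, hxS, rfl⟩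
        · exact (hone fun N hN => F.noswap_ta i hN.1).elim
      · obtain ⟨i, j, hij, rfl⟩ := (Code.mem_P_two _).1 h
        exact (hone (F.noswap bal hwo hxK hx (F.c2 i j hij))).elim
      · obtain ⟨i, j, k, hij, hik, hjk, rfl⟩ := (Code.mem_P_three _).1 h
        exact (hone (F.noswap bal hwo hxK hx (F.c3 i j k hij hik hjk))).elim
    · rintro ⟨i, hi, rfl⟩
      have hc : IsConj (a 0) (a i) := by
        obtain ⟨n, -, -, e⟩ := F.one 0 i
        exact isConj_iff.2 ⟨n, e⟩
      refine ⟨hc, ?_, ?_⟩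
      · intro d hd
        rcases F.mem_T.1 hd with h | h
        · exact hi d h
        · have h3 := hi _ h
          have h4 := F.com _ (F.aK i)
          have h5 : t * (d * a i) = t * (a i * d) := by
            calc t * (d * a i) = t * d * a i := by group
              _ = a i * (t * d) := h3
              _ = (a i * t) * d := by group
              _ = (t * a i) * d := by rw [h4]
              _ = t * (a i * d) := by group
          exact mul_left_cancel h5
      · obtain ⟨M, hM, hne, hJ⟩ := hDi i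
        exact Lam_eq_neg hc (F.com _ (F.aK i)).symm (F.big_of_diag hM hne hJ) F.tt hne
          fun N hN e1 e2 => F.oneswap (F.aK i) hM hJ hN.1 e1 e2
  rw [h2, Set.ncard_image_of_injective _ (fun i j h => F.a_inj h)] at h1
  exact (Nat.not_even_iff_odd.2 F.odd_fixed) h1

end Fr

end Cfsg.Agent.OddHalf.D8.Fi23

end

-- merged: Cfsg.Agent.OddHalf.D8.Fi23.CentTwo
section

/-!
# A group `W` with an involution `t`, `C_W(t) = {1, t}` (helper907)
-/

set_option autoImplicit false

namespace Cfsg.Agent.OddHalf.D8.Fi23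

open Subgroup

/-- `t` is an involution of `W` with `C_W(t) = ⟨t⟩` -/
structure CTwo {G : Type*} [Group G] (t : G) (W : Subgroup G) : Prop where
  tt : t * t = 1
  t1 : t ≠ 1
  tW : t ∈ W
  cen : ∀ w ∈ W, w * t = t * w → w = 1 ∨ w = t

namespace CTwo

variable {G : Type*} [Group G] {t : G} {W : Subgroup G}

/-- a 2-subgroup of `W` containing `t` is `⟨t⟩` -/
theorem of_isPGroup [Finite G] (C : CTwo t W) {P : Subgroup W} (hP : IsPGroup 2 P)
    (ht : (⟨t, C.tW⟩ : W) ∈ P) {x : W} (hx : x ∈ P) : x = 1 ∨ x = ⟨t, C.tW⟩ := by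
  have : Fact (Nat.Prime 2) := ⟨Nat.prime_two⟩
  have hnt : Nontrivial P := ⟨⟨⟨⟨t, C.tW⟩, ht⟩, 1, fun h => C.t1 (by
    have := congrArg (fun x : P => ((x : W) : G)) h
    exact this)⟩⟩
  have hcn : Nontrivial (center P) := hP.center_nontrivial
  obtain ⟨⟨c, hc⟩, hc1⟩ := exists_ne (1 : center P)
  have h1 : (c : W) = 1 ∨ (c : W) = ⟨t, C.tW⟩ := by
    have h2 := mem_center_iff.1 hc ⟨⟨t, C.tW⟩, ht⟩
    have h3 : t * ((c : W) : G) = ((c : W) : G) * t :=
      congrArg (fun x : P => ((x : W) : G)) h2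
    rcases C.cen _ (c : W).2 h3.symm with h | h
    · exact Or.inl (Subtype.ext h)
    · exact Or.inr (Subtype.ext h)
  rcases h1 with h1 | h1
  · exfalso
    apply hc1
    apply Subtype.ext
    apply Subtype.ext
    exact h1
  · have h2 := mem_center_iff.1 hc ⟨x, hx⟩
    have h3 : (x : G) * ((c : W) : G) = ((c : W) : G) * x :=
      congrArg (fun x : P => ((x : W) : G)) h2
    rw [h1] at h3
    rcases C.cen _ x.2 h3 with h | h
    · exact Or.inl (Subtype.ext h)
    · exact Or.inr (Subtype.ext h)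

/-- a Sylow 2-subgroup of `W` is `⟨t⟩` -/
theorem exists_sylow [Finite G] (C : CTwo t W) :
    ∃ P : Sylow 2 W, (⟨t, C.tW⟩ : W) ∈ P ∧ ∀ x ∈ P, x = 1 ∨ x = ⟨t, C.tW⟩ := by
  have : Fact (Nat.Prime 2) := ⟨Nat.prime_two⟩
  have hp : IsPGroup 2 (zpowers (⟨t, C.tW⟩ : W)) := by
    rintro ⟨x, hx⟩
    obtain ⟨i, rfl⟩ := mem_zpowers_iff.1 hx
    refine ⟨1, Subtype.ext ?_⟩
    show ((⟨t, C.tW⟩ : W) ^ i) ^ (2 ^ 1) = 1
    have h2 : (⟨t, C.tW⟩ : W) ^ (2 : ℤ) = 1 := by
      rw [show (2 : ℤ) = 1 + 1 by norm_num, zpow_add, zpow_one]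
      exact Subtype.ext C.tt
    rw [pow_one, pow_two, ← zpow_add, ← two_mul, zpow_mul, h2, one_zpow]
  obtain ⟨P, hP⟩ := hp.exists_le_sylow
  have ht : (⟨t, C.tW⟩ : W) ∈ P := hP (mem_zpowers _)
  exact ⟨P, ht, fun x hx => C.of_isPGroup P.isPGroup' ht hx⟩

theorem card_sylow [Finite G] (C : CTwo t W) (P : Sylow 2 W) (ht : (⟨t, C.tW⟩ : W) ∈ P)
    (hP : ∀ x ∈ P, x = 1 ∨ x = ⟨t, C.tW⟩) : Nat.card (P : Subgroup W) = 2 := by
  have h1 : ((P : Subgroup W) : Set W) = {1, ⟨t, C.tW⟩} := by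
    ext x
    constructor
    · intro hx; exact hP x hx
    · rintro (rfl | rfl)
      · exact one_mem (P : Subgroup W)
      · exact ht
  have h2 : Nat.card (P : Subgroup W) = ((P : Subgroup W) : Set W).ncard := rfl
  rw [h2, h1, Set.ncard_pair]
  intro h
  exact C.t1 (congrArg Subtype.val h).symm

theorem not_four [Finite G] (C : CTwo t W) : ¬ 4 ∣ Nat.card W := by
  have : Fact (Nat.Prime 2) := ⟨Nat.prime_two⟩
  obtain ⟨P, ht, hP⟩ := C.exists_sylow
  intro h
  have h1 : 2 ^ 2 ∣ Nat.card W := h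
  have h2 := P.pow_dvd_card_of_pow_dvd_card h1
  rw [C.card_sylow P ht hP] at h2
  norm_num at h2

/-- conjugates of `t` in `W` are conjugate in `W` -/
theorem conj [Finite G] (C : CTwo t W) {r : G} (hr : r * t * r⁻¹ ∈ W) :
    ∃ w ∈ W, r * t * r⁻¹ = w * t * w⁻¹ := by
  have : Fact (Nat.Prime 2) := ⟨Nat.prime_two⟩
  obtain ⟨P, ht, hP⟩ := C.exists_sylow
  have hs : (⟨r * t * r⁻¹, hr⟩ : W) ^ 2 = 1 := by
    apply Subtype.ext
    show (r * t * r⁻¹) ^ 2 = 1
    rw [pow_two]
    calc r * t * r⁻¹ * (r * t * r⁻¹) = r * (t * t) * r⁻¹ := by group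
      _ = 1 := by rw [C.tt]; group
  have hp : IsPGroup 2 (zpowers (⟨r * t * r⁻¹, hr⟩ : W)) := by
    rintro ⟨x, hx⟩
    obtain ⟨i, rfl⟩ := mem_zpowers_iff.1 hx
    refine ⟨1, Subtype.ext ?_⟩
    show ((⟨r * t * r⁻¹, hr⟩ : W) ^ i) ^ (2 ^ 1) = 1
    rw [pow_one, ← zpow_natCast, ← zpow_mul, mul_comm, zpow_mul, zpow_natCast, hs, one_zpow]
  obtain ⟨Q, hQ⟩ := hp.exists_le_sylow
  obtain ⟨g, hg⟩ := MulAction.exists_smul_eq W Q P
  have h1 : (⟨r * t * r⁻¹, hr⟩ : W) ∈ Q := hQ (mem_zpowers _)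
  have h2 : g * ⟨r * t * r⁻¹, hr⟩ * g⁻¹ ∈ P := by
    rw [← hg]
    exact Subgroup.smul_mem_pointwise_smul _ (MulAut.conj g) _ h1
  rcases hP _ h2 with h | h
  · exfalso
    rw [mul_inv_eq_one] at h
    have h3 : (⟨r * t * r⁻¹, hr⟩ : W) = 1 := mul_eq_left.1 h
    have h4 : r * t * r⁻¹ = 1 := congrArg Subtype.val h3
    rw [mul_inv_eq_one] at h4
    exact C.t1 (mul_eq_left.1 h4)
  · refine ⟨(g : G)⁻¹, W.inv_mem g.2, ?_⟩
    have h3 : (g : G) * (r * t * r⁻¹) * (g : G)⁻¹ = t := congrArg Subtype.val h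
    conv_rhs => rw [← h3]
    group

/-- the normal 2-complement of `W` -/
theorem exists_compl [Finite G] (C : CTwo t W) : ∃ N : Subgroup G, N ≤ W ∧ Odd (Nat.card N) ∧
    (∀ w ∈ W, Odd (orderOf w) → w ∈ N) ∧ ∀ w ∈ W, w ∈ N ∨ t * w ∈ N := by
  have : Fact (Nat.Prime 2) := ⟨Nat.prime_two⟩
  obtain ⟨P, ht, hP⟩ := C.exists_sylow
  have hcen : normalizer ((P : Subgroup W) : Set W) ≤ centralizer ((P : Subgroup W) : Set W) := by
    intro n hn
    rw [mem_centralizer_iff]
    intro x hx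
    rcases hP x hx with rfl | rfl
    · rw [one_mul, mul_one]
    · have h1 := (mem_normalizer_iff.1 hn _).1 ht
      rcases hP _ h1 with h | h
      · exfalso
        rw [mul_inv_eq_one] at h
        have h3 : (⟨t, C.tW⟩ : W) = 1 := mul_eq_left.1 h
        exact C.t1 (congrArg Subtype.val h3)
      · exact (mul_inv_eq_iff_eq_mul.1 h).symm
  let f := MonoidHom.transferSylow P hcen
  have hker : ¬ 2 ∣ Nat.card f.ker := MonoidHom.not_dvd_card_ker_transferSylow P hcen
  have hfP : ∀ w, ((f w : (P : Subgroup W)) : W) = 1 ∨ ((f w : (P : Subgroup W)) : W) = ⟨t, C.tW⟩ :=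
    fun w => hP _ (f w).2
  have hft : f ⟨t, C.tW⟩ ≠ 1 := by
    intro h
    apply hker
    have h1 : (⟨t, C.tW⟩ : W) ∈ f.ker := h
    have h2 : orderOf (⟨⟨t, C.tW⟩, h1⟩ : f.ker) = 2 := by
      apply orderOf_eq_prime
      · apply Subtype.ext
        apply Subtype.ext
        show t ^ 2 = 1
        rw [pow_two, C.tt]
      · intro h3
        exact C.t1 (congrArg (fun x : f.ker => ((x : W) : G)) h3)
    have h3 := orderOf_dvd_natCard (⟨⟨t, C.tW⟩, h1⟩ : f.ker)
    rw [h2] at h3
    exact h3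
  refine ⟨f.ker.map W.subtype, ?_, ?_, ?_, ?_⟩
  · rintro _ ⟨x, -, rfl⟩
    exact x.2
  · have h1 : Nat.card (f.ker.map W.subtype) = Nat.card f.ker :=
      (Nat.card_congr (f.ker.equivMapOfInjective W.subtype W.subtype_injective).toEquiv).symm
    rw [h1, Nat.odd_iff]
    omega
  · intro w hw ho
    refine ⟨⟨w, hw⟩, ?_, rfl⟩
    show f ⟨w, hw⟩ = 1
    have h1 : orderOf (f ⟨w, hw⟩) ∣ orderOf w := by
      have := orderOf_map_dvd f ⟨w, hw⟩
      rwa [← Subgroup.orderOf_coe (⟨w, hw⟩ : W)] at this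
    have h2 : orderOf (f ⟨w, hw⟩) ∣ 2 := by
      apply orderOf_dvd_of_pow_eq_one
      apply Subtype.ext
      show ((f ⟨w, hw⟩ : (P : Subgroup W)) : W) ^ 2 = 1
      rcases hfP ⟨w, hw⟩ with h | h
      · rw [h, one_pow]
      · rw [h]; exact Subtype.ext (by show t ^ 2 = 1; rw [pow_two, C.tt])
    rcases (Nat.dvd_prime Nat.prime_two).1 h2 with h | h
    · exact orderOf_eq_one_iff.1 h
    · exfalso
      rw [h] at h1
      exact (Nat.not_even_iff_odd.2 ho) (even_iff_two_dvd.2 h1)
  · intro w hw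
    rcases hfP ⟨w, hw⟩ with h | h
    · left
      exact ⟨⟨w, hw⟩, Subtype.ext h, rfl⟩
    · right
      refine ⟨⟨t, C.tW⟩ * ⟨w, hw⟩, ?_, rfl⟩
      show f (⟨t, C.tW⟩ * ⟨w, hw⟩) = 1
      have h2 : ((f ⟨t, C.tW⟩ : (P : Subgroup W)) : W) = ⟨t, C.tW⟩ := by
        rcases hfP ⟨t, C.tW⟩ with h3 | h3
        · exact absurd (Subtype.ext h3) hft
        · exact h3
      rw [map_mul]
      apply Subtype.ext
      show ((f ⟨t, C.tW⟩ : (P : Subgroup W)) : W) * ((f ⟨w, hw⟩ : (P : Subgroup W)) : W) = 1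
      rw [h, h2]
      exact Subtype.ext C.tt

end CTwo

end Cfsg.Agent.OddHalf.D8.Fi23

end

-- merged: Cfsg.Agent.OddHalf.D8.Fi23.Norm
section

/-!
# `K = Fi₂₃`: the case in which `C_K(a_i)` is a component of `C(a_i)` (helper907)

Then `C_K(a_0)` is normal in `C(a_0)`, its centralizer is `⟨t, a_0⟩`: `C(a_0)` moves `t` to `t` or `t a_0`.
-/

set_option autoImplicit false

namespace Cfsg.Agent.OddHalf.D8.Fi23

open Subgroup Cfsg Cfsg.Agent.OddHalf.Iface
open Cfsg.Agent.OddHalf

universe u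

namespace Fr

variable {G : Type u} [Group G] {t : G} {K A S : Subgroup G} {a : Fin 23 → G}

/-- `C_G(K) = W` has the Sylow 2-subgroup `⟨t⟩` -/
theorem cTwo (F : Fr t K A S a) : CTwo t (centralizer (K : Set G)) where
  tt := F.tt
  t1 := F.t1
  tW := mem_centralizer_iff.2 fun k hk => F.com k hk
  cen := by
    intro w hw hwt
    have hwK : ∀ k ∈ K, w * k = k * w := fun k hk => (mem_centralizer_iff.1 hw k hk).symm
    rcases F.cent w hwt with h | h
    · exact Or.inl (F.center_K h hwK)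
    · right
      have h1 : t * w = 1 := by
        apply F.center_K h
        intro k hk
        calc t * w * k = t * (w * k) := by group
          _ = (t * k) * w := by rw [hwK k hk]; group
          _ = k * (t * w) := by rw [← F.com k hk]; group
      rw [← F.et w, h1, mul_one]

/-- the elements of `C(J)`, `J = C_K(a_0)`, commuting with `t` -/
theorem cent_J (F : Fr t K A S a) (i : Fin 23) {y : G} (hyt : y * t = t * y)
    (hy : ∀ x ∈ K ⊓ centralizer ({a i} : Set G), y * x = x * y) :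
    y = 1 ∨ y = a i ∨ y = t ∨ y = t * a i := by
  rcases F.cent y hyt with h | h
  · rcases F.cen i y h (fun x hx hxa => hy x ⟨hx, mem_centralizer_singleton_iff.2 hxa⟩) with h' | h'
    · exact Or.inl h'
    · exact Or.inr (Or.inl h')
  · rcases F.cen i (t * y) h (fun x hx hxa => by
      calc t * y * x = t * (y * x) := by group
        _ = (t * x) * y := by rw [hy x ⟨hx, mem_centralizer_singleton_iff.2 hxa⟩]; group
        _ = x * (t * y) := by rw [← F.com x hx]; group) with h' | h'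
    · right; right; left
      rw [← F.et y, h', mul_one]
    · right; right; right
      rw [← F.et y, h']

/-- an element centralizing `J_0` moves `t` into `C(K)` -/
theorem move_mem [Finite G] (F : Fr t K A S a)
    (hC : ∀ i, CompOf (a i) (K ⊓ centralizer ({a i} : Set G))) {r : G}
    (hr : ∀ x ∈ K ⊓ centralizer ({a 0} : Set G), r * x = x * r) :
    r * t * r⁻¹ ∈ centralizer (K : Set G) := by
  have hA0 : ∀ x ∈ A, x ∈ K ⊓ centralizer ({a 0} : Set G) := fun x hx => F.AJ 0 hx
  have hr1 : r * a 1 = a 1 * r := hr _ (hA0 _ (F.mem 1))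
  have h2 := compOf_cj' hr1 (hC 1)
  have h3 : cj r (K ⊓ centralizer ({a 1} : Set G)) = K ⊓ centralizer ({a 1} : Set G) := by
    by_contra hne
    have h4 := compOf_comm (hC 1) h2 (fun e => hne e.symm)
    have h5 : a 0 ∈ cj r (K ⊓ centralizer ({a 1} : Set G)) := by
      rw [mem_cj]
      have h6 := hr _ (hA0 _ (F.mem 0))
      have : r⁻¹ * a 0 * r = a 0 := by rw [mul_assoc, ← h6, inv_mul_cancel_left]
      rw [this]
      exact F.AJ 1 (F.mem 0)
    rcases F.cen 1 (a 0) (F.aK 0) (fun y hy hya =>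
      (h4 y ⟨hy, mem_centralizer_singleton_iff.2 hya⟩ _ h5).symm) with h | h
    · exact F.a_ne_one 0 h
    · exact absurd (F.a_inj h) (by decide)
  have h4 : K ⊓ centralizer ({a 1} : Set G) ≤ centralizer ({r * t * r⁻¹} : Set G) := by
    intro x hx
    rw [← h3, mem_cj] at hx
    have h5 := F.com _ hx.1
    rw [mem_centralizer_singleton_iff]
    calc x * (r * t * r⁻¹) = r * (r⁻¹ * x * r * t) * r⁻¹ := by group
      _ = r * (t * (r⁻¹ * x * r)) * r⁻¹ := by rw [h5]
      _ = r * t * r⁻¹ * x := by group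
  have h5 : K ⊓ centralizer ({a 0} : Set G) ≤ centralizer ({r * t * r⁻¹} : Set G) := by
    intro x hx
    have h6 := hr x hx
    have h7 := F.com x hx.1
    have h8 : x * r⁻¹ = r⁻¹ * x := by
      calc x * r⁻¹ = r⁻¹ * (r * x) * r⁻¹ := by group
        _ = r⁻¹ * (x * r) * r⁻¹ := by rw [h6]
        _ = r⁻¹ * x := by group
    rw [mem_centralizer_singleton_iff]
    calc x * (r * t * r⁻¹) = (x * r) * t * r⁻¹ := by group
      _ = r * (x * t) * r⁻¹ := by rw [← h6]; group
      _ = r * t * (x * r⁻¹) := by rw [h7]; group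
      _ = r * t * r⁻¹ * x := by rw [h8]; group
  have h6 : K ≤ centralizer ({r * t * r⁻¹} : Set G) :=
    (F.gen 0 1 (by decide)).trans (sup_le h5 h4)
  exact mem_centralizer_iff.2 fun k hk => mem_centralizer_singleton_iff.1 (h6 hk)

/-- `C(J_0) = C(K) ∪ C(K) a_0` -/
theorem cent_J_or [Finite G] (F : Fr t K A S a)
    (hC : ∀ i, CompOf (a i) (K ⊓ centralizer ({a i} : Set G))) {y : G}
    (hy : ∀ x ∈ K ⊓ centralizer ({a 0} : Set G), y * x = x * y) :
    y ∈ centralizer (K : Set G) ∨ y * a 0 ∈ centralizer (K : Set G) := by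
  have h1 := F.move_mem hC hy
  obtain ⟨w, hw, e⟩ := F.cTwo.conj h1
  have hwK : ∀ k ∈ K, w * k = k * w := fun k hk => (mem_centralizer_iff.1 hw k hk).symm
  have h2 : w⁻¹ * y * t = t * (w⁻¹ * y) := by
    calc w⁻¹ * y * t = w⁻¹ * (y * t * y⁻¹) * y := by group
      _ = w⁻¹ * (w * t * w⁻¹) * y := by rw [e]
      _ = t * (w⁻¹ * y) := by group
  have h3 : ∀ x ∈ K ⊓ centralizer ({a 0} : Set G), w⁻¹ * y * x = x * (w⁻¹ * y) := by
    intro x hx
    have h4 : w⁻¹ * x = x * w⁻¹ := by
      have := hwK x hx.1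
      calc w⁻¹ * x = w⁻¹ * (x * w) * w⁻¹ := by group
        _ = w⁻¹ * (w * x) * w⁻¹ := by rw [this]
        _ = x * w⁻¹ := by group
    calc w⁻¹ * y * x = w⁻¹ * (y * x) := by group
      _ = (w⁻¹ * x) * y := by rw [hy x hx]; group
      _ = x * (w⁻¹ * y) := by rw [h4]; group
  have htW := F.cTwo.tW
  have hsq := F.sq _ (F.mem 0)
  rcases F.cent_J 0 h2 h3 with h | h | h | h
  · left
    have : y = w := (inv_mul_eq_one.1 h).symm
    rw [this]; exact hw
  · right
    have : y * a 0 = w := by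
      have h4 : y = w * a 0 := by rw [← h]; group
      rw [h4, mul_assoc, hsq, mul_one]
    rw [this]; exact hw
  · left
    have : y = w * t := by rw [← h]; group
    rw [this]; exact mul_mem hw htW
  · right
    have : y * a 0 = w * t := by
      have h4 : y = w * (t * a 0) := by rw [← h]; group
      rw [h4, mul_assoc, mul_assoc, hsq, mul_one]
    rw [this]; exact mul_mem hw htW

theorem a_notMem (F : Fr t K A S a) (i : Fin 23) : a i ∉ centralizer (K : Set G) := by
  intro h
  exact F.a_ne_one i (F.center_K (F.aK i) fun k hk => (mem_centralizer_iff.1 h k hk).symm)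

/-- 8 does not divide `|C(J_0)|` -/
theorem not_eight [Finite G] (F : Fr t K A S a)
    (hC : ∀ i, CompOf (a i) (K ⊓ centralizer ({a i} : Set G))) :
    ¬ 8 ∣ Nat.card (centralizer ((K ⊓ centralizer ({a 0} : Set G) : Subgroup G) : Set G)) := by
  set W := centralizer (K : Set G) with hW
  set Y := centralizer ((K ⊓ centralizer ({a 0} : Set G) : Subgroup G) : Set G) with hY
  have hWY : W ≤ Y := centralizer_le inf_le_left
  have h1 : (Y : Set G) ⊆ (W : Set G) ∪ (fun x => x * a 0) '' (W : Set G) := by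
    intro y hy
    have hy' : ∀ x ∈ K ⊓ centralizer ({a 0} : Set G), y * x = x * y := fun x hx =>
      (mem_centralizer_iff.1 hy x hx).symm
    rcases F.cent_J_or hC hy' with h | h
    · exact Or.inl h
    · right
      refine ⟨y * a 0, h, ?_⟩
      show y * a 0 * a 0 = y
      rw [mul_assoc, F.sq _ (F.mem 0), mul_one]
  have h2 : Nat.card Y ≤ 2 * Nat.card W := by
    have e1 : Nat.card Y = (Y : Set G).ncard := rfl
    have e2 : Nat.card W = (W : Set G).ncard := rfl
    rw [e1, e2]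
    calc (Y : Set G).ncard ≤ ((W : Set G) ∪ (fun x => x * a 0) '' (W : Set G)).ncard :=
          Set.ncard_le_ncard h1 (Set.toFinite _)
      _ ≤ (W : Set G).ncard + ((fun x => x * a 0) '' (W : Set G)).ncard := Set.ncard_union_le _ _
      _ ≤ (W : Set G).ncard + (W : Set G).ncard :=
          Nat.add_le_add_left (Set.ncard_image_le (Set.toFinite _)) _
      _ = 2 * (W : Set G).ncard := by ring
  have h3 : Nat.card W ∣ Nat.card Y := Subgroup.card_dvd_of_le hWY
  have h4 := F.cTwo.not_four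
  have h5 : 0 < Nat.card W := Nat.card_pos
  have h6 : 0 < Nat.card Y := Nat.card_pos
  obtain ⟨c, hc⟩ := h3
  intro h8
  have hc2 : c ≤ 2 := by
    by_contra h
    push Not at h
    have : Nat.card W * 3 ≤ Nat.card W * c := Nat.mul_le_mul_left _ h
    rw [← hc] at this
    omega
  rw [hc] at h8
  apply h4
  show 4 ∣ Nat.card W
  interval_cases c
  · omega
  · omega
  · omega

/-- `J_0` is normal in `C(a_0)` -/
theorem J_normal [Finite G] (F : Fr t K A S a)
    (hC : ∀ i, CompOf (a i) (K ⊓ centralizer ({a i} : Set G))) {x : G} (hx : x * a 0 = a 0 * x) :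
    cj x (K ⊓ centralizer ({a 0} : Set G)) = K ⊓ centralizer ({a 0} : Set G) := by
  by_contra hne
  have h1 := compOf_comm (compOf_cj' hx (hC 0)) (hC 0) hne
  apply F.not_eight hC
  have h2 : cj x (K ⊓ centralizer ({a 0} : Set G)) ≤
      centralizer ((K ⊓ centralizer ({a 0} : Set G) : Subgroup G) : Set G) := fun y hy =>
    mem_centralizer_iff.2 fun z hz => (h1 y hy z hz).symm
  have h3 := Subgroup.card_dvd_of_le h2
  rw [card_cj] at h3
  have h4 := Subgroup.card_dvd_of_le (F.AJ 0)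
  rw [F.cardA] at h4
  exact (Dvd.dvd.trans (by norm_num) h4).trans h3

/-- **`t` moves to `t` or `t a_0` in `C(a_0)`** -/
theorem norm_end [Finite G] (F : Fr t K A S a) (bal : centralizerPPrimeCore 2 (a 0) = ⊥)
    (hC : ∀ i, CompOf (a i) (K ⊓ centralizer ({a i} : Set G))) :
    ∀ x, x * a 0 = a 0 * x → x * t * x⁻¹ = t ∨ x * t * x⁻¹ = t * a 0 := by
  set J := K ⊓ centralizer ({a 0} : Set G) with hJ
  -- conjugation of `C(J)`
  have hYc : ∀ x, x * a 0 = a 0 * x → ∀ y, (∀ j ∈ J, y * j = j * y) →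
      ∀ j ∈ J, x * y * x⁻¹ * j = j * (x * y * x⁻¹) := by
    intro x hx y hy j hj
    have h1 : x⁻¹ * j * x ∈ J := by
      rw [← mem_cj, F.J_normal hC hx]; exact hj
    have h2 := hy _ h1
    calc x * y * x⁻¹ * j = x * (y * (x⁻¹ * j * x)) * x⁻¹ := by group
      _ = x * (x⁻¹ * j * x * y) * x⁻¹ := by rw [h2]
      _ = j * (x * y * x⁻¹) := by group
  obtain ⟨N, hNW, hodd, hN1, hN2⟩ := F.cTwo.exists_compl
  have hWK : ∀ w ∈ centralizer (K : Set G), ∀ k ∈ K, w * k = k * w := fun w hw k hk =>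
    (mem_centralizer_iff.1 hw k hk).symm
  -- elements of odd order of `C(J)` lie in `N`
  have hodd' : ∀ y, (∀ j ∈ J, y * j = j * y) → Odd (orderOf y) → y ∈ N := by
    intro y hy ho
    rcases F.cent_J_or hC hy with h | h
    · exact hN1 y h ho
    · exfalso
      have h1 : Commute y (a 0) := hy _ (F.AJ 0 (F.mem 0))
      obtain ⟨m, hm⟩ := ho
      have h2 : (y * a 0) ^ (2 * m + 1) = a 0 := by
        rw [h1.mul_pow, ← hm, pow_orderOf_eq_one, one_mul, hm, pow_succ, pow_mul, pow_two,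
          F.sq _ (F.mem 0), one_pow, one_mul]
      apply F.a_notMem 0
      rw [← h2]
      exact pow_mem h _
  have hNodd : ∀ n ∈ N, Odd (orderOf n) := by
    intro n hn
    have h1 : orderOf (⟨n, hn⟩ : N) ∣ Nat.card N := orderOf_dvd_natCard _
    rw [← Subgroup.orderOf_coe] at h1
    exact Odd.of_dvd_nat hodd h1
  have hNa : N ≤ centralizer ({a 0} : Set G) := fun n hn =>
    mem_centralizer_singleton_iff.2 (hWK n (hNW hn) _ (F.aK 0))
  have hNbot : N = ⊥ := by
    have hnorm : (N.subgroupOf (centralizer ({a 0} : Set G))).Normal := by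
      refine ⟨fun n hn x => ?_⟩
      have hx := mem_centralizer_singleton_iff.1 x.2
      have hnN : (n : G) ∈ N := hn
      show (x : G) * n * (x : G)⁻¹ ∈ N
      apply hodd'
      · exact hYc x hx n fun j hj => hWK n (hNW hnN) j hj.1
      · have h1 : orderOf ((x : G) * n * (x : G)⁻¹) = orderOf (n : G) := by
          have := (MulAut.conj (x : G)).orderOf_eq (n : G)
          simpa [MulAut.conj_apply] using this
        rw [h1]; exact hNodd _ hnN
    have hcop : (Nat.card (N.subgroupOf (centralizer ({a 0} : Set G)))).Coprime 2 := by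
      rw [Nat.card_congr (subgroupOfEquivOfLe hNa).toEquiv, Nat.coprime_two_right]
      exact hodd
    have h1 := Lib.Cores.le_pPrimeCore hnorm hcop
    rw [Soft.core_eq_bot bal, le_bot_iff] at h1
    have h2 := congrArg (Subgroup.map (centralizer ({a 0} : Set G)).subtype) h1
    rwa [subgroupOf_map_subtype, inf_of_le_left hNa, Subgroup.map_bot] at h2
  have hW : ∀ w ∈ centralizer (K : Set G), w = 1 ∨ w = t := by
    intro w hw
    rcases hN2 w hw with h | h
    · rw [hNbot, mem_bot] at h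
      exact Or.inl h
    · rw [hNbot, mem_bot] at h
      right
      rw [← F.et w, h, mul_one]
  intro x hx
  have h1 := hYc x hx t fun j hj => (F.com j hj.1).symm
  have hsq := F.sq _ (F.mem 0)
  rcases F.cent_J_or hC h1 with h | h
  · rcases hW _ h with h' | h'
    · exfalso
      rw [mul_inv_eq_one] at h'
      exact F.t1 (mul_eq_left.1 h')
    · exact Or.inl h'
  · rcases hW _ h with h' | h'
    · exfalso
      apply F.not_conj (F.aK 0) x
      calc x * t * x⁻¹ = x * t * x⁻¹ * (a 0 * a 0) := by rw [hsq, mul_one]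
        _ = (x * t * x⁻¹ * a 0) * a 0 := by group
        _ = a 0 := by rw [h', one_mul]
    · right
      calc x * t * x⁻¹ = x * t * x⁻¹ * (a 0 * a 0) := by rw [hsq, mul_one]
        _ = (x * t * x⁻¹ * a 0) * a 0 := by group
        _ = t * a 0 := by rw [h']

end Fr

end Cfsg.Agent.OddHalf.D8.Fi23

end

-- merged: Cfsg.Agent.OddHalf.D8.Fi23.Last
section

/-!
# `T ≤ N^g` only for `g ∈ N`; the transfer from `N` (helper907)
-/

set_option autoImplicit false

namespace Cfsg.Agent.OddHalf.D8.Fi23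

open Subgroup Cfsg

namespace Fr

variable {G : Type*} [Group G] {t : G} {K A S : Subgroup G} {a : Fin 23 → G}

/-- a product of two of the 24 points determines them -/
theorem pair_uniq (F : Fr t K A S a) (hp : ∀ x, x ∈ orb F.NN t ↔ x = t ∨ ∃ i, x = t * a i)
    {θ θ' η η' : G} (h1 : θ ∈ orb F.NN t) (h2 : θ' ∈ orb F.NN t) (h3 : η ∈ orb F.NN t)
    (h4 : η' ∈ orb F.NN t) (hne : θ ≠ θ') (hne' : η ≠ η') (h : θ * θ' = η * η') : η = θ ∨ η = θ' := by
  have e1 : ∀ i, t * (t * a i) = a i := fun i => F.et _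
  have e2 : ∀ i, t * a i * t = a i := fun i => by
    rw [mul_assoc, F.com _ (F.aK i)]; exact F.et _
  have e3 : ∀ i j, t * a i * (t * a j) = a i * a j := fun i j => by
    calc t * a i * (t * a j) = (t * a i * t) * a j := by group
      _ = a i * a j := by rw [e2]
  rcases (hp θ).1 h1 with rfl | ⟨i, rfl⟩ <;> rcases (hp θ').1 h2 with r2 | ⟨j, r2⟩ <;>
    rcases (hp η).1 h3 with r3 | ⟨k, r3⟩ <;> rcases (hp η').1 h4 with r4 | ⟨l, r4⟩ <;>
    subst r2 r3 r4
  · exact absurd rfl hne
  · exact absurd rfl hne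
  · exact absurd rfl hne
  · exact absurd rfl hne
  · exact absurd rfl hne'
  · exact Or.inl rfl
  · rw [e1, e2] at h
    right; rw [F.a_inj h]
  · rw [e1, e3] at h
    have hkl : k ≠ l := fun e => hne' (by rw [e])
    exact absurd h.symm (F.pair_ne_a hkl)
  · exact absurd rfl hne'
  · rw [e1, e2] at h
    exact Or.inr rfl
  · rw [e2, e2] at h
    left; rw [F.a_inj h]
  · rw [e2, e3] at h
    have hkl : k ≠ l := fun e => hne' (by rw [e])
    exact absurd h.symm (F.pair_ne_a hkl)
  · exact absurd rfl hne'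
  · rw [e1, e3] at h
    have hij : i ≠ j := fun e => hne (by rw [e])
    exact absurd h (F.pair_ne_a hij)
  · rw [e2, e3] at h
    have hij : i ≠ j := fun e => hne (by rw [e])
    exact absurd h (F.pair_ne_a hij)
  · rw [e3, e3] at h
    have hij : i ≠ j := fun e => hne (by rw [e])
    have hkl : k ≠ l := fun e => hne' (by rw [e])
    rcases F.pair_eq hij hkl h with ⟨r1, -⟩ | ⟨-, r1⟩
    · left; rw [r1]
    · right; rw [r1]

/-- the points fixed by `s` -/
def Fx (F : Fr t K A S a) (s : G) : Set G := {θ | θ ∈ orb F.NN t ∧ s * θ = θ * s}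

theorem fx_le [Finite G] (F : Fr t K A S a) (hp : ∀ x, x ∈ orb F.NN t ↔ x = t ∨ ∃ i, x = t * a i)
    {s : G} (hs : s ∈ F.NN) (hsA : s ∉ dbl t A) : (F.Fx s).ncard ≤ 8 := by
  by_cases he : F.Fx s = ∅
  · rw [he, Set.ncard_empty]; norm_num
  obtain ⟨θ, hθ, hsθ⟩ := Set.nonempty_iff_ne_empty.2 he
  obtain ⟨n, hn, rfl⟩ := hθ
  set s1 := n⁻¹ * s * n with hs1
  have hs1N : s1 ∈ F.NN := F.NN.mul_mem (F.NN.mul_mem (F.NN.inv_mem hn) hs) hn
  have hs1A : s1 ∉ dbl t A := by
    intro h
    apply hsA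
    have := (F.mem_NN.1 hn s1).1 h
    have e : n * s1 * n⁻¹ = s := by rw [hs1]; group
    rwa [e] at this
  have hs1t : s1 * t = t * s1 := by
    calc s1 * t = n⁻¹ * (s * (n * t * n⁻¹)) * n := by rw [hs1]; group
      _ = n⁻¹ * (n * t * n⁻¹ * s) * n := by rw [hsθ]
      _ = t * s1 := by rw [hs1]; group
  have hsub : F.Fx s ⊆ (fun x => n * x * n⁻¹) '' F.Fx s1 := by
    rintro θ ⟨h1, h2⟩
    refine ⟨n⁻¹ * θ * n, ⟨?_, ?_⟩, by show n * (n⁻¹ * θ * n) * n⁻¹ = θ; group⟩
    · have := orb_conj h1 (F.NN.inv_mem hn)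
      rwa [inv_inv] at this
    · calc s1 * (n⁻¹ * θ * n) = n⁻¹ * (s * θ) * n := by rw [hs1]; group
        _ = n⁻¹ * (θ * s) * n := by rw [h2]
        _ = n⁻¹ * θ * n * s1 := by rw [hs1]; group
  have h1 : (F.Fx s).ncard ≤ (F.Fx s1).ncard :=
    (Set.ncard_le_ncard hsub (Set.toFinite _)).trans (Set.ncard_image_le (Set.toFinite _))
  refine h1.trans ?_
  -- `s1 = x` or `t x`
  have hmem : s1 ∈ dbl t (K ⊓ normalizer (A : Set G)) := by
    rw [← F.NN_cent]
    exact ⟨hs1N, mem_centralizer_singleton_iff.2 hs1t⟩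
  have hc : ∀ x ∈ K ⊓ normalizer (A : Set G), x * t = t * x := fun x hx => F.com x hx.1
  obtain ⟨x, hxK, hxN, hx⟩ : ∃ x, x ∈ K ∧ x ∈ normalizer (A : Set G) ∧ (s1 = x ∨ s1 = t * x) := by
    rcases (mem_dbl F.tt hc).1 hmem with h | h
    · exact ⟨s1, h.1, h.2, Or.inl rfl⟩
    · exact ⟨t * s1, h.1, h.2, Or.inr (F.et _).symm⟩
  have hxA : x ∉ A := by
    intro h
    apply hs1A
    rcases hx with h' | h'
    · rw [h']; exact le_dbl t A h
    · rw [h']; exact (dbl t A).mul_mem (t_mem_dbl t A) (le_dbl t A h)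
  set I : Set (Fin 23) := {i | x * a i = a i * x} with hI
  have hI7 : I.ncard ≤ 7 := by
    by_contra h
    have h' : 8 ≤ I.ncard := by omega
    exact hxA (F.fix x hxK hxN h')
  have hsub2 : F.Fx s1 ⊆ insert t ((fun i => t * a i) '' I) := by
    rintro θ ⟨h2, h3⟩
    rcases (hp θ).1 h2 with h4 | ⟨i, rfl⟩
    · left; exact h4
    · right
      refine ⟨i, ?_, rfl⟩
      show x * a i = a i * x
      have h5 : s1 * a i = a i * s1 := by
        have : t * (s1 * a i) = t * (a i * s1) := by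
          calc t * (s1 * a i) = (t * s1) * a i := by group
            _ = (s1 * t) * a i := by rw [hs1t]
            _ = s1 * (t * a i) := by group
            _ = t * a i * s1 := h3
            _ = t * (a i * s1) := by group
        exact mul_left_cancel this
      rcases hx with h' | h'
      · rwa [h'] at h5
      · rw [h'] at h5
        have : t * (x * a i) = t * (a i * x) := by
          calc t * (x * a i) = t * x * a i := by group
            _ = a i * (t * x) := h5
            _ = (a i * t) * x := by group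
            _ = (t * a i) * x := by rw [F.com _ (F.aK i)]
            _ = t * (a i * x) := by group
        exact mul_left_cancel this
  calc (F.Fx s1).ncard ≤ (insert t ((fun i => t * a i) '' I)).ncard :=
        Set.ncard_le_ncard hsub2 (Set.toFinite _)
    _ ≤ ((fun i => t * a i) '' I).ncard + 1 := Set.ncard_insert_le _ _
    _ ≤ I.ncard + 1 := Nat.add_le_add_right (Set.ncard_image_le (Set.toFinite _)) 1
    _ ≤ 8 := by omega

theorem card_NN [Finite G] (F : Fr t K A S a) (h24 : (orb F.NN t).ncard = 24) :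
    Nat.card F.NN = 24 * (2 ^ 12 * 10200960) := by
  rw [← orb_card F.NN t, h24, F.card_NN_cent]

/-- an involution of `N` outside `A*` centralizes at most `2⁸` elements of `A*` -/
theorem cent_le [Finite G] (F : Fr t K A S a) (hp : ∀ x, x ∈ orb F.NN t ↔ x = t ∨ ∃ i, x = t * a i)
    (h24 : (orb F.NN t).ncard = 24) {s : G} (hs : s ∈ F.NN) (hsA : s ∉ dbl t A) (hss : s * s = 1) :
    Nat.card ↥(dbl t A ⊓ centralizer ({s} : Set G)) < 2 ^ 9 := by
  by_contra hcon
  push Not at hcon
  have hsi : s⁻¹ = s := inv_eq_of_mul_eq_one_left hss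
  have hsx : ∀ x ∈ dbl t A, s * x * s⁻¹ ∈ dbl t A := fun x hx => (F.mem_NN.1 hs x).1 hx
  let ψ : dbl t A →* G :=
    { toFun := fun x => x * (s * x * s⁻¹)
      map_one' := by simp
      map_mul' := by
        intro x y
        have h1 : (y : G) * (s * x * s⁻¹) = s * x * s⁻¹ * y := F.AA_comm y.2 (hsx x x.2)
        show (x : G) * y * (s * (x * y) * s⁻¹) = x * (s * x * s⁻¹) * (y * (s * y * s⁻¹))
        calc (x : G) * y * (s * (x * y) * s⁻¹) = x * (y * (s * x * s⁻¹)) * (s * y * s⁻¹) := by group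
          _ = x * (s * x * s⁻¹ * y) * (s * y * s⁻¹) := by rw [h1]
          _ = x * (s * x * s⁻¹) * (y * (s * y * s⁻¹)) := by group }
  have hψ : ∀ x : dbl t A, ψ x = x * (s * x * s⁻¹) := fun _ => rfl
  have hker : Nat.card ψ.ker = Nat.card ↥(dbl t A ⊓ centralizer ({s} : Set G)) := by
    refine Nat.card_congr
      { toFun := fun y => ⟨y, y.1.2, ?_⟩
        invFun := fun y => ⟨⟨y, y.2.1⟩, ?_⟩
        left_inv := fun y => rfl
        right_inv := fun y => rfl }
    · have h1 : ((y : dbl t A) : G) * (s * ((y : dbl t A) : G) * s⁻¹) = 1 := y.2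
      have h2 : s * ((y : dbl t A) : G) * s⁻¹ = ((y : dbl t A) : G) := by
        have h3 := eq_inv_of_mul_eq_one_right h1
        rw [h3]; exact F.AA_inv y.1.2
      exact mem_centralizer_singleton_iff.2 (mul_inv_eq_iff_eq_mul.1 h2).symm
    · rw [MonoidHom.mem_ker, hψ]
      have h1 : (y : G) * s = s * y := mem_centralizer_singleton_iff.1 y.2.2
      show (y : G) * (s * y * s⁻¹) = 1
      rw [← h1, mul_inv_cancel_right]
      exact F.AA_sq y.2.1
  have hrange : Nat.card ψ.range ≤ 8 := by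
    have h1 := ψ.ker.card_mul_index
    rw [Subgroup.index_ker, hker, F.cardAA] at h1
    by_contra h2
    push Not at h2
    have : 2 ^ 9 * 9 ≤ 2 ^ 12 := by
      calc 2 ^ 9 * 9 ≤ Nat.card ↥(dbl t A ⊓ centralizer ({s} : Set G)) * Nat.card ψ.range :=
            Nat.mul_le_mul hcon h2
        _ = 2 ^ 12 := h1
    norm_num at this
  -- the moved points
  set M : Set G := orb F.NN t \ F.Fx s with hM
  have hM16 : 16 ≤ M.ncard := by
    have h1 := F.fx_le hp hs hsA
    have h2 : F.Fx s ⊆ orb F.NN t := fun x hx => hx.1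
    have h3 := Set.ncard_sdiff_add_ncard_of_subset h2 (Set.toFinite _)
    rw [← hM] at h3
    omega
  have hMA : ∀ θ ∈ M, θ ∈ dbl t A := fun θ h => (F.orb_sub h.1).1
  have hMne : ∀ θ ∈ M, s * θ * s⁻¹ ≠ θ := by
    intro θ h e
    exact h.2 ⟨h.1, mul_inv_eq_iff_eq_mul.1 e⟩
  have hMo : ∀ θ ∈ M, s * θ * s⁻¹ ∈ orb F.NN t := fun θ h => orb_conj h.1 hs
  -- the map to the range
  let φ : G → G := fun θ => θ * (s * θ * s⁻¹)
  have hφr : φ '' M ⊆ (ψ.range : Set G) \ {1} := by
    rintro _ ⟨θ, h, rfl⟩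
    refine ⟨⟨⟨θ, hMA θ h⟩, rfl⟩, ?_⟩
    intro h1
    have h1 : θ * (s * θ * s⁻¹) = 1 := h1
    apply hMne θ h
    rw [eq_inv_of_mul_eq_one_right h1]
    exact F.AA_inv (hMA θ h)
  have hφ7 : (φ '' M).ncard ≤ 7 := by
    refine (Set.ncard_le_ncard hφr (Set.toFinite _)).trans ?_
    rw [Set.ncard_sdiff_singleton_of_mem ψ.range.one_mem]
    have : (ψ.range : Set G).ncard ≤ 8 := hrange
    omega
  have hfib : ∀ y ∈ φ '' M, {θ ∈ M | φ θ = y}.ncard ≤ 2 := by
    rintro _ ⟨θ, h, rfl⟩
    have : {η ∈ M | φ η = φ θ} ⊆ {θ, s * θ * s⁻¹} := by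
      rintro η ⟨h1, h2⟩
      have := F.pair_uniq hp h.1 (hMo θ h) h1.1 (hMo η h1) (hMne θ h).symm (hMne η h1).symm h2.symm
      exact this
    exact (Set.ncard_le_ncard this (Set.toFinite _)).trans (pair_le _ _)
  have hM14 : M.ncard ≤ 14 := by
    classical
    have hfin : M.Finite := Set.toFinite _
    have h1 := Finset.card_le_mul_card_image (f := φ) (s := hfin.toFinset) 2 (by
      intro y hy
      have h2 : y ∈ φ '' M := by
        rw [Finset.mem_image] at hy
        obtain ⟨θ, h3, h4⟩ := hy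
        exact ⟨θ, hfin.mem_toFinset.1 h3, h4⟩
      have h5 := hfib y h2
      rw [← Set.ncard_coe_finset]
      refine le_trans (le_of_eq ?_) h5
      congr 1
      ext θ
      simp)
    rw [← Set.ncard_coe_finset, ← Set.ncard_coe_finset, Set.Finite.coe_toFinset, Finset.coe_image,
      Set.Finite.coe_toFinset] at h1
    omega
  omega

/-- **`T ≤ N^g` implies `g ∈ N`** -/
theorem mem_NN_of_le [Finite G] (F : Fr t K A S a)
    (hp : ∀ x, x ∈ orb F.NN t ↔ x = t ∨ ∃ i, x = t * a i) (h24 : (orb F.NN t).ncard = 24) {g : G}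
    (hg : ∀ x ∈ dbl t S, g⁻¹ * x * g ∈ F.NN) : g ∈ F.NN := by
  set T' : Subgroup G := (dbl t S).map (MulAut.conj g⁻¹).toMonoidHom with hT'
  have hT'N : T' ≤ F.NN := by
    rintro _ ⟨x, hx, rfl⟩
    have : (MulAut.conj g⁻¹).toMonoidHom x = g⁻¹ * x * g := by
      show g⁻¹ * x * g⁻¹⁻¹ = _
      group
    rw [this]; exact hg x hx
  have hmT' : ∀ x, x ∈ T' ↔ g * x * g⁻¹ ∈ dbl t S := by
    intro x
    constructor
    · rintro ⟨y, hy, rfl⟩
      have : g * ((MulAut.conj g⁻¹).toMonoidHom y) * g⁻¹ = y := by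
        show g * (g⁻¹ * y * g⁻¹⁻¹) * g⁻¹ = y
        group
      rw [this]; exact hy
    · intro h
      refine ⟨_, h, ?_⟩
      show g⁻¹ * (g * x * g⁻¹) * g⁻¹⁻¹ = x
      group
  have hpT' : IsPGroup 2 T' := F.pT.map _
  set s := g⁻¹ * t * g with hs
  have hsT' : s ∈ T' := by
    rw [hmT']
    have : g * s * g⁻¹ = t := by rw [hs]; group
    rw [this]; exact t_mem_dbl t S
  have hss : s * s = 1 := by
    calc s * s = g⁻¹ * (t * t) * g := by rw [hs]; group
      _ = 1 := by rw [F.tt]; group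
  have hcT' : ∀ x ∈ T', x * s = s * x := by
    intro x hx
    have h1 := dbl_comm F.tt F.comS ((hmT' x).1 hx)
    calc x * s = g⁻¹ * (g * x * g⁻¹ * t) * g := by rw [hs]; group
      _ = g⁻¹ * (t * (g * x * g⁻¹)) * g := by rw [h1]
      _ = s * x := by rw [hs]; group
  by_cases hsA : s ∈ dbl t A
  · -- `A* ≤ T'`
    have hpA : IsPGroup 2 (dbl t A) := by
      rintro ⟨x, hx⟩
      exact ⟨1, Subtype.ext (by show x ^ 2 ^ 1 = 1; rw [pow_one, pow_two]; exact F.AA_sq hx)⟩
    have h1 : IsPGroup 2 ((T' ⊔ dbl t A : Subgroup G)) := hpT'.to_sup_of_normal_right' hpA hT'N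
    have h2 : T' ⊔ dbl t A ≤ centralizer ({s} : Set G) := by
      refine sup_le (fun x hx => mem_centralizer_singleton_iff.2 (hcT' x hx)) (fun x hx => ?_)
      exact mem_centralizer_singleton_iff.2 (F.AA_comm hx hsA)
    set P : Subgroup G := (T' ⊔ dbl t A).map (MulAut.conj g).toMonoidHom with hP
    have hPm : ∀ x, x ∈ T' ⊔ dbl t A → g * x * g⁻¹ ∈ P := fun x hx => ⟨x, hx, rfl⟩
    have h3 : P = dbl t S := by
      apply F.maxT (h1.map _)
      · rintro _ ⟨x, hx, rfl⟩
        have h4 : x * s = s * x := mem_centralizer_singleton_iff.1 (h2 hx)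
        show g * x * g⁻¹ * t = t * (g * x * g⁻¹)
        calc g * x * g⁻¹ * t = g * (x * s) * g⁻¹ := by rw [hs]; group
          _ = g * (s * x) * g⁻¹ := by rw [h4]
          _ = t * (g * x * g⁻¹) := by rw [hs]; group
      · intro x hx
        have h5 : g⁻¹ * x * g ∈ T' := by
          rw [hmT']
          have : g * (g⁻¹ * x * g) * g⁻¹ = x := by group
          rw [this]; exact hx
        have h6 := hPm _ ((le_sup_left : T' ≤ _) h5)
        have : g * (g⁻¹ * x * g) * g⁻¹ = x := by group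
        rwa [this] at h6
    have h7 : (dbl t A).map (MulAut.conj g).toMonoidHom = dbl t A := by
      apply F.uniqT
      · rw [← h3]
        exact map_mono le_sup_right
      · rintro _ ⟨x, hx, rfl⟩
        show g * x * g⁻¹ * (g * x * g⁻¹) = 1
        calc g * x * g⁻¹ * (g * x * g⁻¹) = g * (x * x) * g⁻¹ := by group
          _ = 1 := by rw [F.AA_sq hx]; group
      · rw [← F.cardAA]
        exact (Nat.card_congr ((dbl t A).equivMapOfInjective _ (MulAut.conj g).injective).toEquiv).le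
    rw [F.mem_NN]
    intro x
    constructor
    · intro hx
      rw [← h7]
      exact ⟨x, hx, rfl⟩
    · intro hx
      rw [← h7] at hx
      obtain ⟨z, hz, hzx⟩ := hx
      have : z = x := mul_left_cancel (mul_right_cancel (hzx : g * z * g⁻¹ = g * x * g⁻¹))
      rwa [← this]
  · exfalso
    have hlt := F.cent_le hp h24 (hT'N hsT') hsA hss
    have hN := F.card_NN h24
    -- index of `A*` in `N`
    have hAN : dbl t A ≤ F.NN := le_normalizer
    have hi : (dbl t A).relIndex F.NN = 24 * 10200960 := by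
      have h1 := Subgroup.card_mul_index ((dbl t A).subgroupOf F.NN)
      rw [Nat.card_congr (subgroupOfEquivOfLe hAN).toEquiv, F.cardAA, hN] at h1
      have h2 : (dbl t A).relIndex F.NN = ((dbl t A).subgroupOf F.NN).index := rfl
      rw [h2]
      omega
    have hn : ((dbl t A).subgroupOf F.NN).Normal := by
      rw [normal_subgroupOf_iff_le_normalizer hAN]
      exact le_rfl
    have hd : (dbl t A).relIndex T' ∣ 24 * 10200960 := by
      have h1 := Subgroup.relIndex_dvd_index_of_normal ((dbl t A).subgroupOf F.NN) (T'.subgroupOf F.NN)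
      rw [Subgroup.relIndex_subgroupOf hT'N] at h1
      rw [← hi]; exact h1
    have hcT : Nat.card T' = 2 ^ 19 := by
      rw [← F.cardT]
      exact (Nat.card_congr ((dbl t S).equivMapOfInjective _ (MulAut.conj g⁻¹).injective).toEquiv).symm
    have hm := Subgroup.card_mul_index ((dbl t A).subgroupOf T')
    rw [hcT] at hm
    have hle : Nat.card ((dbl t A).subgroupOf T') ≤ Nat.card ↥(dbl t A ⊓ centralizer ({s} : Set G)) := by
      refine Nat.card_le_card_of_injective
        (fun x : (dbl t A).subgroupOf T' => (⟨((x : T') : G), x.2, mem_centralizer_singleton_iff.2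
          (hcT' _ (x : T').2)⟩ : ↥(dbl t A ⊓ centralizer ({s} : Set G)))) ?_
      intro x y hxy
      have h1 : ((x : T') : G) = ((y : T') : G) := by simpa using congrArg Subtype.val hxy
      exact Subtype.ext (Subtype.ext h1)
    have hidx : ((dbl t A).subgroupOf T').index = (dbl t A).relIndex T' := rfl
    rw [hidx] at hm
    have hdvd : (dbl t A).relIndex T' ∣ 2 ^ 19 := Dvd.intro_left _ hm
    obtain ⟨k, hk, hk2⟩ := (Nat.dvd_prime_pow Nat.prime_two).1 hdvd
    rw [hk2] at hd hm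
    have hk10 : k ≤ 10 := by
      by_contra h
      have h1 : 2 ^ 11 ∣ 24 * 10200960 := (pow_dvd_pow 2 (by omega)).trans hd
      norm_num at h1
    have h9 : 2 ^ 9 ≤ Nat.card ((dbl t A).subgroupOf T') := by
      by_contra h
      push Not at h
      have h1 : Nat.card ((dbl t A).subgroupOf T') * 2 ^ k < 2 ^ 9 * 2 ^ 10 :=
        calc Nat.card ((dbl t A).subgroupOf T') * 2 ^ k < 2 ^ 9 * 2 ^ k :=
              Nat.mul_lt_mul_of_pos_right h (by positivity)
          _ ≤ 2 ^ 9 * 2 ^ 10 := Nat.mul_le_mul_left _ (Nat.pow_le_pow_right (by norm_num) hk10)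
      rw [hm] at h1
      norm_num at h1
    omega

/-- **End of the case `J_a ⊴ C_G(a)`** -/
theorem last [Finite G] (F : Fr t K A S a) (hG : ∀ f : G →* ℤˣ, f t = 1)
    (h3 : ∀ x, x * a 0 = a 0 * x → x * t * x⁻¹ = t ∨ x * t * x⁻¹ = t * a 0)
    (hy : ∃ y ∈ F.NN, y * t * y⁻¹ ≠ t) : False := by
  classical
  obtain ⟨hp, h24⟩ := F.points h3 hy
  obtain ⟨f, hf⟩ := F.glue hp h24
  have : Fintype (G ⧸ F.NN) := Fintype.ofFinite _
  have h1 := OddHalf.D9.TransferGen.transfer_eq_D F.NN f t (by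
    intro k hk hk1 g h
    have ho : orderOf t = 2 := orderOf_eq_prime (by rw [pow_two, F.tt]) F.t1
    rw [ho] at hk
    have hk2 : k = 2 := by
      have : k ≤ 2 := Nat.le_of_dvd (by norm_num) hk
      interval_cases k <;> simp_all
    subst hk2
    have e : (⟨g⁻¹ * t ^ 2 * g, h⟩ : F.NN) = 1 := by
      apply Subtype.ext
      show g⁻¹ * t ^ 2 * g = 1
      rw [pow_two, F.tt]; group
    rw [e, map_one]) (dbl t S) F.pT (t_mem_dbl t S) (fun d hd => dbl_comm F.tt F.comS hd)
  have hset : Finset.univ.filter (fun q : G ⧸ F.NN => ∀ d ∈ dbl t S, d • q = q) =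
      {((1 : G) : G ⧸ F.NN)} := by
    ext q
    rw [Finset.mem_filter, Finset.mem_singleton]
    constructor
    · rintro ⟨-, hq⟩
      obtain ⟨g, rfl⟩ := QuotientGroup.mk_surjective q
      have hg : g ∈ F.NN := F.mem_NN_of_le hp h24 (fun x hx =>
        (OddHalf.D9.TransferGen.smul_mk_eq F.NN x g).1 (hq x hx))
      rw [QuotientGroup.eq]
      exact F.NN.mul_mem (F.NN.inv_mem hg) F.NN.one_mem
    · rintro rfl
      refine ⟨Finset.mem_univ _, fun d hd => ?_⟩
      rw [OddHalf.D9.TransferGen.smul_mk_eq]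
      have : (1 : G)⁻¹ * d * 1 = d := by group
      rw [this]
      -- `T ≤ N`
      rw [F.mem_NN]
      have hnT : d ∈ normalizer ((dbl t S : Subgroup G) : Set G) := le_normalizer hd
      exact fun x => mem_normalizer_iff.1 (F.norm_le hnT) x
  rw [hG, hset, Finset.prod_singleton] at h1
  have ht : (1 : G)⁻¹ * t * 1 ∈ F.NN := by
    have : (1 : G)⁻¹ * t * 1 = t := by group
    rw [this]; exact F.t_mem_NN
  rw [OddHalf.D9.TransferGen.val_mk F.NN f t 1 ht] at h1
  have e : (⟨(1 : G)⁻¹ * t * 1, ht⟩ : F.NN) = ⟨t, F.t_mem_NN⟩ := Subtype.ext (by group)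
  rw [e, hf] at h1
  exact absurd h1 (by decide)

end Fr

end Cfsg.Agent.OddHalf.D8.Fi23

end

-- merged: Cfsg.Agent.OddHalf.D8.Fi23.Main
section

/-!
# ODD half, D8: the kill of `K = Fi₂₃` (helper907)

`kill`: no counterexample has a standard component `K` with the facts `Sheet K A S a`, all automorphisms inner, unless
`C_K(a 0)` is properly contained in a component of `C_G(a 0)` (`hpu`).
-/

set_option autoImplicit false

namespace Cfsg.Agent.OddHalf.D8.Fi23

open Subgroup Cfsg Cfsg.Agent.OddHalf Cfsg.Agent.OddHalf.Iface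

universe u

/-- conjugation of `C_K(b)` -/
theorem cj_cent {G : Type*} [Group G] {K : Subgroup G} {n b : G} (hn : n ∈ K) :
    cj n (K ⊓ centralizer ({b} : Set G)) = K ⊓ centralizer ({n * b * n⁻¹} : Set G) := by
  ext x
  rw [mem_cj, mem_inf, mem_inf, mem_centralizer_singleton_iff, mem_centralizer_singleton_iff]
  constructor
  · rintro ⟨h1, h2⟩
    refine ⟨?_, ?_⟩
    · have h3 := K.mul_mem (K.mul_mem hn h1) (K.inv_mem hn)
      have e : n * (n⁻¹ * x * n) * n⁻¹ = x := by group
      rwa [e] at h3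
    · calc x * (n * b * n⁻¹) = n * (n⁻¹ * x * n * b) * n⁻¹ := by group
        _ = n * (b * (n⁻¹ * x * n)) * n⁻¹ := by rw [h2]
        _ = n * b * n⁻¹ * x := by group
  · rintro ⟨h1, h2⟩
    refine ⟨K.mul_mem (K.mul_mem (K.inv_mem hn) h1) hn, ?_⟩
    calc n⁻¹ * x * n * b = n⁻¹ * (x * (n * b * n⁻¹)) * n := by group
      _ = n⁻¹ * (n * b * n⁻¹ * x) * n := by rw [h2]
      _ = b * (n⁻¹ * x * n) := by group

/-- **The kill of `K = Fi₂₃`**, up to the pump-up of `C_K(a 0)` -/
theorem kill {G : Type u} [Group G] (C : Ctx G) {K : Subgroup G} (St : Std G K) (hcyc : Cyc K)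
    {A : Subgroup K} {S : Sylow 2 K} {a : Fin 23 → K} (sh : Sheet K A S a)
    (hout : ∀ φ : MulAut K, ∃ k : K, φ = MulAut.conj k)
    (hpu : ∀ D : Subgroup G, CompOf ((a 0 : K) : G) D →
      K ⊓ centralizer ({((a 0 : K) : G)} : Set G) < D → False) : False := by
  have := C.fin
  have L : Loc K (A.map K.subtype) ((S : Subgroup K).map K.subtype) (fun i => (a i : G)) :=
    Loc.of_sheet sh
  have hcen : center K = ⊥ := by
    rw [eq_bot_iff]
    intro x hx
    rw [mem_bot]
    apply Subtype.ext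
    exact L.center_K x.2 fun y hy => (congrArg Subtype.val (mem_center_iff.1 hx ⟨y, hy⟩)).symm
  obtain ⟨t, q, st⟩ := Front.FE.exists_start C St hcyc hcen
  have P : Pre t q K (A.map K.subtype) ((S : Subgroup K).map K.subtype) (fun i => (a i : G)) :=
    { st := st
      loc := L
      cent := by
        intro g hg
        obtain ⟨k, hk⟩ := hout (K.normalizerMonoidHom ⟨g, st.nK g hg⟩)
        have h1 : g ∈ zpowers q ⊔ K := Front.OfSheet.mem_of_inn st hg ⟨k, hk.symm⟩
        obtain ⟨u, hu, x, hx, rfl⟩ := (Pre.mem_sup_comm (fun u hu k hk =>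
          st.toStart0.QK u hu k hk)).1 h1
        refine ⟨u⁻¹, (zpowers q).inv_mem hu, ?_⟩
        rw [inv_mul_cancel_left]; exact hx }
  obtain ⟨F, y, hyN, hyt⟩ := P.main (Front.FE.commutator_eq_top C)
  have hK2 : ∀ g, g * t = t * g → ∀ x ∈ K, g * x * g⁻¹ ∈ K := fun g hg x hx =>
    (mem_normalizer_iff.1 (st.nK g hg) x).1 hx
  have hidx : ∀ N : Subgroup G, N.index ≠ 2 := Front.FE.index_ne_two C
  have ho : orderOf ((a 0 : K) : G) = 2 :=
    orderOf_eq_prime (by rw [pow_two]; exact F.sq _ (F.mem 0)) (F.a_ne_one 0)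
  have hJa : K ⊓ centralizer ({((a 0 : K) : G)} : Set G) ≤ centralizer ({((a 0 : K) : G)} : Set G) :=
    inf_le_right
  have hJt : K ⊓ centralizer ({((a 0 : K) : G)} : Set G) ≤ centralizer ({t} : Set G) := fun x hx =>
    mem_centralizer_singleton_iff.2 (F.com x hx.1)
  have haJ : ((a 0 : K) : G) ∈ K ⊓ centralizer ({((a 0 : K) : G)} : Set G) :=
    ⟨F.aK 0, mem_centralizer_singleton_iff.2 rfl⟩
  have heven : 2 ∣ Nat.card ↥(K ⊓ centralizer ({((a 0 : K) : G)} : Set G)) := by
    have h1 : orderOf (⟨((a 0 : K) : G), haJ⟩ : ↥(K ⊓ centralizer ({((a 0 : K) : G)} : Set G))) = 2 := by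
      rw [Subgroup.orderOf_mk]; exact ho
    rw [← h1]; exact orderOf_dvd_natCard _
  have hsub : ((K ⊓ centralizer ({((a 0 : K) : G)} : Set G)).subgroupOf
      (centralizer ({((a 0 : K) : G)} : Set G) ⊓ centralizer ({t} : Set G))).IsSubnormal := by
    apply Normal.isSubnormal
    refine ⟨fun n hn g => ?_⟩
    have hgt := mem_centralizer_singleton_iff.1 g.2.2
    have hga : (g : G) ∈ centralizer ({((a 0 : K) : G)} : Set G) := g.2.1
    have hn' : (n : G) ∈ K ⊓ centralizer ({((a 0 : K) : G)} : Set G) := hn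
    show (g : G) * n * (g : G)⁻¹ ∈ K ⊓ centralizer ({((a 0 : K) : G)} : Set G)
    exact ⟨hK2 g hgt n hn'.1, (centralizer ({((a 0 : K) : G)} : Set G)).mul_mem
      ((centralizer ({((a 0 : K) : G)} : Set G)).mul_mem hga hn'.2)
      ((centralizer ({((a 0 : K) : G)} : Set G)).inv_mem hga)⟩
  obtain ⟨D, hD, h⟩ := PumpX.pump (C.bal _ ho) F.tt (F.com _ (F.aK 0)) hJa hJt (F.qs 0) heven hsub
  rcases h with h | ⟨h, -⟩ | ⟨h1, h2, h3⟩
  · -- `J` is a component
    have hC0 : CompOf ((a 0 : K) : G) (K ⊓ centralizer ({((a 0 : K) : G)} : Set G)) := by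
      rw [h]; exact ⟨hD.le, hD.comp⟩
    have hC : ∀ i, CompOf ((a i : K) : G) (K ⊓ centralizer ({((a i : K) : G)} : Set G)) := by
      intro i
      obtain ⟨n, hn, -, e⟩ := F.one 0 i
      have h1 := compOf_cj hC0 n
      rw [cj_cent hn] at h1
      have e' : n * ((a 0 : K) : G) * n⁻¹ = ((a i : K) : G) := e
      rwa [e'] at h1
    exact F.last (fun f => D9.Outer.hom_units_eq_one hidx f t) (F.norm_end (C.bal _ ho) hC)
      ⟨y, hyN, hyt⟩
  · exact hpu D ⟨hD.le, hD.comp⟩ h
  · refine F.swap hidx C.bal ⟨D, ⟨hD.le, hD.comp⟩, h1, fun x => ⟨fun hx => ?_, ?_⟩⟩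
    · obtain ⟨d, hd, e⟩ := h3 x hx
      exact ⟨d, hd, e.symm⟩
    · rintro ⟨d, hd, rfl⟩
      exact h2 d hd

end Cfsg.Agent.OddHalf.D8.Fi23

end

-- merged: Cfsg.Agent.OddHalf.D8.Fi23.RowOf
section

/-!
# ODD half, D8: the row of `Fi₂₃` from the facts on `Spor.Fi23` (helper907)

`row_of`: from the multiplier facts `Mult`, the orders `SporOrd` of the sporadic groups with even multiplier and
`KData Spor.Fi23`.
-/

set_option autoImplicit false

namespace Cfsg.Agent.OddHalf.D8.Fi23

open scoped commutatorElement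
open Subgroup Cfsg Cfsg.Agent.OddHalf.Iface

universe u

/-- all facts on `K = Fi₂₃` -/
structure KData (K : Type*) [Group K] : Prop where
  card : Nat.card K = 4089470473293004800
  inn : ∀ φ : MulAut K, ∃ k : K, φ = MulAut.conj k
  sheet : ∃ (A : Subgroup K) (S : Sylow 2 K) (a : Fin 23 → K), Sheet K A S a ∧
    Nat.card (centralizer ({a 0} : Set K)) = 129123503308800

theorem KData.of_equiv {K L : Type*} [Group K] [Group L] (g : L ≃* K) (h : KData K) : KData L where
  card := by rw [Nat.card_congr g.toEquiv, h.card]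
  inn := fun φ => by
    obtain ⟨k, hk⟩ := h.inn ((g.symm.trans φ).trans g)
    refine ⟨g.symm k, ?_⟩
    ext x
    have h1 : g (φ (g.symm (g x))) = k * g x * k⁻¹ := congrArg (fun ψ : MulAut K => ψ (g x)) hk
    rw [g.symm_apply_apply] at h1
    apply g.injective
    rw [h1]
    show _ = g (g.symm k * x * (g.symm k)⁻¹)
    rw [map_mul, map_mul, map_inv, g.apply_symm_apply]
  sheet := by
    obtain ⟨A, S, a, h1, h2⟩ := h.sheet
    obtain ⟨T, h3⟩ := h1.comap g
    refine ⟨_, T, _, h3, ?_⟩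
    show Nat.card ↥(centralizer ({g.symm (a 0)} : Set L)) = _
    rw [centralizer_comap_equiv, card_comap_equiv, h2]

/-- the kill with all the facts -/
theorem kill_of (M : D9.Cut.Mult.{u}) (O : SporOrd.{u}) {G : Type u} [Group G] (C : Ctx G) {K : Subgroup G}
    (St : Std G K) (hcyc : Cyc K) (h : KData K) : False := by
  have := C.fin
  obtain ⟨A, S, a, sh, hc⟩ := h.sheet
  have L : Loc K (A.map K.subtype) ((S : Subgroup K).map K.subtype) (fun i => (a i : G)) := Loc.of_sheet sh
  have hJ : K ⊓ centralizer ({((a 0 : K) : G)} : Set G) = (centralizer ({a 0} : Set K)).map K.subtype := by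
    ext x
    rw [mem_inf, mem_centralizer_singleton_iff, mem_map]
    constructor
    · rintro ⟨hx, h1⟩
      exact ⟨⟨x, hx⟩, mem_centralizer_singleton_iff.2 (Subtype.ext h1), rfl⟩
    · rintro ⟨y, hy, rfl⟩
      exact ⟨y.2, congrArg Subtype.val (mem_centralizer_singleton_iff.1 hy)⟩
  have hcard : Nat.card ↥(K ⊓ centralizer ({((a 0 : K) : G)} : Set G)) = 129123503308800 := by
    rw [hJ, ← hc]
    exact (Nat.card_congr ((centralizer ({a 0} : Set K)).equivMapOfInjective _ K.subtype_injective).toEquiv).symm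
  have ho : orderOf ((a 0 : K) : G) = 2 :=
    orderOf_eq_prime (by rw [pow_two]; exact L.sq _ (L.mem 0)) (L.a_ne_one 0)
  refine kill C St hcyc sh h.inn fun D hD hlt => ?_
  refine pump M O C St h.card (J := K ⊓ centralizer ({((a 0 : K) : G)} : Set G)) ho hD hlt
    ⟨(a 0).2, mem_centralizer_singleton_iff.2 rfl⟩ ?_ ?_ hcard
  · have := (L.qs 0).1
    exact Subgroup.commutator_eq_self
  · intro x hx hy
    refine L.cen 0 x hx.1 fun y hyK hya => hy y ⟨hyK, mem_centralizer_singleton_iff.2 hya⟩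

/-- **the row `K = Fi₂₃`** from the facts on `Spor.Fi23` -/
theorem row_of (M : D9.Cut.Mult.{u}) (O : SporOrd.{u}) (h : KData Spor.Fi23) :
    Rows.Row.{u} (fun K _ => Spor.IsoFi23 K) := by
  intro G _ C K St hcyc hK
  obtain ⟨e⟩ := hK
  exact kill_of M O C St hcyc (h.of_equiv e)

end Cfsg.Agent.OddHalf.D8.Fi23

end

-- merged: Cfsg.Agent.OddHalf.D8.Fi23.OrdSpor
section

/-!
# ODD half, D8, row `K = Fi₂₃` (helper907): the orders of the sporadic groups with even multiplier
-/

set_option autoImplicit false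

namespace Cfsg.Agent.OddHalf.D8.Fi23

open Cfsg

universe u

theorem sporOrd : SporOrd.{u} := by
  intro X _ h h0 hN
  have hlt : ∀ {c : ℕ}, Nat.card X = c → ¬ 64561751654400 ∣ c → False := by
    intro c h1 h2
    exact h2 (h1 ▸ h0)
  rcases h with h | h | h | h | h | h | h | h | h
  · obtain ⟨e⟩ := h
    exact (hlt ((Nat.card_congr e.toEquiv).trans MTwelveType.SylowModel.card_M12) (by norm_num)).elim
  · obtain ⟨e⟩ := h
    exact (hlt ((Nat.card_congr e.toEquiv).trans S1619.result.2.2.2) (by norm_num)).elim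
  · exact (hlt (KFacts.HS.card h) (by norm_num)).elim
  · obtain ⟨e⟩ := h
    exact (hlt ((Nat.card_congr e.toEquiv).trans S1694.result.2) (by norm_num)).elim
  · obtain ⟨e⟩ := h
    exact (hlt ((Nat.card_congr e.toEquiv).trans S1627.result.2.1) (by norm_num)).elim
  · obtain ⟨e⟩ := h
    exact (Nat.card_congr e.toEquiv).trans R01.Fi22Facts.card
  · obtain ⟨e⟩ := h
    exfalso
    rw [Nat.card_congr e.toEquiv, S0399.result.2] at hN
    exact absurd hN (by norm_num)
  · obtain ⟨e⟩ := h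
    exfalso
    rw [Nat.card_congr e.toEquiv, BM.KHAll.card_B] at hN
    exact absurd hN (by norm_num)
  · obtain ⟨e⟩ := h
    exact (hlt ((Nat.card_congr e.toEquiv).trans SporadicA.MathieuRecog.card_M22) (by norm_num)).elim

end Cfsg.Agent.OddHalf.D8.Fi23

end

-- merged: Cfsg.Agent.OddHalf.D8.Fi23.Row
section

/-!
# ODD half, D8: the row of `Fi₂₃` (helper907; facts on `Fi₂₃`: helper8, helper286, helper840)
-/

set_option autoImplicit false

namespace Cfsg.Agent.OddHalf.D8.Fi23

open Subgroup Cfsg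

universe u

theorem kdata : KData Spor.Fi23 where
  card := Cfsg.Agent.Fischer.Fi23Simple.card_Fi23
  inn := Cfsg.Agent.KFacts.FiTTh.Has.inn
  sheet := by
    obtain ⟨S, h⟩ := Cfsg.Agent.KFacts.FiTTh.Has.sheet
    refine ⟨_, S, _, h, ?_⟩
    show Nat.card ↥(centralizer ({Cfsg.Agent.KFacts.FiTTh.BasFi.e
      (some (Cfsg.Agent.KFacts.FiTTh.Has.s 0))} : Set Spor.Fi23)) = _
    rw [Cfsg.Agent.KFacts.FiTTh.Has.s0, Cfsg.Agent.KFacts.FiTTh.BasFi.e_z,
      ← Cfsg.Agent.KFacts.FiTTh.Cent.K_eq, Cfsg.Agent.KFacts.FiTTh.Cent.card_K]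

/-- **the row `K = Fi₂₃`** from the multiplier facts -/
theorem row (M : D9.Cut.Mult.{u}) : Rows.Row.{u} (fun K _ => Spor.IsoFi23 K) :=
  row_of M sporOrd kdata

end Cfsg.Agent.OddHalf.D8.Fi23

end
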