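import Cfsg.Agent.OddHalf.Orders.PSL
import Mathlib
import Cfsg.Agent.S0280
import Cfsg.Agent.S0292
import Cfsg.Agent.S0293
import Cfsg.Agent.S0294
import Cfsg.Agent.OddHalf.Orders.PSpFi23
import Cfsg.Agent.OddHalf.Orders.ExcFi23
import Cfsg.Prelude.Def_Classification2
import Cfsg.Agent.OddHalf.Orders.Quo
import Cfsg.Agent.OddHalf.D8.Fi22.OrdEven
import Cfsg.Agent.OddHalf.D8.Fi23.Loc

-- merged: Cfsg.Agent.OddHalf.Orders.PSLFi23
section

/-!
# Order engine: `PSL_n(q)`, instance `(|Fi₂₂|, |Fi₂₃| / 2)` (helper907)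
-/

set_option autoImplicit false

namespace Cfsg.Agent.OddHalf.Orders

open Cfsg

theorem psl_box {n q c Q : ℕ} (hq : 2 ≤ q) (hn : 2 ≤ n) (h : glDen n q * c = gl n q)
    (h0 : 64561751654400 ∣ c) (hN : c ≤ 2044735236646502400)
    (hQ : n * 2044735236646502400 < Q ^ ((n - 1) * n - 1))
    (hall : allEx 64561751654400 2044735236646502400 (gl n) (glDen n) Q = true) : False :=
  no hall hq (lt_of_pow (bound_psl hq hn h) hN hQ) h h0 hN

theorem chk3 : allEx 64561751654400 2044735236646502400 (gl 3) (glDen 3) 5750 = true := by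
  decide +kernel

theorem chk4 : allEx 64561751654400 2044735236646502400 (gl 4) (glDen 4) 60 = true := by
  decide +kernel

theorem chk5 : allEx 64561751654400 2044735236646502400 (gl 5) (glDen 5) 12 = true := by
  decide +kernel

theorem chk6 : allEx 64561751654400 2044735236646502400 (gl 6) (glDen 6) 6 = true := by
  decide +kernel

theorem chk7 : allEx 64561751654400 2044735236646502400 (gl 7) (glDen 7) 4 = true := by
  decide +kernel

theorem chk8 : allEx 64561751654400 2044735236646502400 (gl 8) (glDen 8) 3 = true := by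
  decide +kernel

theorem two_pow_lt {n : ℕ} (hn : 9 ≤ n) : n * 2044735236646502400 < 2 ^ ((n - 1) * n - 1) := by
  have h1 : n < 2 ^ n := Nat.lt_two_pow_self
  have h2 : 2044735236646502400 < 2 ^ 61 := by norm_num
  have h3 : n + 61 ≤ (n - 1) * n - 1 := by
    obtain ⟨m, rfl⟩ := Nat.exists_eq_add_of_le hn
    have : (9 + m - 1) * (9 + m) = 72 + 17 * m + m * m := by
      have : 9 + m - 1 = 8 + m := by omega
      rw [this]; ring
    rw [this]
    have : 0 ≤ m * m := Nat.zero_le _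
    omega
  calc n * 2044735236646502400 < 2 ^ n * 2 ^ 61 := Nat.mul_lt_mul'' h1 h2
    _ = 2 ^ (n + 61) := (pow_add _ _ _).symm
    _ ≤ 2 ^ ((n - 1) * n - 1) := Nat.pow_le_pow_right (by norm_num) h3

theorem psl_three {q n c : ℕ} (hq : 2 ≤ q) (hn : 3 ≤ n) (h : glDen n q * c = gl n q)
    (h0 : 64561751654400 ∣ c) (hN : c ≤ 2044735236646502400) : False := by
  by_cases h9 : 9 ≤ n
  · have h1 := lt_of_pow (bound_psl hq (by omega) h) hN (two_pow_lt h9)
    omega
  · have : n = 3 ∨ n = 4 ∨ n = 5 ∨ n = 6 ∨ n = 7 ∨ n = 8 := by omega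
    rcases this with rfl | rfl | rfl | rfl | rfl | rfl
    · exact psl_box hq (by norm_num) h h0 hN (by norm_num) chk3
    · exact psl_box hq (by norm_num) h h0 hN (by norm_num) chk4
    · exact psl_box hq (by norm_num) h h0 hN (by norm_num) chk5
    · exact psl_box hq (by norm_num) h h0 hN (by norm_num) chk6
    · exact psl_box hq (by norm_num) h h0 hN (by norm_num) chk7
    · exact psl_box hq (by norm_num) h h0 hN (by norm_num) chk8

/-! ### `PSL_2(q)` -/

theorem gl_two {q c : ℕ} (hq : 2 ≤ q) (h : glDen 2 q * c = gl 2 q) :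
    Nat.gcd 2 (q - 1) * c = q * ((q - 1) * (q + 1)) := by
  obtain ⟨m, rfl⟩ := Nat.exists_eq_add_of_le hq
  have h1 : gl 2 (2 + m) = (m + 1) * ((2 + m) * ((m + 1) * (m + 3))) := by
    have e : gl 2 (2 + m) = ((2 + m) ^ 2 - 1) * ((2 + m) ^ 2 - (2 + m)) := by
      simp [gl, List.range_succ]
    have e1 : (2 + m) ^ 2 - 1 = (m + 1) * (m + 3) := by
      have : (2 + m) ^ 2 = (m + 1) * (m + 3) + 1 := by ring
      omega
    have e2 : (2 + m) ^ 2 - (2 + m) = (m + 1) * (2 + m) := by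
      have : (2 + m) ^ 2 = (m + 1) * (2 + m) + (2 + m) := by ring
      omega
    rw [e, e1, e2]; ring
  have h2 : glDen 2 (2 + m) = Nat.gcd 2 (2 + m - 1) * (m + 1) := by
    unfold glDen
    have : 2 + m - 1 = m + 1 := by omega
    rw [this]
  rw [h1, h2] at h
  have h3 : (m + 1) * (Nat.gcd 2 (2 + m - 1) * c) = (m + 1) * ((2 + m) * ((m + 1) * (m + 3))) := by
    rw [← h]; ring
  have h4 := Nat.eq_of_mul_eq_mul_left (by omega) h3
  rw [h4]
  have : 2 + m - 1 = m + 1 := by omega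
  rw [this, show 2 + m + 1 = m + 3 by omega]

theorem lt_two {q c : ℕ} (hq : 2 ≤ q) (h : glDen 2 q * c = gl 2 q)
    (hN : c ≤ 2044735236646502400) : q < 1600001 := by
  have h1 := gl_two hq h
  have h2 : Nat.gcd 2 (q - 1) ≤ 2 := Nat.gcd_le_left _ (by norm_num)
  have h3 : q * ((q - 1) * (q + 1)) ≤ 4089470473293004800 := by
    rw [← h1]
    calc Nat.gcd 2 (q - 1) * c ≤ 2 * 2044735236646502400 := Nat.mul_le_mul h2 hN
      _ = 4089470473293004800 := by norm_num
  by_contra hlt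
  push Not at hlt
  have h4 : 1600001 * (1600000 * 1600002) ≤ q * ((q - 1) * (q + 1)) :=
    Nat.mul_le_mul hlt (Nat.mul_le_mul (by omega) (by omega))
  have h5 : 4089470473293004800 < 1600001 * (1600000 * 1600002) := by norm_num
  omega

theorem chkE : ((List.range 22).all fun k => ex 64561751654400 2044735236646502400
    (fun k => gl 2 (2 ^ (k + 1))) (fun k => glDen 2 (2 ^ (k + 1))) k) = true := by
  decide +kernel

theorem chkP : ((List.range 13).all fun k => ex 64561751654400 2044735236646502400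
    (fun k => gl 2 (131072 * (k + 1) + 1)) (fun k => glDen 2 (131072 * (k + 1) + 1)) k) = true := by
  decide +kernel

theorem chkM : ((List.range 13).all fun k => ex 64561751654400 2044735236646502400
    (fun k => gl 2 (131072 * (k + 1) - 1)) (fun k => glDen 2 (131072 * (k + 1) - 1)) k) = true := by
  decide +kernel

theorem no' {n0 N : ℕ} {f den : ℕ → ℕ} {Q k c : ℕ}
    (hall : ((List.range Q).all fun k => ex n0 N f den k) = true)
    (hQ : k < Q) (h : den k * c = f k) (h0 : n0 ∣ c) (hN : c ≤ N) : False := by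
  rw [List.all_eq_true] at hall
  have h1 := hall k (List.mem_range.2 hQ)
  rw [ex_eq_false h h0 hN] at h1
  exact absurd h1 (by decide)

theorem psl_two {q c : ℕ} (hq : 2 ≤ q) (hpp : Even q → ∃ k, q = 2 ^ k) (h : glDen 2 q * c = gl 2 q)
    (h0 : 64561751654400 ∣ c) (hN : c ≤ 2044735236646502400) : False := by
  have hlt := lt_two hq h hN
  rcases Nat.even_or_odd q with he | ho
  · obtain ⟨k, rfl⟩ := hpp he
    have hk0 : k ≠ 0 := by
      rintro rfl
      omega
    obtain ⟨j, rfl⟩ := Nat.exists_eq_succ_of_ne_zero hk0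
    have hj : j < 22 := by
      by_contra hj
      push Not at hj
      have h1 : 2 ^ 22 ≤ 2 ^ j.succ := Nat.pow_le_pow_right (by norm_num) (by omega)
      have h2 : (2 : ℕ) ^ 22 = 4194304 := by norm_num
      omega
    exact no' chkE hj h h0 hN
  · have h1 := gl_two hq h
    have h2 : Nat.gcd 2 (q - 1) = 2 := by
      apply Nat.gcd_eq_left
      obtain ⟨m, rfl⟩ := ho
      exact ⟨m, by omega⟩
    rw [h2] at h1
    obtain ⟨m, rfl⟩ := ho
    have h3 : c = (2 * m + 1) * (2 * (m * (m + 1))) := by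
      have e1 : 2 * m + 1 - 1 = 2 * m := by omega
      rw [e1] at h1
      have : 2 * c = 2 * ((2 * m + 1) * (2 * (m * (m + 1)))) := by rw [h1]; ring
      exact Nat.eq_of_mul_eq_mul_left (by norm_num) this
    have h4 : 2 ^ 17 ∣ (2 * m + 1) * (2 * (m * (m + 1))) := by
      rw [← h3]; exact (by norm_num : 2 ^ 17 ∣ 64561751654400).trans h0
    have h5 : 2 ^ 17 ∣ 2 * (m * (m + 1)) := by
      apply Nat.Coprime.dvd_of_dvd_mul_left _ h4
      apply Nat.Coprime.pow_left
      rw [Nat.coprime_two_left]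
      exact ⟨m, rfl⟩
    have h6 : 2 ^ 16 ∣ m * (m + 1) := by
      have : 2 * 2 ^ 16 ∣ 2 * (m * (m + 1)) := by
        have e : 2 * 2 ^ 16 = 2 ^ 17 := by norm_num
        rw [e]; exact h5
      exact Nat.dvd_of_mul_dvd_mul_left (by norm_num) this
    have h7 : 2 ^ 16 ∣ m ∨ 2 ^ 16 ∣ m + 1 := by
      rcases Nat.even_or_odd m with he | ho
      · left
        apply Nat.Coprime.dvd_of_dvd_mul_right _ h6
        apply Nat.Coprime.pow_left
        rw [Nat.coprime_two_left]
        exact he.add_one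
      · right
        apply Nat.Coprime.dvd_of_dvd_mul_left _ h6
        apply Nat.Coprime.pow_left
        rw [Nat.coprime_two_left]
        exact ho
    rcases h7 with ⟨k, rfl⟩ | ⟨k, hk⟩
    · have hk0 : k ≠ 0 := by
        rintro rfl
        omega
      obtain ⟨j, rfl⟩ := Nat.exists_eq_succ_of_ne_zero hk0
      have e : 2 * (2 ^ 16 * j.succ) + 1 = 131072 * (j + 1) + 1 := by
        rw [Nat.succ_eq_add_one]; ring
      rw [e] at h
      exact no' chkP (by omega) h h0 hN
    · have hk0 : k ≠ 0 := by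
        rintro rfl
        omega
      obtain ⟨j, rfl⟩ := Nat.exists_eq_succ_of_ne_zero hk0
      have e : 2 * m + 1 = 131072 * (j + 1) - 1 := by
        rw [Nat.succ_eq_add_one] at hk
        omega
      rw [e] at h
      exact no' chkM (by omega) h h0 hN

theorem psl_fi23 {X : Type*} [Group X] (hX : IsPSL X) (h0 : 64561751654400 ∣ Nat.card X)
    (hN : Nat.card X ≤ 2044735236646502400) : False := by
  obtain ⟨F, _, _, n, hn, h4, ⟨e⟩⟩ := hX
  have h := card_psl (F := F) n hn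
  rw [← Nat.card_congr e.toEquiv] at h
  have hq : 2 ≤ Fintype.card F := Fintype.one_lt_card
  by_cases h2 : n = 2
  · subst h2
    refine psl_two hq (fun he => ?_) h h0 hN
    obtain ⟨p, hp⟩ := CharP.exists F
    obtain ⟨k, hp', hk⟩ := FiniteField.card F p
    have h2 : 2 ∣ p := by
      have : 2 ∣ p ^ (k : ℕ) := by rw [← hk]; exact he.two_dvd
      exact Nat.prime_two.dvd_of_dvd_pow this
    have : p = 2 := ((Nat.prime_dvd_prime_iff_eq Nat.prime_two hp').1 h2).symm
    exact ⟨k, by rw [hk, this]⟩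
  · exact psl_three hq (by omega) h h0 hN

end Cfsg.Agent.OddHalf.Orders

end

-- merged: Cfsg.Agent.OddHalf.Orders.Box
section

/-!
# Order engine: boxes for two-parameter families (helper286)

A family has groups of order `c` with `den n q * c = f n q`; `core`: if `n0 ∣ c ≤ N` then `(n, q)` is in the list `E`
of survivors, by a kernel computation over a finite box.
-/

set_option autoImplicit false

namespace Cfsg.Agent.OddHalf.Orders.Box

/-- the check of one pair -/
def ok (n0 N num den : ℕ) : Bool := num % (n0 * den) != 0 || Nat.blt (N * den) num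

/-- the check of one value of `n`, all `q < Q` -/
def row (n0 N : ℕ) (E : List (ℕ × ℕ)) (f den : ℕ → ℕ → ℕ) (e D : ℕ → ℕ) (n Q : ℕ) : Bool :=
  Nat.blt (D n * N) (Q ^ e n) &&
    (List.range Q).all fun q => Nat.blt q 2 || decide ((n, q) ∈ E) || ok n0 N (f n q) (den n q)

/-- the check of the box -/
def box (n0 N : ℕ) (E : List (ℕ × ℕ)) (f den : ℕ → ℕ → ℕ) (e D : ℕ → ℕ) (lo : ℕ) (Qs : List ℕ) : Bool :=
  (List.range Qs.length).all fun i => row n0 N E f den e D (lo + i) (Qs.getD i 0)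

theorem ok_false {n0 N c num den : ℕ} (h : den * c = num) (h0 : n0 ∣ c) (hN : c ≤ N) (hok : ok n0 N num den = true) :
    False := by
  rw [ok, Bool.or_eq_true, bne_iff_ne, Nat.blt_eq] at hok
  rcases hok with h1 | h1
  · apply h1
    obtain ⟨k, rfl⟩ := h0
    rw [← h, show den * (n0 * k) = n0 * den * k by ring]
    exact Nat.mul_mod_right _ _
  · rw [← h, Nat.mul_comm N den] at h1
    exact absurd (Nat.mul_le_mul_left den hN) (not_le.2 h1)

theorem core {n0 N c n q lo : ℕ} {E : List (ℕ × ℕ)} {f den : ℕ → ℕ → ℕ} {e D : ℕ → ℕ} {Qs : List ℕ}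
    (hbox : box n0 N E f den e D lo Qs = true) (hlo : lo ≤ n) (hq : 2 ≤ q) (hc : den n q * c = f n q)
    (hlow : q ^ e n ≤ D n * c) (hbig : ∀ n, lo + Qs.length ≤ n → D n * N < 2 ^ e n)
    (h0 : n0 ∣ c) (hN : c ≤ N) : (n, q) ∈ E := by
  have h1 : q ^ e n ≤ D n * N := hlow.trans (Nat.mul_le_mul_left _ hN)
  have h2 : n < lo + Qs.length := by
    by_contra hcon
    exact absurd (h1.trans_lt (hbig n (not_lt.1 hcon))) (not_lt.2 (Nat.pow_le_pow_left hq _))
  rw [box, List.all_eq_true] at hbox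
  have h3 := hbox (n - lo) (List.mem_range.2 (by omega))
  rw [show lo + (n - lo) = n by omega, row, Bool.and_eq_true, Nat.blt_eq, List.all_eq_true] at h3
  obtain ⟨h4, h5⟩ := h3
  have h6 : q < Qs.getD (n - lo) 0 := by
    by_contra hcon
    exact absurd (Nat.pow_le_pow_left (not_lt.1 hcon) (e n)) (not_le.2 (h1.trans_lt h4))
  have h7 := h5 q (List.mem_range.2 h6)
  rw [Bool.or_eq_true, Bool.or_eq_true, Nat.blt_eq, decide_eq_true_iff] at h7
  rcases h7 with (h7 | h7) | h7
  · omega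
  · exact h7
  · exact (ok_false hc h0 hN h7).elim

/-- constant denominators bound -/
theorem big_of_mono {N D m0 : ℕ} {e : ℕ → ℕ} (he : Monotone e) (h : D * N < 2 ^ e m0) :
    ∀ n, m0 ≤ n → D * N < 2 ^ e n := fun _ hn =>
  h.trans_le (Nat.pow_le_pow_right (by norm_num) (he hn))

end Cfsg.Agent.OddHalf.Orders.Box

end

-- merged: Cfsg.Agent.OddHalf.Orders.PSU
section

/-!
# Order engine: the unitary groups (helper286)
-/

set_option autoImplicit false

namespace Cfsg.Agent.OddHalf.Orders.PSU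

open Cfsg Cfsg.Agent.OddHalf.Orders.Box

/-- the product -/
def pr (q : ℕ) : ℕ → ℕ
  | 0 => 1
  | i + 1 => pr q i * (if Nat.beq (i % 2) 0 then q ^ (i + 1) + 1 else q ^ (i + 1) - 1)

theorem pr_eq (q n : ℕ) :
    ∏ i ∈ Finset.range n, (if Even i then q ^ (i + 1) + 1 else q ^ (i + 1) - 1) = pr q n := by
  induction n with
  | zero => rfl
  | succ n ih =>
    rw [Finset.prod_range_succ, ih, pr]
    congr 1
    by_cases h : Even n
    · rw [if_pos h, if_pos]
      rw [Nat.beq_eq]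
      exact Nat.even_iff.1 h
    · rw [if_neg h, if_neg]
      rw [Nat.beq_eq, ← Nat.even_iff]
      exact h

/-- numerator of the order -/
def f (n q : ℕ) : ℕ := q ^ (n * (n - 1) / 2) * pr q n

/-- denominator of the order -/
def den (n q : ℕ) : ℕ := Nat.gcd n (q + 1) * (q + 1)

/-- exponent of the lower bound -/
def e (n : ℕ) : ℕ := n * (n - 1)

theorem le_pr {q : ℕ} (hq : 2 ≤ q) : ∀ n : ℕ, (q + 1) * q ^ (n * (n + 1) / 2) ≤ pr q (n + 1)
  | 0 => by simp [pr]
  | n + 1 => by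
    have ih := le_pr hq n
    rw [pr]
    have h1 : (n + 1) * (n + 1 + 1) / 2 = n * (n + 1) / 2 + (n + 1) := by
      have : (n + 1) * (n + 1 + 1) = n * (n + 1) + (n + 1) * 2 := by ring
      rw [this, Nat.add_mul_div_right _ _ (by norm_num)]
    rw [h1, pow_add, ← mul_assoc]
    apply Nat.mul_le_mul ih
    have h2 : q ^ (n + 1) + 1 ≤ q ^ (n + 1 + 1) := by
      rw [pow_succ q (n + 1)]
      have : 1 ≤ q ^ (n + 1) := Nat.one_le_pow _ _ (by omega)
      nlinarith
    split_ifs <;> omega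

theorem low {q c n : ℕ} (hq : 2 ≤ q) (hn : 2 ≤ n) (hc : den n q * c = f n q) : q ^ e n ≤ n * c := by
  obtain ⟨m, rfl⟩ : ∃ m, n = m + 1 := ⟨n - 1, by omega⟩
  have h1 := le_pr hq m
  have h2 : (q + 1) * q ^ e (m + 1) ≤ f (m + 1) q := by
    rw [f, e]
    have h3 : (m + 1) * (m + 1 - 1) = (m + 1) * (m + 1 - 1) / 2 + m * (m + 1) / 2 := by
      rw [Nat.add_sub_cancel, mul_comm (m + 1) m, ← two_mul]
      exact (Nat.two_mul_div_two_of_even (Nat.even_mul_succ_self m)).symm
    rw [h3, pow_add]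
    calc (q + 1) * (q ^ ((m + 1) * (m + 1 - 1) / 2) * q ^ (m * (m + 1) / 2))
        = q ^ ((m + 1) * (m + 1 - 1) / 2) * ((q + 1) * q ^ (m * (m + 1) / 2)) := by ring
      _ ≤ _ := by
        rw [← h3]
        exact Nat.mul_le_mul_left _ h1
  rw [← hc, den] at h2
  have h3 : Nat.gcd (m + 1) (q + 1) ≤ m + 1 := Nat.gcd_le_left _ (by omega)
  have h4 : (q + 1) * q ^ e (m + 1) ≤ (q + 1) * ((m + 1) * c) :=
    h2.trans (by
      rw [mul_comm (Nat.gcd _ _) (q + 1), mul_assoc]
      exact Nat.mul_le_mul_left _ (Nat.mul_le_mul_right _ h3))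
  exact Nat.le_of_mul_le_mul_left h4 (by omega)

theorem big {N m : ℕ} (h : N < 2 ^ (m * m)) (n : ℕ) (hn : m + 1 ≤ n) : n * N < 2 ^ e n := by
  have h1 : n ≤ 2 ^ (n - 1) := by
    have := Nat.lt_two_pow_self (n := n - 1)
    omega
  calc n * N < n * 2 ^ (m * m) := Nat.mul_lt_mul_of_pos_left h (by omega)
    _ ≤ 2 ^ (n - 1) * 2 ^ (m * m) := Nat.mul_le_mul_right _ h1
    _ = 2 ^ (n - 1 + m * m) := (pow_add _ _ _).symm
    _ ≤ 2 ^ e n := by
      apply Nat.pow_le_pow_right (by norm_num)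
      rw [e]
      obtain ⟨k, rfl⟩ : ∃ k, n = m + 1 + k := ⟨n - (m + 1), by omega⟩
      rw [show m + 1 + k - 1 = m + k by omega]
      nlinarith

/-- **the unitary groups** with `n0 ∣ |X| ≤ N`: only the survivors `E` -/
theorem psu {n0 N : ℕ} {E : List (ℕ × ℕ)} {Qs : List ℕ} (hbox : box n0 N E f den e id 3 Qs = true)
    (hN2 : N < 2 ^ ((2 + Qs.length) * (2 + Qs.length))) {X : Type*} [Group X] (h : IsPSU X)
    (h0 : n0 ∣ Nat.card X) (hN : Nat.card X ≤ N) :
    ∃ (F : Type) (_ : Field F) (_ : Fintype F) (n q : ℕ), (n, q) ∈ E ∧ Fintype.card F = q ^ 2 ∧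
      Nonempty (X ≃* PSU n F q) := by
  obtain ⟨F, i1, i2, n, q, hF, hn, -, ⟨g⟩⟩ := h
  have hq : 2 ≤ q := by
    have h1 : 1 < q ^ 2 := hF ▸ Fintype.one_lt_card
    by_contra hcon
    interval_cases q <;> norm_num at h1
  rw [Nat.card_congr g.toEquiv] at h0 hN
  refine ⟨F, i1, i2, n, q, ?_, hF, ⟨g⟩⟩
  have hc : den n q * Nat.card (PSU n F q) = f n q := by
    rw [den, f, mul_assoc, ← pr_eq]
    exact S0280.result hF n (by omega)
  exact core hbox hn hq hc (low hq (by omega) hc) (fun k hk => big hN2 k (by omega)) h0 hN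

end Cfsg.Agent.OddHalf.Orders.PSU

end

-- merged: Cfsg.Agent.OddHalf.Orders.POmega
section

/-!
# Order engine: the orthogonal groups (helper286)
-/

set_option autoImplicit false

namespace Cfsg.Agent.OddHalf.Orders.POmega

open Cfsg Cfsg.Agent.OddHalf.Orders.Box

/-- the product -/
def pr (q : ℕ) : ℕ → ℕ
  | 0 => 1
  | i + 1 => pr q i * (q ^ (2 * (i + 1)) - 1)

theorem pr_eq (q n : ℕ) : ∏ i ∈ Finset.range n, (q ^ (2 * (i + 1)) - 1) = pr q n := by
  induction n with
  | zero => rfl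
  | succ n ih => rw [Finset.prod_range_succ, ih, pr]

theorem pow_le {q : ℕ} (hq : 2 ≤ q) (k : ℕ) : q ^ k ≤ q ^ (k + 1) - 1 := by
  have h1 : 1 ≤ q ^ k := Nat.one_le_pow _ _ (by omega)
  have h2 : q ^ k + 1 ≤ q ^ (k + 1) := by
    rw [pow_succ]
    nlinarith
  omega

theorem le_pr {q : ℕ} (hq : 2 ≤ q) : ∀ n : ℕ, q ^ (n * n) ≤ pr q n
  | 0 => by simp [pr]
  | n + 1 => by
    have ih := le_pr hq n
    rw [pr, show (n + 1) * (n + 1) = n * n + (2 * n + 1) by ring, pow_add]
    exact Nat.mul_le_mul ih (pow_le hq (2 * n + 1))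

/-! ### Odd dimension -/

/-- numerator of the order -/
def fO (m q : ℕ) : ℕ := q ^ (m ^ 2) * pr q m

/-- exponent of the lower bound -/
def eO (m : ℕ) : ℕ := 2 * (m * m)

theorem lowO {q c m : ℕ} (hq : 2 ≤ q) (hc : 2 * c = fO m q) : q ^ eO m ≤ 2 * c := by
  rw [hc, fO, eO, two_mul, pow_add, pow_two m]
  exact Nat.mul_le_mul_left _ (le_pr hq m)

theorem eO_mono : Monotone eO := fun a b h => Nat.mul_le_mul_left _ (Nat.mul_le_mul h h)

/-- **the orthogonal groups of odd dimension** with `n0 ∣ |X| ≤ N`: only the survivors `E` -/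
theorem odd {n0 N : ℕ} {E : List (ℕ × ℕ)} {Qs : List ℕ}
    (hbox : box n0 N E fO (fun _ _ => 2) eO (fun _ => 2) 3 Qs = true)
    (hN2 : 2 * N < 2 ^ eO (3 + Qs.length)) {X : Type*} [Group X] (h : IsPOmegaOdd X)
    (h0 : n0 ∣ Nat.card X) (hN : Nat.card X ≤ N) :
    ∃ (F : Type) (_ : Field F) (_ : Fintype F) (m : ℕ), (m, Fintype.card F) ∈ E ∧ Odd (Fintype.card F) ∧
      Nonempty (X ≃* POmega F (quadFormOdd m F)) := by
  obtain ⟨F, i1, i2, m, hm, hodd, ⟨g⟩⟩ := h
  have hq : 2 ≤ Fintype.card F := Fintype.one_lt_card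
  rw [Nat.card_congr g.toEquiv] at h0 hN
  refine ⟨F, i1, i2, m, ?_, hodd, ⟨g⟩⟩
  have hc : 2 * Nat.card (POmega F (quadFormOdd m F)) = fO m (Fintype.card F) := by
    rw [fO, ← pr_eq]
    exact S0292.result rfl hodd m hm
  exact core (D := fun _ => 2) (den := fun _ _ => 2) hbox hm hq hc (lowO hq hc)
    (big_of_mono (D := 2) eO_mono hN2) h0 hN

/-! ### Even dimension -/

/-- exponent of the lower bound -/
def eP (m : ℕ) : ℕ := 2 * (m * (m - 1))

theorem eP_mono : Monotone eP := fun a b h =>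
  Nat.mul_le_mul_left _ (Nat.mul_le_mul h (Nat.sub_le_sub_right h 1))

/-- numerator of the order, plus type -/
def fP (m q : ℕ) : ℕ := q ^ (m * (m - 1)) * (q ^ m - 1) * pr q (m - 1)

/-- denominator of the order, plus type -/
def dP (m q : ℕ) : ℕ := Nat.gcd 4 (q ^ m - 1)

/-- numerator of the order, minus type -/
def fM (m q : ℕ) : ℕ := q ^ (m * (m - 1)) * (q ^ m + 1) * pr q (m - 1)

/-- denominator of the order, minus type -/
def dM (m q : ℕ) : ℕ := Nat.gcd 4 (q ^ m + 1)

theorem low_aux {q m a : ℕ} (hq : 2 ≤ q) (hm : 1 ≤ m) (ha : q ^ (m - 1) ≤ a) :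
    q ^ eP m ≤ q ^ (m * (m - 1)) * a * pr q (m - 1) := by
  obtain ⟨k, rfl⟩ : ∃ k, m = k + 1 := ⟨m - 1, by omega⟩
  rw [Nat.add_sub_cancel] at *
  calc q ^ eP (k + 1) = q ^ ((k + 1) * k) * q ^ k * q ^ (k * k) := by
        rw [← pow_add, ← pow_add, eP, Nat.add_sub_cancel]
        congr 1
        ring
    _ ≤ _ := Nat.mul_le_mul (Nat.mul_le_mul_left _ ha) (le_pr hq k)

theorem lowP {q c m : ℕ} (hq : 2 ≤ q) (hm : 1 ≤ m) (hc : dP m q * c = fP m q) : q ^ eP m ≤ 4 * c := by
  have h1 : q ^ eP m ≤ dP m q * c := by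
    rw [hc]
    refine low_aux hq hm ?_
    have := pow_le hq (m - 1)
    rwa [show m - 1 + 1 = m by omega] at this
  exact h1.trans (Nat.mul_le_mul_right _ (Nat.gcd_le_left _ (by norm_num)))

theorem lowM {q c m : ℕ} (hq : 2 ≤ q) (hm : 1 ≤ m) (hc : dM m q * c = fM m q) : q ^ eP m ≤ 4 * c := by
  have h1 : q ^ eP m ≤ dM m q * c := by
    rw [hc]
    refine low_aux hq hm ?_
    exact (Nat.pow_le_pow_right (by omega) (Nat.sub_le m 1)).trans (Nat.le_succ _)
  exact h1.trans (Nat.mul_le_mul_right _ (Nat.gcd_le_left _ (by norm_num)))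

/-- **the orthogonal groups of plus type** with `n0 ∣ |X| ≤ N`: only the survivors `E` -/
theorem plus {n0 N : ℕ} {E : List (ℕ × ℕ)} {Qs : List ℕ} (hbox : box n0 N E fP dP eP (fun _ => 4) 4 Qs = true)
    (hN2 : 4 * N < 2 ^ eP (4 + Qs.length)) {X : Type*} [Group X] (h : IsPOmegaPlus X)
    (h0 : n0 ∣ Nat.card X) (hN : Nat.card X ≤ N) :
    ∃ (F : Type) (_ : Field F) (_ : Fintype F) (m : ℕ), (m, Fintype.card F) ∈ E ∧
      Nonempty (X ≃* POmega F (quadFormPlus m F)) := by
  obtain ⟨F, i1, i2, m, hm, ⟨g⟩⟩ := h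
  have hq : 2 ≤ Fintype.card F := Fintype.one_lt_card
  rw [Nat.card_congr g.toEquiv] at h0 hN
  refine ⟨F, i1, i2, m, ?_, ⟨g⟩⟩
  have hc : dP m (Fintype.card F) * Nat.card (POmega F (quadFormPlus m F)) = fP m (Fintype.card F) := by
    rw [dP, fP, ← pr_eq]
    exact S0293.result rfl m hm
  exact core (D := fun _ => 4) hbox hm hq hc (lowP hq (by omega) hc) (big_of_mono (D := 4) eP_mono hN2) h0 hN

/-- **the orthogonal groups of minus type** with `n0 ∣ |X| ≤ N`: only the survivors `E` -/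
theorem minus {n0 N : ℕ} {E : List (ℕ × ℕ)} {Qs : List ℕ} (hbox : box n0 N E fM dM eP (fun _ => 4) 4 Qs = true)
    (hN2 : 4 * N < 2 ^ eP (4 + Qs.length)) {X : Type*} [Group X] (h : IsPOmegaMinus X)
    (h0 : n0 ∣ Nat.card X) (hN : Nat.card X ≤ N) :
    ∃ (F : Type) (_ : Field F) (_ : Fintype F) (m : ℕ) (a b : F), (m, Fintype.card F) ∈ E ∧
      (∀ z₁ z₂ : F, z₁ ^ 2 + a * z₁ * z₂ + b * z₂ ^ 2 = 0 → z₁ = 0 ∧ z₂ = 0) ∧
      Nonempty (X ≃* POmega F (quadFormMinus (m - 1) F a b)) := by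
  obtain ⟨F, i1, i2, m, a, b, hm, hab, ⟨g⟩⟩ := h
  have hq : 2 ≤ Fintype.card F := Fintype.one_lt_card
  rw [Nat.card_congr g.toEquiv] at h0 hN
  refine ⟨F, i1, i2, m, a, b, ?_, hab, ⟨g⟩⟩
  have hc : dM m (Fintype.card F) * Nat.card (POmega F (quadFormMinus (m - 1) F a b)) = fM m (Fintype.card F) := by
    rw [dM, fM, ← pr_eq]
    exact S0294.result rfl m hm a b hab
  exact core (D := fun _ => 4) hbox hm hq hc (lowM hq (by omega) hc) (big_of_mono (D := 4) eP_mono hN2) h0 hN

end Cfsg.Agent.OddHalf.Orders.POmega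

end

-- merged: Cfsg.Agent.OddHalf.Orders.ClsInst
section

/-!
# Order engine: unitary and orthogonal groups, instances (helper286)

`(n0, N) = (|Fi22|, |Fi23|/2)` and `(|U6(2)|, |Fi22|/2)`.
-/

set_option autoImplicit false
set_option maxRecDepth 100000

namespace Cfsg.Agent.OddHalf.Orders.ClsInst

open Cfsg Cfsg.Agent.OddHalf.Orders.Box

/-! ### `|Fi22|` and `|Fi23| / 2` -/

theorem u_box23 : box 64561751654400 2044735236646502400 [] PSU.f PSU.den PSU.e id 3
    [1353, 38, 9, 5, 3, 3] = true := by decide +kernel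

theorem o_box23 : box 64561751654400 2044735236646502400 [] POmega.fO (fun _ _ => 2) POmega.eO (fun _ => 2) 3
    [11, 4, 3] = true := by decide +kernel

theorem p_box23 : box 64561751654400 2044735236646502400 [] POmega.fP POmega.dP POmega.eP (fun _ => 4) 4
    [7, 3, 3] = true := by decide +kernel

theorem m_box23 : box 64561751654400 2044735236646502400 [] POmega.fM POmega.dM POmega.eP (fun _ => 4) 4
    [7, 3, 3] = true := by decide +kernel

variable {X : Type*} [Group X]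

theorem psu_fi23 (h : IsPSU X) (h0 : 64561751654400 ∣ Nat.card X) (hN : Nat.card X ≤ 2044735236646502400) :
    False := by
  obtain ⟨F, _, _, n, q, h, -⟩ := PSU.psu u_box23 (by norm_num) h h0 hN
  exact absurd h (by simp)

theorem pomegaOdd_fi23 (h : IsPOmegaOdd X) (h0 : 64561751654400 ∣ Nat.card X)
    (hN : Nat.card X ≤ 2044735236646502400) : False := by
  obtain ⟨F, _, _, n, h, -⟩ := POmega.odd o_box23 (by norm_num [POmega.eO]) h h0 hN
  exact absurd h (by simp)

theorem pomegaPlus_fi23 (h : IsPOmegaPlus X) (h0 : 64561751654400 ∣ Nat.card X)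
    (hN : Nat.card X ≤ 2044735236646502400) : False := by
  obtain ⟨F, _, _, n, h, -⟩ := POmega.plus p_box23 (by norm_num [POmega.eP]) h h0 hN
  exact absurd h (by simp)

theorem pomegaMinus_fi23 (h : IsPOmegaMinus X) (h0 : 64561751654400 ∣ Nat.card X)
    (hN : Nat.card X ≤ 2044735236646502400) : False := by
  obtain ⟨F, _, _, n, a, b, h, -⟩ := POmega.minus m_box23 (by norm_num [POmega.eP]) h h0 hN
  exact absurd h (by simp)

/-! ### `|U6(2)|` and `|Fi22| / 2` -/

theorem u_box22 : box 9196830720 32280875827200 [(6, 2)] PSU.f PSU.den PSU.e id 3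
    [215, 15, 6, 3, 3] = true := by decide +kernel

theorem o_box22 : box 9196830720 32280875827200 [] POmega.fO (fun _ _ => 2) POmega.eO (fun _ => 2) 3
    [6, 3] = true := by decide +kernel

theorem p_box22 : box 9196830720 32280875827200 [] POmega.fP POmega.dP POmega.eP (fun _ => 4) 4
    [4, 3] = true := by decide +kernel

theorem m_box22 : box 9196830720 32280875827200 [(5, 2)] POmega.fM POmega.dM POmega.eP (fun _ => 4) 4
    [4, 3] = true := by decide +kernel

/-- only `U6(2)` itself -/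
theorem psu_fi22 (h : IsPSU X) (h0 : 9196830720 ∣ Nat.card X) (hN : Nat.card X ≤ 32280875827200) :
    ∃ (F : Type) (_ : Field F) (_ : Fintype F), Fintype.card F = 2 ^ 2 ∧ Nonempty (X ≃* PSU 6 F 2) := by
  obtain ⟨F, _, _, n, q, h, hF, hX⟩ := PSU.psu u_box22 (by norm_num) h h0 hN
  rw [List.mem_singleton, Prod.mk.injEq] at h
  obtain ⟨rfl, rfl⟩ := h
  exact ⟨F, _, _, hF, hX⟩

theorem pomegaOdd_fi22 (h : IsPOmegaOdd X) (h0 : 9196830720 ∣ Nat.card X) (hN : Nat.card X ≤ 32280875827200) :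
    False := by
  obtain ⟨F, _, _, n, h, -⟩ := POmega.odd o_box22 (by norm_num [POmega.eO]) h h0 hN
  exact absurd h (by simp)

theorem pomegaPlus_fi22 (h : IsPOmegaPlus X) (h0 : 9196830720 ∣ Nat.card X) (hN : Nat.card X ≤ 32280875827200) :
    False := by
  obtain ⟨F, _, _, n, h, -⟩ := POmega.plus p_box22 (by norm_num [POmega.eP]) h h0 hN
  exact absurd h (by simp)

/-- only `Ω₁₀⁻(2)` -/
theorem pomegaMinus_fi22 (h : IsPOmegaMinus X) (h0 : 9196830720 ∣ Nat.card X)
    (hN : Nat.card X ≤ 32280875827200) :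
    ∃ (F : Type) (_ : Field F) (_ : Fintype F) (a b : F), Fintype.card F = 2 ∧
      (∀ z₁ z₂ : F, z₁ ^ 2 + a * z₁ * z₂ + b * z₂ ^ 2 = 0 → z₁ = 0 ∧ z₂ = 0) ∧
      Nonempty (X ≃* POmega F (quadFormMinus 4 F a b)) := by
  obtain ⟨F, _, _, m, a, b, h, hab, hX⟩ := POmega.minus m_box22 (by norm_num [POmega.eP]) h h0 hN
  rw [List.mem_singleton, Prod.mk.injEq] at h
  obtain ⟨rfl, hF⟩ := h
  exact ⟨F, _, _, a, b, hF, hab, hX⟩

end Cfsg.Agent.OddHalf.Orders.ClsInst

end

-- merged: Cfsg.Agent.OddHalf.Orders.KnownFi23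
section

/-!
# Order engine: instance `(|Fi₂₂|, |Fi₂₃| / 2)` (helper907)

`spor_of_fi23`: a known simple group `X` with `|Fi₂₂| ∣ |X| ≤ |Fi₂₃| / 2` is sporadic.
-/

set_option autoImplicit false

namespace Cfsg.Agent.OddHalf.Orders

open Cfsg

universe u

variable {X : Type u} [Group X]

theorem tits_fi23 (h : Lie.IsoTits X) (h0 : 64561751654400 ∣ Nat.card X) : False := by
  obtain ⟨e⟩ := h
  have h1 := S1068.result (K := ZMod 2) (m := 0) (by rw [ZMod.card]; norm_num)
  have h2 : Nat.card ↥(Lie.twistedF4 (ZMod 2) 1) = 35942400 := by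
    rw [show (1 : ℕ) = 2 ^ 0 from rfl, h1]
    norm_num
  have hfin : Finite ↥(Lie.twistedF4 (ZMod 2) 1) := Nat.finite_of_card_ne_zero (by rw [h2]; norm_num)
  have h3 : Nat.card X ∣ 35942400 := by
    rw [Nat.card_congr e.toEquiv, ← h2]
    exact Subgroup.card_subgroup_dvd_card _
  exact absurd (h0.trans h3) (by norm_num)

theorem alt_nat_fi23 {n : ℕ} (h5 : 5 ≤ n) (h0 : 64561751654400 ∣ n.factorial / 2)
    (hN : n.factorial / 2 ≤ 2044735236646502400) : False := by
  rcases Nat.lt_or_ge n 21 with hn | hn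
  · interval_cases n <;> revert h0 <;> decide
  · have h1 : (21).factorial ≤ n.factorial := Nat.factorial_le hn
    have h2 : (21).factorial / 2 ≤ n.factorial / 2 := Nat.div_le_div_right h1
    have h3 : 2044735236646502400 < (21).factorial / 2 := by decide
    omega

/-- alternating groups -/
theorem alt_fi23 (h : IsAlternating X) (h0 : 64561751654400 ∣ Nat.card X)
    (hN : Nat.card X ≤ 2044735236646502400) : False := by
  obtain ⟨n, hn, ⟨e⟩⟩ := h
  have : Nontrivial (Fin n) := ⟨⟨0, by omega⟩, ⟨1, by omega⟩, by simp⟩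
  have h1 := Nat.card_congr e.toEquiv
  rw [nat_card_alternatingGroup, Nat.card_fin] at h1
  rw [h1] at h0 hN
  exact alt_nat_fi23 hn h0 hN

/-- **only sporadic groups** -/
theorem spor_of_fi23 (h : IsKnownSimple' X) (hna : ¬ IsMulCommutative X) (h0 : 64561751654400 ∣ Nat.card X)
    (hN : Nat.card X ≤ 2044735236646502400) : IsSporadicGroup X := by
  rcases h with h | h | h | h | h | h | h | h | h | h
  · exfalso
    apply hna
    have h1 : Fact (Nat.card X).Prime := ⟨h⟩
    have h2 : IsCyclic X := isCyclic_of_prime_card (p := Nat.card X) rfl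
    infer_instance
  · exact (alt_fi23 h h0 hN).elim
  · exact (psl_fi23 h h0 hN).elim
  · exact (psp_fi23 h h0 hN).elim
  · exact (ClsInst.psu_fi23 h h0 hN).elim
  · exact (ClsInst.pomegaOdd_fi23 h h0 hN).elim
  · exact (ClsInst.pomegaPlus_fi23 h h0 hN).elim
  · exact (ClsInst.pomegaMinus_fi23 h h0 hN).elim
  · rcases h with h | h | h | h | h | h | h | h | h | h | h
    · exact (g2_fi23 h h0 hN).elim
    · exact (f4_fi23 h h0 hN).elim
    · exact (e6_fi23 h hN).elim
    · exact (e7_fi23 h hN).elim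
    · exact (e8_fi23 h hN).elim
    · exact (e26_fi23 h hN).elim
    · exact (d4_fi23 h h0 hN).elim
    · exact (sz_fi23 h h0 hN).elim
    · exact (ree_fi23 h h0 hN).elim
    · exact (f42_fi23 h h0 hN).elim
    · exact (tits_fi23 h h0).elim
  · exact h

end Cfsg.Agent.OddHalf.Orders

end

-- merged: Cfsg.Agent.OddHalf.D8.Fi23.Pump
section

/-!
# ODD half, D8, row `K = Fi₂₃` (helper907): the pump-up of `2.Fi₂₂` by orders
-/

set_option autoImplicit false

namespace Cfsg.Agent.OddHalf.D8.Fi23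

open scoped commutatorElement
open Subgroup Cfsg Cfsg.Agent.OddHalf.Iface Cfsg.Agent.OddHalf.D9.Cut

universe u

/-- the orders of the sporadic groups with even multiplier: only `Fi₂₂` -/
def SporOrd : Prop := ∀ (X : Type u) [Group X], (Spor.IsoM12 X ∨ Spor.IsoJ2 X ∨
  Spor.IsoHS X ∨ Spor.IsoSuz X ∨ Spor.IsoRu X ∨ Spor.IsoFi22 X ∨ Spor.IsoCo1 X ∨ Spor.IsoB X ∨ Spor.IsoM22 X) →
    64561751654400 ∣ Nat.card X → Nat.card X ≤ 2044735236646502400 → Nat.card X = 64561751654400

theorem exc2_fi23 (O : SporOrd.{u}) {X : Type u} [Group X] (h : Exc2 X) (h0 : 64561751654400 ∣ Nat.card X)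
    (hp : 0 < Nat.card X) (hN : Nat.card X ≤ 2044735236646502400) : Nat.card X = 64561751654400 := by
  have hlt : ∀ {c : ℕ}, Nat.card X = c → c < 64561751654400 → False := by
    intro c h1 h2
    have := Nat.le_of_dvd hp h0
    omega
  rcases h with h | h | h | h | h | h | h | h | h | h | h | h | h | h
  · exact (hlt (Fi22.OrdEven.card_u62 h) (by norm_num)).elim
  · exact (hlt (Fi22.OrdEven.card_sp62 h) (by norm_num)).elim
  · exact (hlt (Fi22.OrdEven.card_o82 h) (by norm_num)).elim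
  · exact (hlt (Fi22.OrdEven.card_g24 h) (by norm_num)).elim
  · rw [Fi22.OrdEven.card_f42 h] at h0
    exact absurd h0 (by norm_num)
  · obtain ⟨F, i1, i2, hF, he⟩ := h
    exact (Orders.e26_fi23 ⟨F, i1, i2, 2, Nat.prime_two.isPrimePow, by rw [hF]; norm_num, he⟩ hN).elim
  · exact O X (by tauto) h0 hN
  · exact O X (by tauto) h0 hN
  · exact O X (by tauto) h0 hN
  · exact O X (by tauto) h0 hN
  · exact O X (by tauto) h0 hN
  · exact O X (by tauto) h0 hN
  · exact O X (by tauto) h0 hN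
  · exact O X (by tauto) h0 hN

theorem exc4_fi23 (O : SporOrd.{u}) {X : Type u} [Group X] (h : Exc4 X) (h0 : 64561751654400 ∣ Nat.card X)
    (hp : 0 < Nat.card X) (hN : Nat.card X ≤ 2044735236646502400) : Nat.card X = 64561751654400 := by
  rcases h with h | h
  · have := Nat.le_of_dvd hp h0
    rw [Fi22.OrdEven.card_l34 h] at this
    omega
  · exact O X (by tauto) h0 hN

/-- **the pump-up of `2.Fi₂₂`** -/
theorem pump (M : Mult.{u}) (O : SporOrd.{u}) {G : Type u} [Group G] (C : Ctx G) {K : Subgroup G} (S : Std G K)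
    (hK : Nat.card K = 4089470473293004800) {a : G} {D J : Subgroup G} (ha : orderOf a = 2) (hD : CompOf a D)
    (hJD : J < D) (haJ : a ∈ J) (hJp : ⁅J, J⁆ = J)
    (hJz : ∀ x ∈ J, (∀ y ∈ J, x * y = y * x) → x = 1 ∨ x = a) (hJc : Nat.card J = 129123503308800) : False := by
  obtain ⟨Y, _, hY, hcen, hk, hna, h0, hN, hne⟩ := Orders.Quo.exists_cover C S (n := 64561751654400)
    (N := 2044735236646502400) (by rw [hK]; norm_num) ha hD hJD.le hJD.ne haJ hJp hJz (by rw [hJc])
  have := hY.1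
  have hp : 0 < Nat.card (Y ⧸ center Y) := Nat.card_pos
  have hs := Orders.spor_of_fi23 hk hna h0 hN
  exact hcen (M.spor Y hY hs (fun h => hne (exc2_fi23 O h h0 hp hN)) fun h => hne (exc4_fi23 O h h0 hp hN))

end Cfsg.Agent.OddHalf.D8.Fi23

end
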